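import Groth.Agent.L22.TensorDim
import Groth.Agent.L21.CurvFib.DimExt
import Groth.Agent.L22.SchemeDim
import Mathlib.AlgebraicGeometry.PullbackCarrier

/-!
Components of a base change to a field extension have the dimension of the components below.
-/

universe u

open CategoryTheory CategoryTheory.Limits AlgebraicGeometry Topology
open scoped TensorProduct

namespace Groth.L22.Cyc

/-- Every component of `A ⊗ Ω`, `A` an affine domain, has the dimension of `A`. -/
theorem ringKrullDim_quotient_minimalPrime_field (k Ω : Type u) [Field k] [Field Ω] [Algebra k Ω]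
    (A : Type u) [CommRing A] [IsDomain A] [Algebra k A] [Algebra.FiniteType k A] {a : ℕ}
    (ha : ringKrullDim A = (a : WithBot ℕ∞)) {q : Ideal (A ⊗[k] Ω)}
    (hq : q ∈ minimalPrimes (A ⊗[k] Ω)) :
    ringKrullDim ((A ⊗[k] Ω) ⧸ q) = (a : WithBot ℕ∞) := by
  obtain ⟨a', g, hginj, hgfin, ha', -⟩ := AffineDim.exists_normalization k A
  obtain rfl : a' = a := by exact_mod_cast ha'.symm.trans ha
  let e : (MvPolynomial (Fin a') k ⊗[k] Ω) ≃+* MvPolynomial (Fin a') Ω :=
    (Algebra.TensorProduct.comm k _ Ω).toRingEquiv.trans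
      (MvPolynomial.algebraTensorAlgEquiv k Ω).toRingEquiv
  haveI : IsDomain (MvPolynomial (Fin a') k ⊗[k] Ω) := MulEquiv.isDomain (MvPolynomial (Fin a') Ω) e.toMulEquiv
  let φ := Algebra.TensorProduct.map g (AlgHom.id k Ω)
  haveI : q.IsPrime := hq.1.1
  have hint : φ.toRingHom.IsIntegral := by
    intro z
    induction z with
    | zero => exact RingHom.isIntegralElem_zero _
    | add x y hx hy => exact RingHom.IsIntegralElem.add _ hx hy
    | tmul x w =>
      have h1 : φ.toRingHom.IsIntegralElem (x ⊗ₜ[k] (1 : Ω)) := by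
        obtain ⟨f, hf, hfx⟩ := hgfin.to_isIntegral x
        refine ⟨f.map (Algebra.TensorProduct.includeLeft (R := k) (S := k) (B := Ω)).toRingHom,
          hf.map _, ?_⟩
        rw [Polynomial.eval₂_map]
        have hc : φ.toRingHom.comp (Algebra.TensorProduct.includeLeft (R := k) (S := k) (B := Ω)).toRingHom =
            (Algebra.TensorProduct.includeLeft (R := k) (S := k) (A := A) (B := Ω)).toRingHom.comp g.toRingHom :=
          RingHom.ext fun r => by simp [φ]
        rw [hc]
        have := congrArg (Algebra.TensorProduct.includeLeft (R := k) (S := k) (A := A) (B := Ω)).toRingHom hfx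
        rw [map_zero, Polynomial.hom_eval₂] at this
        exact this
      have h2 : φ.toRingHom.IsIntegralElem ((1 : A) ⊗ₜ[k] w) := by
        have := φ.toRingHom.isIntegralElem_map (x := (1 : MvPolynomial (Fin a') k) ⊗ₜ[k] w)
        simpa [φ] using this
      simpa using RingHom.IsIntegralElem.mul φ.toRingHom h1 h2
  let ψ := (Ideal.Quotient.mk q).comp φ.toRingHom
  have hψi : Function.Injective ψ := by
    rw [injective_iff_map_eq_zero]
    intro c hc
    by_contra hne
    exact notMem_nonZeroDivisors_of_mem_mem_minimalPrimes (Ideal.Quotient.eq_zero_iff_mem.1 hc) hq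
      (mem_nonZeroDivisors_iff_right.2 fun t ht =>
        TensorDim.eq_zero_of_mul k g (AlgHom.id k Ω) hginj Function.injective_id hgfin
          (RingHom.Finite.id Ω) hne (by rw [mul_comm]; exact ht))
  letI := ψ.toAlgebra
  haveI : Algebra.IsIntegral (MvPolynomial (Fin a') k ⊗[k] Ω) ((A ⊗[k] Ω) ⧸ q) :=
    ⟨RingHom.IsIntegral.trans _ _ hint
      (RingHom.isIntegral_of_surjective _ Ideal.Quotient.mk_surjective)⟩
  rw [AffineDim.ringKrullDim_eq_of_isIntegral hψi, ringKrullDim_eq_of_ringEquiv e,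
    MvPolynomial.ringKrullDim_of_isNoetherianRing, ringKrullDim_eq_zero_of_field, zero_add]
  simp

theorem topologicalKrullDim_image_closure {D : Type u} [CommRing D] {T : Type*} [TopologicalSpace T]
    {g : PrimeSpectrum D → T} (hg : IsEmbedding g) (q : PrimeSpectrum D) :
    topologicalKrullDim (g '' closure {q} : Set T) = ringKrullDim (D ⧸ q.asIdeal) := by
  have hclo := PrimeSpectrum.isClosedEmbedding_comap_of_surjective (R := D)
    (D ⧸ q.asIdeal) (Ideal.Quotient.mk q.asIdeal) Ideal.Quotient.mk_surjective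
  rw [SchemeDim.topologicalKrullDim_eq_of_isEmbedding (hg.comp hclo.isEmbedding) (S :=
    g '' closure {q})]
  · exact PrimeSpectrum.topologicalKrullDim_eq_ringKrullDim _
  · rw [Set.range_comp, range_comap_of_surjective _ _ Ideal.Quotient.mk_surjective, Ideal.mk_ker,
      PrimeSpectrum.closure_singleton]

theorem dim_closure_baseChange (k Ω : Type u) [Field k] [Field Ω]
    {F F' : Scheme.{u}} (π : F ⟶ Spec (CommRingCat.of k)) [LocallyOfFiniteType π]
    (ψ : CommRingCat.of k ⟶ CommRingCat.of Ω) (π' : F' ⟶ Spec (CommRingCat.of Ω))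
    (pr : F' ⟶ F) (hpb : IsPullback pr π' π (Spec.map ψ)) {z' : F'}
    (hz' : ∀ w, w ⤳ z' → w = z') {n : ℕ}
    (hn : topologicalKrullDim (closure ({pr z'} : Set F)) = (n : WithBot ℕ∞)) :
    topologicalKrullDim (closure ({z'} : Set F')) = (n : WithBot ℕ∞) := by
  letI : F.Over (Spec (CommRingCat.of k)) := ⟨π⟩
  letI : F'.Over (Spec (CommRingCat.of Ω)) := ⟨π'⟩
  haveI : LocallyOfFiniteType (F ↘ Spec (CommRingCat.of k)) := ‹LocallyOfFiniteType π›
  haveI : LocallyOfFiniteType (F' ↘ Spec (CommRingCat.of Ω)) :=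
    MorphismProperty.of_isPullback hpb ‹LocallyOfFiniteType π›
  set z := pr z' with hz
  obtain ⟨U, hU, hzU, -⟩ :=
    exists_isAffineOpen_mem_and_subset (TopologicalSpace.Opens.mem_top z)
  haveI : IsAffineHom (Spec.map ψ) := inferInstance
  haveI : IsAffineHom pr := MorphismProperty.of_isPullback hpb.flip ‹IsAffineHom (Spec.map ψ)›
  have hU' : IsAffineOpen (pr ⁻¹ᵁ U) := hU.preimage pr
  let p₀ : Spec Γ(F, U) := hU.primeIdealOf ⟨z, hzU⟩
  let P := p₀.asIdeal
  haveI : P.IsPrime := (hU.primeIdealOf ⟨z, hzU⟩).2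
  have hPn : ringKrullDim (Γ(F, U) ⧸ P) = (n : WithBot ℕ∞) := by
    obtain ⟨m, hm, hm'⟩ := SchemeDim.exists_dim_quotient_eq_trdeg k F hU hzU
    obtain ⟨l, hl, hl'⟩ := SchemeDim.exists_dim_closure_eq_trdeg k F z
    rw [hn] at hl
    rw [hm]
    have : m = l := by exact_mod_cast hm'.symm.trans hl'
    rw [this, ← hl]
  let j : Spec (CommRingCat.of (Γ(F, U) ⧸ P)) ⟶ F :=
    Spec.map (CommRingCat.ofHom (Ideal.Quotient.mk P)) ≫ hU.fromSpec
  have hj : Set.range j = closure ({z} : Set F) ∩ U := by
    have hp : hU.fromSpec p₀ = z := hU.fromSpec_primeIdealOf ⟨z, hzU⟩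
    have he := hU.fromSpec.isOpenEmbedding
    have hr : Set.range (PrimeSpectrum.comap (Ideal.Quotient.mk P)) =
        PrimeSpectrum.zeroLocus (P : Set Γ(F, U)) :=
      (range_comap_of_surjective _ _ Ideal.Quotient.mk_surjective).trans
        (congrArg (fun I : Ideal Γ(F, U) => PrimeSpectrum.zeroLocus (I : Set Γ(F, U))) Ideal.mk_ker)
    have hcl : PrimeSpectrum.zeroLocus (P : Set Γ(F, U)) = hU.fromSpec ⁻¹' closure {z} := by
      rw [← PrimeSpectrum.closure_singleton, ← hp,
        he.isOpenMap.preimage_closure_eq_closure_preimage he.continuous]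
      congr 1
      ext q
      exact ⟨fun h => congrArg hU.fromSpec h, fun h => he.injective h⟩
    show Set.range (hU.fromSpec ∘ PrimeSpectrum.comap (Ideal.Quotient.mk P)) = _
    rw [Set.range_comp]
    refine (congrArg (fun s => hU.fromSpec '' s) hr).trans ?_
    refine (congrArg (fun s => hU.fromSpec '' s) hcl).trans ?_
    rw [Set.image_preimage_eq_inter_range, hU.range_fromSpec]
  haveI : LocallyOfFiniteType (Spec.map (CommRingCat.ofHom (Ideal.Quotient.mk P))) :=
    (HasRingHomProperty.Spec_iff (P := @LocallyOfFiniteType)).mpr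
      (RingHom.FiniteType.of_surjective _ Ideal.Quotient.mk_surjective)
  obtain ⟨φ, hφ⟩ := Spec.map_surjective (j ≫ π)
  letI := φ.hom.toAlgebra
  letI := ψ.hom.toAlgebra
  haveI : Algebra.FiniteType k (Γ(F, U) ⧸ P) :=
    (HasRingHomProperty.Spec_iff (P := @LocallyOfFiniteType) (φ := φ)).mp
      (hφ ▸ (inferInstance : LocallyOfFiniteType (j ≫ π)))
  have sq : IsPullback (pullback.snd pr j) (pullback.fst pr j ≫ π') (Spec.map φ) (Spec.map ψ) := by
    rw [hφ]
    exact ((IsPullback.of_hasPullback pr j).flip).paste_vert hpb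
  let e : pullback pr j ≅ Spec (CommRingCat.of ((Γ(F, U) ⧸ P) ⊗[k] Ω)) :=
    sq.isoPullback ≪≫ pullbackSpecIso k (Γ(F, U) ⧸ P) Ω
  haveI : IsPreimmersion (Spec.map (CommRingCat.ofHom (Ideal.Quotient.mk P))) :=
    haveI := IsClosedImmersion.spec_of_surjective (CommRingCat.ofHom (Ideal.Quotient.mk P))
      Ideal.Quotient.mk_surjective
    inferInstance
  haveI : IsPreimmersion j := inferInstance
  have hemb : IsEmbedding (pullback.fst pr j) :=
    (MorphismProperty.pullback_fst (P := @IsPreimmersion) pr j inferInstance).isEmbedding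
  have hrange : Set.range (pullback.fst pr j) = pr ⁻¹' (closure {z} ∩ U) := by
    rw [Scheme.Pullback.range_fst, hj]
  obtain ⟨t, ht⟩ : z' ∈ Set.range (pullback.fst pr j) := by
    rw [hrange]; exact ⟨subset_closure rfl, hzU⟩
  have htmax : ∀ w, w ⤳ t → w = t := fun w hw =>
    hemb.injective ((hz' _ (ht ▸ hw.map (pullback.fst pr j).continuous)).trans ht.symm)
  let q : PrimeSpectrum ((Γ(F, U) ⧸ P) ⊗[k] Ω) := e.hom t
  have hq : q.asIdeal ∈ minimalPrimes ((Γ(F, U) ⧸ P) ⊗[k] Ω) := by
    refine ⟨⟨q.isPrime, bot_le⟩, fun I hI hIq => ?_⟩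
    let qI : PrimeSpectrum ((Γ(F, U) ⧸ P) ⊗[k] Ω) := ⟨I, hI.1⟩
    have hsp : qI ⤳ q := (PrimeSpectrum.le_iff_specializes qI q).1 hIq
    have h1 : e.inv qI = t := htmax _ (by
      have := hsp.map e.inv.continuous
      rwa [show e.inv q = t by simp [q, ← Scheme.Hom.comp_apply]] at this)
    have h2 : qI = q := by
      show qI = e.hom t
      rw [← h1, ← Scheme.Hom.comp_apply, Iso.inv_hom_id]
      rfl
    exact (congrArg PrimeSpectrum.asIdeal h2).ge
  have hD := ringKrullDim_quotient_minimalPrime_field k Ω (Γ(F, U) ⧸ P) hPn hq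
  obtain ⟨m, hm, hm'⟩ := SchemeDim.exists_dim_quotient_eq_trdeg Ω F' hU' (x := z') hzU
  obtain ⟨l, hl, hl'⟩ := SchemeDim.exists_dim_closure_eq_trdeg Ω F' z'
  have hml : m = l := by exact_mod_cast hm'.symm.trans hl'
  rw [hl, ← hml, ← hm, ← SchemeDim.topologicalKrullDim_closure_inter hU' (x := z') hzU, ← hD]
  refine Eq.trans (congrArg (fun S : Set F' => topologicalKrullDim S) ?_)
    (topologicalKrullDim_image_closure
      (g := fun v => pullback.fst pr j (e.inv v))
      (hemb.comp e.inv.homeomorph.isEmbedding) q)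
  have het : e.inv q = t := by simp [q, ← Scheme.Hom.comp_apply]
  refine Eq.symm ((Set.image_comp (pullback.fst pr j) e.inv _).trans
    ((congrArg (fun s => pullback.fst pr j '' s)
    ((e.inv.homeomorph.image_closure {q}).trans
      ((congrArg closure Set.image_singleton).trans
        (congrArg (fun w => closure ({w} : Set _)) het)))).trans ?_))
  rw [hemb.isInducing.closure_eq_preimage_closure_image, Set.image_singleton, ht,
    Set.image_preimage_eq_inter_range, hrange]
  ext y
  constructor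
  · rintro ⟨h1, -, h2⟩; exact ⟨h1, h2⟩
  · rintro ⟨h1, h2⟩
    refine ⟨h1, ?_, h2⟩
    exact closure_minimal (t := pr ⁻¹' closure {z})
      (Set.singleton_subset_iff.2 (subset_closure rfl : z' ∈ pr ⁻¹' closure {z}))
      (isClosed_closure.preimage pr.continuous) h1

end Groth.L22.Cyc
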