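import Groth.Agent.L22.Cyc.FlatRat

/-!
Principal divisors and flat pullbacks have finite support on quasi-compact Noetherian schemes.
-/

universe u

open AlgebraicGeometry CategoryTheory TopologicalSpace

namespace Groth.L22.Cyc

variable {X Y : Scheme.{u}}

/-- A closed set has finitely many maximal points in an affine open. -/
theorem finite_maximal [IsLocallyNoetherian X] {V : X.Opens} (hV : IsAffineOpen V) {Z : Set X}
    (hZ : IsClosed Z) : {t : X | t ∈ V ∧ t ∈ Z ∧ ∀ y ∈ Z, y ⤳ t → y = t}.Finite := by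
  haveI : IsNoetherianRing Γ(X, V) := IsLocallyNoetherian.component_noetherian ⟨V, hV⟩
  haveI : NoetherianSpace (V : Set X) := noetherianSpace_of_isAffineOpen V hV
  haveI : QuasiSober (V : Set X) := inferInstanceAs (QuasiSober ↥V.toScheme)
  obtain ⟨S, hSf, hSc, hSi, hS⟩ := NoetherianSpace.exists_finite_set_isClosed_irreducible
    (α := (V : Set X)) (s := Subtype.val ⁻¹' Z) (hZ.preimage continuous_subtype_val)
  refine (hSf.biUnion' fun T hT =>
    Set.finite_singleton ((hSi T hT).genericPoint : (V : Set X)).1).subset ?_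
  rintro t ⟨htV, htZ, htmax⟩
  have ht : (⟨t, htV⟩ : (V : Set X)) ∈ Subtype.val ⁻¹' Z := htZ
  rw [hS, Set.mem_sUnion] at ht
  obtain ⟨T, hT, htT⟩ := ht
  refine Set.mem_iUnion₂.2 ⟨T, hT, Set.mem_singleton_iff.2 ?_⟩
  have hgen := (hSi T hT).genericPoint_closure_eq
  rw [(hSc T hT).closure_eq] at hgen
  have hmem : (hSi T hT).genericPoint ∈ T := hgen.le (subset_closure rfl)
  have hsp : (hSi T hT).genericPoint ⤳ (⟨t, htV⟩ : (V : Set X)) :=
    specializes_iff_mem_closure.2 (hgen.ge htT)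
  refine (htmax _ ?_ (hsp.map continuous_subtype_val)).symm
  have : (hSi T hT).genericPoint ∈ Subtype.val ⁻¹' Z := by
    rw [hS]; exact Set.mem_sUnion.2 ⟨T, hT, hmem⟩
  exact this

theorem finite_of_finite_inter_affine [CompactSpace X] {S : Set X}
    (h : ∀ V : X.Opens, IsAffineOpen V → (S ∩ V).Finite) : S.Finite := by
  choose V hV hxV using fun x : X => exists_isAffineOpen_mem_and_subset (x := x) (U := ⊤) trivial
  obtain ⟨T, hT⟩ := isCompact_univ.elim_finite_subcover (fun x : X => (V x : Set X))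
    (fun x => (V x).2) (fun x _ => Set.mem_iUnion.2 ⟨x, (hxV x).1⟩)
  refine ((Finset.finite_toSet T).biUnion fun x _ => h (V x) (hV x)).subset fun s hs => ?_
  obtain ⟨x, hx, hsx⟩ := Set.mem_iUnion₂.1 (hT (Set.mem_univ s))
  exact Set.mem_biUnion hx ⟨hs, hsx⟩

theorem finite_support_divFun_inter [IsLocallyNoetherian X] {δ : X → ℤ}
    (hδ : Cyc.IsDimFun X δ) (ξ : X) (g : X.residueField ξ) (hg : g ≠ 0) {V : X.Opens}
    (hV : IsAffineOpen V) : (Function.support (Cyc.divFun δ ξ g) ∩ (V : Set X)).Finite := by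
  by_cases hξV : ξ ∈ V
  swap
  · refine Set.finite_empty.subset ?_
    rintro x ⟨hx, hxV⟩
    rw [Function.mem_support, Cyc.divFun] at hx
    split_ifs at hx with h
    · exact hξV (h.1.mem_open V.2 hxV)
    · exact hx rfl
  letI := X.presheaf.algebra_section_stalk (⟨ξ, hξV⟩ : V)
  haveI : IsLocalization.AtPrime (X.presheaf.stalk ξ) (hV.primeIdealOf ⟨ξ, hξV⟩).asIdeal :=
    hV.isLocalization_stalk ⟨ξ, hξV⟩
  obtain ⟨s, rfl⟩ := X.residue_surjective ξ g
  obtain ⟨⟨a, b⟩, hab⟩ := IsLocalization.surj (hV.primeIdealOf ⟨ξ, hξV⟩).asIdeal.primeCompl s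
  have hb : IsUnit ((X.presheaf.germ V ξ hξV).hom b.1) :=
    IsLocalization.map_units (X.presheaf.stalk ξ) b
  have hs : IsUnit s := (isUnit_iff_residue_ne_zero ξ s).2 hg
  have hab' : s * (X.presheaf.germ V ξ hξV).hom b.1 = (X.presheaf.germ V ξ hξV).hom a := hab
  have ha : IsUnit ((X.presheaf.germ V ξ hξV).hom a) := hab' ▸ hs.mul hb
  let Z : Set X := closure {ξ} ∩ ((X.basicOpen a ⊓ X.basicOpen b.1 : X.Opens) : Set X)ᶜ
  have hξZ : ξ ∉ Z := fun h => h.2 ⟨(X.mem_basicOpen a ξ hξV).2 ha,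
    (X.mem_basicOpen b.1 ξ hξV).2 hb⟩
  refine (finite_maximal hV (isClosed_closure.inter
    (X.basicOpen a ⊓ X.basicOpen b.1).2.isClosed_compl : IsClosed Z)).subset ?_
  rintro x ⟨hx, hxV⟩
  rw [Function.mem_support, Cyc.divFun] at hx
  split_ifs at hx with h
  swap
  · exact absurd rfl hx
  refine ⟨hxV, ⟨specializes_iff_mem_closure.1 h.1, fun hU => hx ?_⟩, fun y hy hyx => ?_⟩
  · have hua := (X.mem_basicOpen a x hxV).1 hU.1
    have hub := (X.mem_basicOpen b.1 x hxV).1 hU.2
    have h1 : ∀ c : Γ(X, V), Cyc.specMap x ξ h.1 ((X.presheaf.germ V x hxV).hom c) =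
        (X.residue ξ).hom ((X.presheaf.germ V ξ hξV).hom c) := fun c => by
      rw [specMap_eq_residue]
      exact congrArg (X.residue ξ).hom (TopCat.Presheaf.germ_stalkSpecializes_apply _ hxV h.1 c)
    have h2 : (X.residue ξ).hom s = Cyc.specMap x ξ h.1 ((X.presheaf.germ V x hxV).hom a) /
        Cyc.specMap x ξ h.1 ((X.presheaf.germ V x hxV).hom b.1) := by
      rw [h1, h1, eq_div_iff (hb.map _).ne_zero, ← map_mul, hab']
    change Cyc.ordAt x ξ h.1 ((X.residue ξ).hom s) = 0
    rw [h2, ordAt_div_gen hδ x ξ h.1 h.2 (hua.map _).ne_zero (hub.map _).ne_zero,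
      Ring.ord_of_isUnit (hua.map (Ideal.Quotient.mk _)),
      Ring.ord_of_isUnit (hub.map (Ideal.Quotient.mk _))]
    simp
  · by_contra hne
    have hy1 : ξ ⤳ y := specializes_iff_mem_closure.2 hy.1
    have hy2 : ξ ≠ y := fun e => hξZ (e ▸ hy)
    have h3 := (hδ y x hyx hne).1
    have h4 := (hδ ξ y hy1 hy2).1
    omega

theorem finite_support_divFun [IsLocallyNoetherian X] [CompactSpace X] {δ : X → ℤ}
    (hδ : Cyc.IsDimFun X δ) (ξ : X) (g : X.residueField ξ) (hg : g ≠ 0) :
    (Function.support (Cyc.divFun δ ξ g)).Finite :=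
  finite_of_finite_inter_affine fun _ hV => finite_support_divFun_inter hδ ξ g hg hV

theorem finite_support_divFun_inter_compact [IsLocallyNoetherian X] {δ : X → ℤ}
    (hδ : Cyc.IsDimFun X δ) (ξ : X) (g : X.residueField ξ) (hg : g ≠ 0) {C : Set X}
    (hC : IsCompact C) : (Function.support (Cyc.divFun δ ξ g) ∩ C).Finite := by
  choose V hV hxV using fun x : X => exists_isAffineOpen_mem_and_subset (x := x) (U := ⊤) trivial
  obtain ⟨T, hT⟩ := hC.elim_finite_subcover (fun x : X => (V x : Set X))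
    (fun x => (V x).2) (fun x _ => Set.mem_iUnion.2 ⟨x, (hxV x).1⟩)
  refine ((Finset.finite_toSet T).biUnion fun x _ =>
    finite_support_divFun_inter hδ ξ g hg (hV x)).subset fun s hs => ?_
  obtain ⟨x, hx, hsx⟩ := Set.mem_iUnion₂.1 (hT hs.2)
  exact Set.mem_biUnion hx ⟨hs.1, hsx⟩

theorem finite_support_pull [IsLocallyNoetherian X] [CompactSpace X] (f : X ⟶ Y) {α : Y → ℤ}
    (hα : (Function.support α).Finite) :
    (Function.support fun x => α (f x) * ((mult f x).toNat : ℤ)).Finite := by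
  refine finite_of_finite_inter_affine fun V hV => ?_
  refine (hα.biUnion fun s _ => finite_fibGen_over f hV s).subset ?_
  rintro x ⟨hx, hxV⟩
  rw [Function.mem_support, mul_ne_zero_iff] at hx
  refine Set.mem_biUnion (x := f x) hx.1 ⟨hxV, ?_, rfl⟩
  by_contra h
  exact hx.2 (by simp [mult_eq_top h])

theorem exists_cycle_of_finite (F : X → ℤ) (h : (Function.support F).Finite) :
    ∃ α : AlgebraicCycle X ℤ, ⇑α = F := by
  classical
  refine ⟨∑ x ∈ h.toFinset, Function.locallyFinsuppWithin.single x (F x), funext fun t => ?_⟩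
  simp only [Function.locallyFinsuppWithin.coe_sum, Finset.sum_apply]
  simp [Pi.single_apply]
  intro ht
  exact ht.symm

end Groth.L22.Cyc
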