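import Mathlib.RingTheory.Length
import Mathlib.RingTheory.FiniteLength
import Mathlib.RingTheory.Flat.FaithfullyFlat.Algebra
import Mathlib.RingTheory.TensorProduct.Quotient
import Mathlib.RingTheory.LocalRing.ResidueField.Basic

/-!
Lengths multiply along flat local homomorphisms.
-/

universe u

open TensorProduct

namespace Groth.L22.Cyc

variable {B C : Type u} [CommRing B] [CommRing C] [Algebra B C]

theorem length_le_length_tensor [Module.FaithfullyFlat B C] (M : Type u) [AddCommGroup M]
    [Module B M] : Module.length B M ≤ Module.length C (C ⊗[B] M) := by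
  have hmono : StrictMono (fun N : Submodule B M => LinearMap.range (N.subtype.baseChange C)) := by
    refine Monotone.strictMono_of_injective ?_ ?_
    · intro N N' h
      have : N.subtype = N'.subtype ∘ₗ Submodule.inclusion h := rfl
      show LinearMap.range (N.subtype.baseChange C) ≤ _
      rw [this, LinearMap.baseChange_comp]
      exact LinearMap.range_comp_le_range _ _
    · intro N N' h
      have key : ∀ (P : Submodule B M) (m : M),
          (1 : C) ⊗ₜ[B] m ∈ LinearMap.range (P.subtype.baseChange C) → m ∈ P := by
        intro P m hm
        have h0 : (P.mkQ.baseChange C) ((1 : C) ⊗ₜ[B] m) = 0 := by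
          obtain ⟨z, hz⟩ := hm
          rw [← hz, ← LinearMap.comp_apply, ← LinearMap.baseChange_comp, (LinearMap.exact_subtype_mkQ P).linearMap_comp_eq_zero,
            LinearMap.baseChange_zero, LinearMap.zero_apply]
        rw [LinearMap.baseChange_tmul] at h0
        exact (Submodule.Quotient.mk_eq_zero P).mp
          (Module.FaithfullyFlat.tensorProduct_mk_injective (A := B) (B := C) (M ⧸ P)
            (by simpa using h0))
      refine le_antisymm (fun m hm => key N' m ?_) (fun m hm => key N m ?_)
      · rw [← show LinearMap.range (N.subtype.baseChange C) =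
          LinearMap.range (N'.subtype.baseChange C) from h]
        exact ⟨(1 : C) ⊗ₜ[B] (⟨m, hm⟩ : N), by simp⟩
      · rw [show LinearMap.range (N.subtype.baseChange C) =
          LinearMap.range (N'.subtype.baseChange C) from h]
        exact ⟨(1 : C) ⊗ₜ[B] (⟨m, hm⟩ : N'), by simp⟩
  have h := Order.krullDim_le_of_strictMono _ hmono
  rw [← Module.coe_length, ← Module.coe_length] at h
  exact WithBot.coe_le_coe.mp h

/-- The length of a base change along a flat local homomorphism. -/
theorem length_tensor [IsLocalRing B] [IsLocalRing C] [Module.Flat B C]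
    [IsLocalHom (algebraMap B C)] (M : Type u) [AddCommGroup M] [Module B M] :
    Module.length C (C ⊗[B] M) =
      Module.length B M * Module.length C (C ⊗[B] (B ⧸ IsLocalRing.maximalIdeal B)) := by
  haveI : Module.FaithfullyFlat B C := Module.FaithfullyFlat.of_flat_of_isLocalHom
  by_cases hM : IsFiniteLength B M
  · induction hM with
    | of_subsingleton =>
      rw [Module.length_eq_zero, Module.length_eq_zero, zero_mul]
    | @of_simple_quotient M _ _ N _ _ ih =>
      obtain ⟨m, hm, ⟨e⟩⟩ := isSimpleModule_iff_quot_maximal.mp ‹IsSimpleModule B (M ⧸ N)›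
      obtain rfl : m = IsLocalRing.maximalIdeal B := IsLocalRing.eq_maximalIdeal hm
      have hB : Module.length B M = Module.length B N + Module.length B (M ⧸ N) :=
        Module.length_eq_add_of_exact N.subtype N.mkQ N.subtype_injective N.mkQ_surjective
          (LinearMap.exact_subtype_mkQ N)
      have hC : Module.length C (C ⊗[B] M) =
          Module.length C (C ⊗[B] N) + Module.length C (C ⊗[B] (M ⧸ N)) :=
        Module.length_eq_add_of_exact (N.subtype.baseChange C) (N.mkQ.baseChange C)
          (by
            rw [LinearMap.baseChange_eq_ltensor]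
            exact Module.Flat.lTensor_preserves_injective_linearMap _ N.subtype_injective)
          (by
            rw [LinearMap.baseChange_eq_ltensor]
            exact LinearMap.lTensor_surjective _ N.mkQ_surjective)
          (by
            rw [LinearMap.baseChange_eq_ltensor, LinearMap.baseChange_eq_ltensor]
            exact lTensor_exact C (LinearMap.exact_subtype_mkQ N) N.mkQ_surjective)
      rw [hB, hC, ih, Module.length_eq_one B (M ⧸ N), add_mul, one_mul]
      congr 1
      exact (LinearEquiv.baseChange B C _ _ e).length_eq
  · have h1 : Module.length B M = ⊤ := by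
      by_contra h
      exact hM (Module.length_ne_top_iff.mp h)
    have h2 : Module.length C (C ⊗[B] M) = ⊤ := top_le_iff.mp (h1 ▸ length_le_length_tensor M)
    have h3 : Module.length C (C ⊗[B] (B ⧸ IsLocalRing.maximalIdeal B)) ≠ 0 := by
      rw [← pos_iff_ne_zero, Module.length_pos_iff]
      haveI : Nontrivial (B ⧸ IsLocalRing.maximalIdeal B) := Ideal.Quotient.nontrivial_iff.mpr
        (IsLocalRing.maximalIdeal.isMaximal B).ne_top
      infer_instance
    rw [h1, h2, ENat.top_mul h3]

/-- Multiplicativity of the lengths of the closed fibre. -/
theorem length_quotient_map [IsLocalRing B] [IsLocalRing C] [Module.Flat B C]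
    [IsLocalHom (algebraMap B C)] (I : Ideal B) :
    Module.length C (C ⧸ I.map (algebraMap B C)) =
      Module.length B (B ⧸ I) *
        Module.length C (C ⧸ (IsLocalRing.maximalIdeal B).map (algebraMap B C)) := by
  rw [(Algebra.TensorProduct.quotIdealMapEquivTensorQuot C I).toLinearEquiv.length_eq,
    (Algebra.TensorProduct.quotIdealMapEquivTensorQuot C
      (IsLocalRing.maximalIdeal B)).toLinearEquiv.length_eq]
  exact length_tensor (B ⧸ I)

end Groth.L22.Cyc
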