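import Groth.Prelude.Def_Cyc
import Groth.Agent.L22.Cyc.LenTensor
import Mathlib.AlgebraicGeometry.Stalk
import Mathlib.AlgebraicGeometry.Morphisms.Flat
import Mathlib.AlgebraicGeometry.Morphisms.UniversallyOpen
import Mathlib.RingTheory.Artinian.Ring

/-!
Multiplicities of fibres at points, and the flat pull-back of cycles in terms of them.
-/

universe u

open AlgebraicGeometry CategoryTheory

namespace Groth.L22.Cyc

variable {X Y Z : Scheme.{u}}

/-- `x` is maximal under generalisation in its fibre. -/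
def FibGen (f : X ⟶ Y) (x : X) : Prop := ∀ y, f y = f x → y ⤳ x → y = x

/-- The ideal of the fibre in the local ring at `x`. -/
noncomputable abbrev fibIdeal (f : X ⟶ Y) (x : X) : Ideal (X.presheaf.stalk x) :=
  Ideal.map (f.stalkMap x).hom (IsLocalRing.maximalIdeal (Y.presheaf.stalk (f x)))

/-- The length of the local ring of the fibre. -/
noncomputable def mult (f : X ⟶ Y) (x : X) : ℕ∞ :=
  Module.length (X.presheaf.stalk x) (X.presheaf.stalk x ⧸ fibIdeal f x)

theorem fibIdeal_le (f : X ⟶ Y) (x : X) :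
    fibIdeal f x ≤ IsLocalRing.maximalIdeal (X.presheaf.stalk x) :=
  ((IsLocalRing.local_hom_TFAE (f.stalkMap x).hom).out 0 2).mp (f.toLRSHom.prop x)

theorem one_le_mult (f : X ⟶ Y) (x : X) : 1 ≤ mult f x := by
  haveI : Nontrivial (X.presheaf.stalk x ⧸ fibIdeal f x) := Ideal.Quotient.nontrivial_iff.mpr
    (ne_top_of_le_ne_top (IsLocalRing.maximalIdeal.isMaximal _).ne_top (fibIdeal_le f x))
  exact Order.one_le_iff_pos.mpr Module.length_pos

theorem apply_fromSpecStalk (f : X ⟶ Y) (x : X) (p : PrimeSpectrum (X.presheaf.stalk x)) :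
    f (X.fromSpecStalk x p) = Y.fromSpecStalk (f x) (PrimeSpectrum.comap (f.stalkMap x).hom p) := by
  rw [← Scheme.Hom.comp_apply, ← Scheme.SpecMap_stalkMap_fromSpecStalk, Scheme.Hom.comp_apply]
  rfl

theorem fibIdeal_le_iff (f : X ⟶ Y) (x : X) (p : PrimeSpectrum (X.presheaf.stalk x)) :
    fibIdeal f x ≤ p.asIdeal ↔ f (X.fromSpecStalk x p) = f x := by
  rw [apply_fromSpecStalk, fibIdeal, Ideal.map_le_iff_le_comap]
  constructor
  · intro h
    have : PrimeSpectrum.comap (f.stalkMap x).hom p = IsLocalRing.closedPoint _ :=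
      PrimeSpectrum.ext (((IsLocalRing.maximalIdeal.isMaximal _).eq_of_le
        (PrimeSpectrum.comap (f.stalkMap x).hom p).isPrime.ne_top h).symm)
    rw [this]
    exact Scheme.fromSpecStalk_closedPoint
  · intro h
    have : PrimeSpectrum.comap (f.stalkMap x).hom p = IsLocalRing.closedPoint _ :=
      (Y.fromSpecStalk (f x)).isEmbedding.injective (h.trans Scheme.fromSpecStalk_closedPoint.symm)
    exact (congrArg PrimeSpectrum.asIdeal this).ge

theorem exists_prime_of_specializes {x y : X} (h : y ⤳ x) :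
    ∃ p : PrimeSpectrum (X.presheaf.stalk x), X.fromSpecStalk x p = y := by
  have h' : y ∈ Set.range (X.fromSpecStalk x) := by rw [Scheme.range_fromSpecStalk]; exact h
  exact h'

theorem specializes_fromSpecStalk (x : X) (p : PrimeSpectrum (X.presheaf.stalk x)) :
    X.fromSpecStalk x p ⤳ x := by
  have h' : X.fromSpecStalk x p ∈ Set.range (X.fromSpecStalk x) := ⟨p, rfl⟩
  rwa [Scheme.range_fromSpecStalk] at h'

variable [IsLocallyNoetherian X]

theorem fibGen_iff (f : X ⟶ Y) (x : X) : FibGen f x ↔ mult f x ≠ ⊤ := by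
  constructor
  · intro h
    haveI : Ring.KrullDimLE 0 (X.presheaf.stalk x ⧸ fibIdeal f x) := by
      refine Ring.krullDimLE_zero_iff.mpr fun P hP => ?_
      let p : PrimeSpectrum (X.presheaf.stalk x) :=
        ⟨P.comap (Ideal.Quotient.mk (fibIdeal f x)), inferInstance⟩
      have hle : fibIdeal f x ≤ p.asIdeal := by
        intro a ha
        rw [Ideal.mem_comap, Ideal.Quotient.eq_zero_iff_mem.mpr ha]
        exact P.zero_mem
      have hp : p = IsLocalRing.closedPoint _ :=
        (X.fromSpecStalk x).isEmbedding.injective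
          ((h _ ((fibIdeal_le_iff f x p).mp hle) (specializes_fromSpecStalk x p)).trans
            Scheme.fromSpecStalk_closedPoint.symm)
      haveI : p.asIdeal.IsMaximal := by rw [hp]; exact IsLocalRing.maximalIdeal.isMaximal _
      have hP' : P = p.asIdeal.map (Ideal.Quotient.mk (fibIdeal f x)) :=
        (Ideal.map_comap_of_surjective _ Ideal.Quotient.mk_surjective P).symm
      rw [hP']
      exact Ideal.IsMaximal.map_of_surjective_of_ker_le Ideal.Quotient.mk_surjective
        (by rw [Ideal.mk_ker]; exact hle)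
    haveI : IsArtinianRing (X.presheaf.stalk x ⧸ fibIdeal f x) :=
      IsNoetherianRing.isArtinianRing_of_krullDimLE_zero
    rw [mult, Module.length_eq_of_surjective (S := X.presheaf.stalk x)
      (R := X.presheaf.stalk x ⧸ fibIdeal f x) Ideal.Quotient.mk_surjective]
    exact Module.length_ne_top
  · intro h y hy hyx
    obtain ⟨p, rfl⟩ := exists_prime_of_specializes hyx
    have hle := (fibIdeal_le_iff f x p).mpr hy
    haveI hfl : IsFiniteLength (X.presheaf.stalk x) (X.presheaf.stalk x ⧸ fibIdeal f x) :=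
      Module.length_ne_top_iff.mp h
    have hart := (isFiniteLength_iff_isNoetherian_isArtinian.mp hfl).2
    haveI : IsArtinianRing (X.presheaf.stalk x ⧸ fibIdeal f x) := isArtinian_of_tower _ hart
    let q : Ideal (X.presheaf.stalk x ⧸ fibIdeal f x) :=
      p.asIdeal.map (Ideal.Quotient.mk (fibIdeal f x))
    have hq : q.IsPrime := Ideal.map_isPrime_of_surjective Ideal.Quotient.mk_surjective
      (by rw [Ideal.mk_ker]; exact hle)
    have hmax : q.IsMaximal := IsArtinianRing.isMaximal_of_isPrime q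
    haveI := Ideal.comap_isMaximal_of_surjective (Ideal.Quotient.mk (fibIdeal f x))
      Ideal.Quotient.mk_surjective (K := q)
    have hp : p.asIdeal = IsLocalRing.maximalIdeal (X.presheaf.stalk x) := by
      rw [← IsLocalRing.eq_maximalIdeal (this), Ideal.comap_map_of_surjective _
        Ideal.Quotient.mk_surjective, ← RingHom.ker_eq_comap_bot, Ideal.mk_ker,
        sup_eq_left.mpr hle]
    rw [show p = IsLocalRing.closedPoint _ from PrimeSpectrum.ext hp]
    exact Scheme.fromSpecStalk_closedPoint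

/-- Every point is a specialisation of a fibre-generic point of its fibre. -/
theorem exists_fibGen (f : X ⟶ Y) (x : X) : ∃ y, f y = f x ∧ y ⤳ x ∧ FibGen f y := by
  obtain ⟨P, hP, -⟩ := Ideal.exists_minimalPrimes_le (fibIdeal_le f x)
  let p : PrimeSpectrum (X.presheaf.stalk x) := ⟨P, hP.1.1⟩
  refine ⟨X.fromSpecStalk x p, (fibIdeal_le_iff f x p).mp hP.1.2, specializes_fromSpecStalk x p,
    fun y hy hyp => ?_⟩
  obtain ⟨r, rfl⟩ := exists_prime_of_specializes (hyp.trans (specializes_fromSpecStalk x p))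
  have hr : fibIdeal f x ≤ r.asIdeal :=
    (fibIdeal_le_iff f x r).mpr (hy.trans ((fibIdeal_le_iff f x p).mp hP.1.2))
  have hrp : r.asIdeal ≤ p.asIdeal := (PrimeSpectrum.le_iff_specializes r p).mpr
    ((X.fromSpecStalk x).isEmbedding.isInducing.specializes_iff.mp hyp)
  rw [show r = p from PrimeSpectrum.ext (le_antisymm hrp (hP.2 ⟨r.isPrime, hr⟩ hrp))]

theorem mult_eq_top {f : X ⟶ Y} {x : X} (h : ¬ FibGen f x) : mult f x = ⊤ :=
  not_not.mp fun h' => h ((fibGen_iff f x).mpr h')

theorem toNat_mult_pos {f : X ⟶ Y} {x : X} (h : FibGen f x) : 0 < (mult f x).toNat := by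
  have h1 := one_le_mult f x
  have h2 := (fibGen_iff f x).mp h
  obtain ⟨m, hm⟩ := ENat.ne_top_iff_exists.mp h2
  rw [← hm, ENat.toNat_natCast]
  rw [← hm] at h1
  exact_mod_cast h1

omit [IsLocallyNoetherian X]

theorem mult_congr (f : X ⟶ Y) {f' : X ⟶ Y} (h : f = f') (x : X) : mult f x = mult f' x := by
  subst h; rfl

theorem fibIdeal_comp (f : X ⟶ Y) (g : Y ⟶ Z) (x : X) :
    fibIdeal (f ≫ g) x = (fibIdeal g (f x)).map (f.stalkMap x).hom := by
  have key : ((f ≫ g).stalkMap x).hom = (f.stalkMap x).hom.comp (g.stalkMap (f x)).hom :=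
    congrArg CommRingCat.Hom.hom (Scheme.Hom.stalkMap_comp f g x)
  unfold fibIdeal
  rw [key]
  exact (Ideal.map_map _ _).symm

theorem mult_comp (f : X ⟶ Y) [Flat f] (g : Y ⟶ Z) (x : X) :
    mult (f ≫ g) x = mult g (f x) * mult f x := by
  letI := (f.stalkMap x).hom.toAlgebra
  haveI : Module.Flat (Y.presheaf.stalk (f x)) (X.presheaf.stalk x) := Flat.stalkMap f x
  haveI : IsLocalHom (algebraMap (Y.presheaf.stalk (f x)) (X.presheaf.stalk x)) := f.toLRSHom.prop x
  have h : fibIdeal (f ≫ g) x = (fibIdeal g (f x)).map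
      (algebraMap (Y.presheaf.stalk (f x)) (X.presheaf.stalk x)) := by
    exact fibIdeal_comp f g x
  rw [mult, h]
  exact length_quotient_map _

/-- The flat pull-back is multiplication by the fibre multiplicity. -/
theorem pullFun_eq [IsLocallyNoetherian X] (f : X ⟶ Y) {δX : X → ℤ} {δY : Y → ℤ}
    (hX : Cyc.IsDimFun X δX) {c : ℤ} (hc : ∀ x, FibGen f x → δX x = δY (f x) + c) (α : Y → ℤ) :
    Cyc.pullFun f δX δY c α = fun x => α (f x) * ((mult f x).toNat : ℤ) := by
  funext x
  simp only [Cyc.pullFun]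
  by_cases h : FibGen f x
  · rw [if_pos (hc x h)]
    rfl
  · rw [mult_eq_top h, if_neg ?_]
    · simp
    obtain ⟨y, hy, hyx, hgy⟩ := exists_fibGen f x
    have hne : y ≠ x := fun e => h (e ▸ hgy)
    have h1 := (hX y x hyx hne).1
    have h2 := hc y hgy
    rw [hy] at h2
    omega

/-- As `pullFun_eq`: an infinite length is read as `0`, so no dimension function is needed. -/
theorem pullFun_eq' [IsLocallyNoetherian X] (f : X ⟶ Y) {δX : X → ℤ} {δY : Y → ℤ}
    {c : ℤ} (hc : ∀ x, FibGen f x → δX x = δY (f x) + c) (α : Y → ℤ) :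
    Cyc.pullFun f δX δY c α = fun x => α (f x) * ((mult f x).toNat : ℤ) := by
  funext x
  simp only [Cyc.pullFun]
  by_cases h : FibGen f x
  · rw [if_pos (hc x h)]
    rfl
  · rw [mult_eq_top h]
    have h0 := mult_eq_top h
    unfold mult at h0
    rw [h0]
    simp

theorem FibGen.left_of_comp {f : X ⟶ Y} {g : Y ⟶ Z} {x : X} (h : FibGen (f ≫ g) x) : FibGen f x :=
  fun y hy hyx => h y (by simp [hy]) hyx

theorem FibGen.right_of_comp {f : X ⟶ Y} [Flat f] {g : Y ⟶ Z} {x : X} (h : FibGen (f ≫ g) x) :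
    FibGen g (f x) := fun y' hy' hy'x => by
  obtain ⟨y, hyx, rfl⟩ := Flat.generalizingMap f hy'x
  rw [h y (by simpa using hy') hyx]

theorem FibGen.comp {f : X ⟶ Y} {g : Y ⟶ Z} {x : X} (hf : FibGen f x) (hg : FibGen g (f x)) :
    FibGen (f ≫ g) x := fun y hy hyx =>
  hf y (hg (f y) (by simpa using hy) (hyx.map f.continuous)) hyx

end Groth.L22.Cyc
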