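import Groth.Agent.L22.Cyc.Ord
import Groth.Agent.L22.LocQuotDim
import Mathlib.RingTheory.Localization.LocalizationLocalization

/-!
Orders of rational functions along immediate specializations in any locally Noetherian scheme.
-/

universe u

open AlgebraicGeometry CategoryTheory

namespace Groth.L22.Cyc

variable {X Y : Scheme.{u}}

theorem specMap_eq_residue (x ξ : X) (h : ξ ⤳ x) (a : X.presheaf.stalk x) :
    Cyc.specMap x ξ h a = (X.residue ξ).hom ((X.presheaf.stalkSpecializes h).hom a) := rfl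

theorem isUnit_iff_residue_ne_zero (ξ : X) (a : X.presheaf.stalk ξ) :
    IsUnit a ↔ (X.residue ξ).hom a ≠ 0 := (IsLocalRing.residue_ne_zero_iff_isUnit a).symm

/-- The local ring at `ξ` is the localization of the local ring at a specialization `x`. -/
theorem isLocalization_stalkSpecializes {x ξ : X} (h : ξ ⤳ x) :
    letI := (X.presheaf.stalkSpecializes h).hom.toAlgebra
    haveI : (RingHom.ker (Cyc.specMap x ξ h)).IsPrime := RingHom.ker_isPrime _
    IsLocalization.AtPrime (X.presheaf.stalk ξ) (RingHom.ker (Cyc.specMap x ξ h)) := by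
  letI := (X.presheaf.stalkSpecializes h).hom.toAlgebra
  haveI : (RingHom.ker (Cyc.specMap x ξ h)).IsPrime := RingHom.ker_isPrime _
  obtain ⟨U, hU, hxU, -⟩ := exists_isAffineOpen_mem_and_subset (x := x) (U := ⊤) trivial
  have hξU : ξ ∈ U := h.mem_open U.2 hxU
  letI := X.presheaf.algebra_section_stalk (⟨x, hxU⟩ : U)
  letI : Algebra Γ(X, U) (X.presheaf.stalk ξ) :=
    X.presheaf.algebra_section_stalk (⟨ξ, hξU⟩ : U)
  haveI : IsScalarTower Γ(X, U) (X.presheaf.stalk x) (X.presheaf.stalk ξ) :=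
    IsScalarTower.of_algebraMap_eq' (congrArg CommRingCat.Hom.hom
      (X.presheaf.germ_stalkSpecializes (hy := hxU) h)).symm
  haveI h1 : IsLocalization.AtPrime (X.presheaf.stalk x) (hU.primeIdealOf ⟨x, hxU⟩).asIdeal :=
    hU.isLocalization_stalk ⟨x, hxU⟩
  haveI h2 : IsLocalization.AtPrime (X.presheaf.stalk ξ) (hU.primeIdealOf ⟨ξ, hξU⟩).asIdeal :=
    hU.isLocalization_stalk ⟨ξ, hξU⟩
  have hle : (hU.primeIdealOf ⟨x, hxU⟩).asIdeal.primeCompl ≤
      (hU.primeIdealOf ⟨ξ, hξU⟩).asIdeal.primeCompl := by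
    intro s hs
    have hu : IsUnit (algebraMap Γ(X, U) (X.presheaf.stalk ξ) s) := by
      rw [IsScalarTower.algebraMap_apply Γ(X, U) (X.presheaf.stalk x) (X.presheaf.stalk ξ)]
      exact (IsLocalization.map_units (X.presheaf.stalk x) ⟨s, hs⟩).map _
    exact (IsLocalization.AtPrime.isUnit_to_map_iff (X.presheaf.stalk ξ)
      (hU.primeIdealOf ⟨ξ, hξU⟩).asIdeal s).1 hu
  haveI h3 := IsLocalization.isLocalization_of_submonoid_le (X.presheaf.stalk x)
    (X.presheaf.stalk ξ) _ _ hle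
  refine IsLocalization.of_le (M := (hU.primeIdealOf ⟨ξ, hξU⟩).asIdeal.primeCompl.map
    (algebraMap Γ(X, U) (X.presheaf.stalk x))) _ ?_ ?_
  · rintro _ ⟨s, hs, rfl⟩ hker
    have h4 : (X.residue ξ).hom (algebraMap Γ(X, U) (X.presheaf.stalk ξ) s) = 0 := by
      rw [IsScalarTower.algebraMap_apply Γ(X, U) (X.presheaf.stalk x) (X.presheaf.stalk ξ)]
      exact hker
    exact (isUnit_iff_residue_ne_zero ξ _).1
      (IsLocalization.map_units (X.presheaf.stalk ξ) ⟨s, hs⟩) h4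
  · intro r hr
    exact (isUnit_iff_residue_ne_zero ξ _).2 hr

/-- The maximal ideal at `ξ` is generated by the prime of `ξ` at any specialization. -/
theorem map_ker_specMap {x ξ : X} (h : ξ ⤳ x) :
    (RingHom.ker (Cyc.specMap x ξ h)).map (X.presheaf.stalkSpecializes h).hom =
      IsLocalRing.maximalIdeal (X.presheaf.stalk ξ) := by
  letI := (X.presheaf.stalkSpecializes h).hom.toAlgebra
  haveI : (RingHom.ker (Cyc.specMap x ξ h)).IsPrime := RingHom.ker_isPrime _
  haveI := isLocalization_stalkSpecializes h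
  refine le_antisymm (Ideal.map_le_iff_le_comap.2 fun a ha => ?_) fun s hs => ?_
  · exact (IsLocalRing.residue_eq_zero_iff _).1 ha
  · obtain ⟨⟨a, b⟩, hab⟩ := IsLocalization.surj (RingHom.ker (Cyc.specMap x ξ h)).primeCompl s
    have ha : a ∈ RingHom.ker (Cyc.specMap x ξ h) := by
      have h0 : (X.residue ξ).hom s = 0 := (IsLocalRing.residue_eq_zero_iff s).2 hs
      have h1 := congrArg (X.residue ξ).hom hab
      rw [map_mul, h0, zero_mul] at h1
      exact h1.symm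
    obtain ⟨v, hv⟩ := (IsLocalization.map_units (X.presheaf.stalk ξ) b :
      IsUnit (algebraMap (X.presheaf.stalk x) (X.presheaf.stalk ξ) b))
    have hs' : s = algebraMap (X.presheaf.stalk x) (X.presheaf.stalk ξ) a * ↑v⁻¹ := by
      rw [Units.eq_mul_inv_iff_mul_eq, hv]; exact hab
    rw [hs']
    exact Ideal.mul_mem_right _ _ (Ideal.mem_map_of_mem _ ha)

theorem exists_specMap_div_gen (x ξ : X) (h : ξ ⤳ x) (g : X.residueField ξ) :
    ∃ a b : X.presheaf.stalk x, Cyc.specMap x ξ h b ≠ 0 ∧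
      g = Cyc.specMap x ξ h a / Cyc.specMap x ξ h b := by
  letI := (X.presheaf.stalkSpecializes h).hom.toAlgebra
  haveI : (RingHom.ker (Cyc.specMap x ξ h)).IsPrime := RingHom.ker_isPrime _
  haveI := isLocalization_stalkSpecializes h
  obtain ⟨s, rfl⟩ := X.residue_surjective ξ g
  obtain ⟨⟨a, b⟩, hab⟩ := IsLocalization.surj (RingHom.ker (Cyc.specMap x ξ h)).primeCompl s
  refine ⟨a, b, fun hb => b.2 hb, ?_⟩
  rw [eq_div_iff (fun hb => b.2 hb)]
  have := congrArg (X.residue ξ).hom hab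
  rw [map_mul] at this
  exact this

theorem isFractionRing_locQuot_gen (x ξ : X) (h : ξ ⤳ x) :
    IsFractionRing (Cyc.LocQuot x ξ h) (X.residueField ξ) := by
  haveI : FaithfulSMul (Cyc.LocQuot x ξ h) (X.residueField ξ) :=
    (faithfulSMul_iff_algebraMap_injective _ _).2 (RingHom.kerLift_injective _)
  refine IsFractionRing.of_field _ _ fun z => ?_
  obtain ⟨a, b, -, rfl⟩ := exists_specMap_div_gen x ξ h z
  exact ⟨Ideal.Quotient.mk _ a, Ideal.Quotient.mk _ b, rfl⟩

theorem krullDimLE_one_locQuot [IsLocallyNoetherian X] {δ : X → ℤ} (hδ : Cyc.IsDimFun X δ)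
    (x ξ : X) (h : ξ ⤳ x) (hx : δ x + 1 = δ ξ) : Ring.KrullDimLE 1 (Cyc.LocQuot x ξ h) := by
  obtain ⟨D, hD, -, -, h4⟩ := Groth.L22.LocQuotDim.exists_dim_locQuot x ξ h
  have := h4 δ hδ
  have hD1 : D = 1 := by omega
  exact Ring.krullDimLE_iff.2 (by rw [hD, hD1])

theorem mk_locQuot_ne_zero {x ξ : X} {h : ξ ⤳ x} {a : X.presheaf.stalk x}
    (ha : Cyc.specMap x ξ h a ≠ 0) :
    (Ideal.Quotient.mk (RingHom.ker (Cyc.specMap x ξ h)) a : Cyc.LocQuot x ξ h) ≠ 0 :=
  fun h0 => ha (Ideal.Quotient.eq_zero_iff_mem.1 h0)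

theorem ord_locQuot_ne_top [IsLocallyNoetherian X] {δ : X → ℤ} (hδ : Cyc.IsDimFun X δ) {x ξ : X}
    {h : ξ ⤳ x} (hx : δ x + 1 = δ ξ) {a : X.presheaf.stalk x} (ha : Cyc.specMap x ξ h a ≠ 0) :
    Ring.ord (Cyc.LocQuot x ξ h) (Ideal.Quotient.mk _ a) ≠ ⊤ := by
  haveI := krullDimLE_one_locQuot hδ x ξ h hx
  haveI := Groth.L22.DimFormula.isDomain_locQuot x ξ h
  exact Ring.ord_ne_top (mem_nonZeroDivisors_of_ne_zero (mk_locQuot_ne_zero ha))

/-- The order of a fraction along an immediate specialization. -/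
theorem ordAt_div_gen [IsLocallyNoetherian X] {δ : X → ℤ} (hδ : Cyc.IsDimFun X δ) (x ξ : X)
    (h : ξ ⤳ x) (hx : δ x + 1 = δ ξ) {a b : X.presheaf.stalk x}
    (ha : Cyc.specMap x ξ h a ≠ 0) (hb : Cyc.specMap x ξ h b ≠ 0) :
    Cyc.ordAt x ξ h (Cyc.specMap x ξ h a / Cyc.specMap x ξ h b) =
      ((Ring.ord (Cyc.LocQuot x ξ h) (Ideal.Quotient.mk _ a)).toNat : ℤ) -
        ((Ring.ord (Cyc.LocQuot x ξ h) (Ideal.Quotient.mk _ b)).toNat : ℤ) := by
  let R := Cyc.LocQuot x ξ h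
  let K := X.residueField ξ
  haveI hR1 : IsNoetherianRing R := inferInstance
  haveI hR2 : Ring.KrullDimLE 1 R := krullDimLE_one_locQuot hδ x ξ h hx
  haveI : IsDomain R := Groth.L22.DimFormula.isDomain_locQuot x ξ h
  haveI hR3 : Nontrivial R := inferInstance
  haveI hR4 : IsFractionRing R K := isFractionRing_locQuot_gen x ξ h
  have key : ∀ z : X.presheaf.stalk x, Cyc.specMap x ξ h z ≠ 0 →
      Ring.ordFrac R (algebraMap R K (Ideal.Quotient.mk _ z)) =
      ((Multiplicative.ofAdd ((Ring.ord R (Ideal.Quotient.mk _ z)).toNat : ℤ) :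
        Multiplicative ℤ) : WithZero (Multiplicative ℤ)) := fun z hz => by
    have hez : (Ideal.Quotient.mk _ z : R) ≠ 0 := mk_locQuot_ne_zero hz
    rw [Ring.ordFrac_eq_ord R hez]
    refine Ring.ordMonoidWithZeroHom_eq_coe R (mem_nonZeroDivisors_of_ne_zero hez) ?_
    rw [ENat.natCast_toNat]
    exact Ring.ord_ne_top (mem_nonZeroDivisors_of_ne_zero hez)
  show CycAlg.ordFrac R K (algebraMap R K (Ideal.Quotient.mk _ a) /
    algebraMap R K (Ideal.Quotient.mk _ b)) = _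
  rw [CycAlg.ordFrac, dif_pos ⟨hR1, hR2, hR3, hR4⟩, map_div₀, key a ha, key b hb,
    ← WithZero.coe_div]
  rfl

theorem ordAt_of_isUnit [IsLocallyNoetherian X] {δ : X → ℤ} (hδ : Cyc.IsDimFun X δ) (x ξ : X)
    (h : ξ ⤳ x) (hx : δ x + 1 = δ ξ) {a : X.presheaf.stalk x} (ha : IsUnit a) :
    Cyc.ordAt x ξ h (Cyc.specMap x ξ h a) = 0 := by
  have := ordAt_div_gen hδ x ξ h hx (a := a) (b := 1) (ha.map _).ne_zero (by rw [map_one]; exact one_ne_zero)
  rw [map_one, div_one] at this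
  rw [this, Ring.ord_of_isUnit (ha.map (Ideal.Quotient.mk _)), map_one, Ring.ord_one]
  simp

end Groth.L22.Cyc
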