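import Groth.Agent.L22.Cyc.Mult
import Groth.Agent.L22.Cyc.LenTensor
import Mathlib.AlgebraicGeometry.FunctionField

/-!
Orders of rational functions on integral schemes at points of codimension one.
-/

universe u

open AlgebraicGeometry CategoryTheory

namespace Groth.L22.Cyc

theorem ord_ringEquiv {A B : Type u} [CommRing A] [CommRing B] (e : A ≃+* B) (a : A) :
    Ring.ord B (e a) = Ring.ord A a := by
  let e' : (A ⧸ Ideal.span {a}) ≃+* (B ⧸ Ideal.span {e a}) :=
    Ideal.quotientEquiv _ _ e (by rw [Ideal.map_span, Set.image_singleton]; rfl)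
  algebraize [e.toRingHom]
  let e'' : (A ⧸ Ideal.span {a}) ≃ₗ[A] (B ⧸ Ideal.span {e a}) :=
    { e'.toAddEquiv with
      map_smul' := fun r z => by
        obtain ⟨z, rfl⟩ := Ideal.Quotient.mk_surjective z
        show Ideal.Quotient.mk (Ideal.span {e a}) (e (r * z)) =
          Ideal.Quotient.mk (Ideal.span {e a}) (e r * e z)
        rw [map_mul] }
  rw [Ring.ord, Ring.ord, e''.length_eq]
  exact (Module.length_eq_of_surjective (R := B) (S := A) (M := B ⧸ Ideal.span {e a})
    e.surjective).symm

variable {X Y : Scheme.{u}} [IsIntegral X]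

theorem genericPoint_specializes' (x : X) : genericPoint X ⤳ x :=
  (genericPoint_spec X).specializes trivial

theorem residue_generic_bijective : Function.Bijective (X.residue (genericPoint X)).hom := by
  refine ⟨?_, X.residue_surjective _⟩
  exact RingHom.injective (R := X.functionField) (X.residue (genericPoint X)).hom

theorem specMap_injective (x : X) (h : genericPoint X ⤳ x) :
    Function.Injective (Cyc.specMap x (genericPoint X) h) :=
  residue_generic_bijective.1.comp (IsFractionRing.injective (X.presheaf.stalk x) X.functionField)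

theorem exists_specMap_div (x : X) (h : genericPoint X ⤳ x) (g : X.residueField (genericPoint X))
    (hg : g ≠ 0) : ∃ a b : X.presheaf.stalk x, a ≠ 0 ∧ b ≠ 0 ∧
      g = Cyc.specMap x (genericPoint X) h a / Cyc.specMap x (genericPoint X) h b := by
  obtain ⟨s, rfl⟩ := residue_generic_bijective.2 g
  obtain ⟨a, b, hb, rfl⟩ := IsFractionRing.div_surjective (A := X.presheaf.stalk x)
    (K := X.functionField) s
  refine ⟨a, b, ?_, nonZeroDivisors.ne_zero hb, map_div₀ _ _ _⟩
  rintro rfl
  simp at hg

theorem isFractionRing_locQuot (x : X) (h : genericPoint X ⤳ x) :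
    IsFractionRing (Cyc.LocQuot x (genericPoint X) h) (X.residueField (genericPoint X)) := by
  haveI : FaithfulSMul (Cyc.LocQuot x (genericPoint X) h) (X.residueField (genericPoint X)) :=
    (faithfulSMul_iff_algebraMap_injective _ _).2 (RingHom.kerLift_injective _)
  refine IsFractionRing.of_field _ _ fun z => ?_
  rcases eq_or_ne z 0 with rfl | hz
  · exact ⟨0, 1, by simp⟩
  obtain ⟨a, b, -, -, rfl⟩ := exists_specMap_div x h z hz
  exact ⟨Ideal.Quotient.mk _ a, Ideal.Quotient.mk _ b, rfl⟩

/-- The order of a fraction at a point of codimension one of an integral scheme. -/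
theorem ordAt_div [IsLocallyNoetherian X] (x : X) (h : genericPoint X ⤳ x)
    [Ring.KrullDimLE 1 (X.presheaf.stalk x)] {a b : X.presheaf.stalk x} (ha : a ≠ 0) (hb : b ≠ 0) :
    Cyc.ordAt x (genericPoint X) h
        (Cyc.specMap x (genericPoint X) h a / Cyc.specMap x (genericPoint X) h b) =
      ((Ring.ord (X.presheaf.stalk x) a).toNat : ℤ) -
        ((Ring.ord (X.presheaf.stalk x) b).toNat : ℤ) := by
  let R := Cyc.LocQuot x (genericPoint X) h
  let K := X.residueField (genericPoint X)
  let e : X.presheaf.stalk x ≃+* R := RingEquiv.ofBijective (Ideal.Quotient.mk _)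
    ⟨(injective_iff_map_eq_zero _).2 fun z hz => specMap_injective x h
      ((Ideal.Quotient.eq_zero_iff_mem.1 hz).trans (map_zero _).symm),
      Ideal.Quotient.mk_surjective⟩
  haveI hR1 : IsNoetherianRing R := inferInstance
  haveI hR2 : Ring.KrullDimLE 1 R :=
    Ring.krullDimLE_iff.2 (by
      rw [← ringKrullDim_eq_of_ringEquiv e]; exact Ring.krullDimLE_iff.1 inferInstance)
  haveI hR3 : Nontrivial R := e.injective.nontrivial
  haveI hR4 : IsFractionRing R K := isFractionRing_locQuot x h
  haveI : IsDomain R := (IsFractionRing.injective R K).isDomain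
  have key : ∀ z, z ≠ 0 → Ring.ordFrac R (algebraMap R K (e z)) =
      ((Multiplicative.ofAdd ((Ring.ord (X.presheaf.stalk x) z).toNat : ℤ) :
        Multiplicative ℤ) : WithZero (Multiplicative ℤ)) := fun z hz => by
    have hez : e z ≠ 0 := (map_ne_zero_iff _ e.injective).2 hz
    rw [Ring.ordFrac_eq_ord R hez]
    refine Ring.ordMonoidWithZeroHom_eq_coe R (mem_nonZeroDivisors_of_ne_zero hez) ?_
    rw [← ord_ringEquiv e z, ENat.natCast_toNat]
    exact Ring.ord_ne_top (mem_nonZeroDivisors_of_ne_zero hez)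
  show CycAlg.ordFrac R K (algebraMap R K (e a) / algebraMap R K (e b)) = _
  rw [CycAlg.ordFrac, dif_pos ⟨hR1, hR2, hR3, hR4⟩, map_div₀, key a ha, key b hb,
    ← WithZero.coe_div]
  rfl

omit [IsIntegral X] in
theorem krullDimLE_one_stalk [IsIntegral X] {δ : X → ℤ} (hδ : Cyc.IsDimFun X δ) (x : X)
    (hx : δ x + 1 = δ (genericPoint X)) : Ring.KrullDimLE 1 (X.presheaf.stalk x) := by
  haveI : IsDomain (X.presheaf.stalk x) :=
    (specMap_injective x (genericPoint_specializes' x)).isDomain
  rw [Ring.krullDimLE_one_iff]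
  intro p hp
  let z := X.fromSpecStalk x ⟨p, hp⟩
  have hzx : z ⤳ x := specializes_fromSpecStalk x ⟨p, hp⟩
  have hemb := (X.fromSpecStalk x).isEmbedding.injective
  by_cases h1 : z = x
  · refine .inr ?_
    have : (⟨p, hp⟩ : PrimeSpectrum (X.presheaf.stalk x)) = IsLocalRing.closedPoint _ :=
      hemb (h1.trans (Scheme.fromSpecStalk_closedPoint (X := X) (x := x)).symm)
    rw [show p = IsLocalRing.maximalIdeal _ from congrArg PrimeSpectrum.asIdeal this]
    exact IsLocalRing.maximalIdeal.isMaximal _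
  · refine .inl ?_
    by_cases h2 : z = genericPoint X
    · let q : PrimeSpectrum (X.presheaf.stalk x) := ⟨⊥, Ideal.isPrime_bot⟩
      have hq : X.fromSpecStalk x q = genericPoint X := by
        obtain ⟨r, hr⟩ := exists_prime_of_specializes (genericPoint_specializes' x)
        have hqr : q ⤳ r := (PrimeSpectrum.le_iff_specializes _ _).1 bot_le
        have := hqr.map (X.fromSpecStalk x).continuous
        rw [hr] at this
        exact (this.antisymm (genericPoint_specializes' _)).eq
      have : (⟨p, hp⟩ : PrimeSpectrum (X.presheaf.stalk x)) = q := hemb (h2.trans hq.symm)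
      rw [show p = ⊥ from congrArg PrimeSpectrum.asIdeal this]
      simp [IsDomain.minimalPrimes_eq_singleton_bot]
    · exfalso
      have ha := (hδ z x hzx h1).1
      have hb := (hδ (genericPoint X) z (genericPoint_specializes' z) (Ne.symm h2)).1
      omega

end Groth.L22.Cyc

namespace Groth.L22.Cyc

variable {X Y : Scheme.{u}}

theorem residueFieldMap_specMap (f : X ⟶ Y) {x ξ : X} (h : ξ ⤳ x) (h' : f ξ ⤳ f x)
    (a : Y.presheaf.stalk (f x)) :
    f.residueFieldMap ξ (Cyc.specMap (f x) (f ξ) h' a) =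
      Cyc.specMap x ξ h ((f.stalkMap x).hom a) := by
  have h2 : (Y.presheaf.stalkSpecializes h' ≫ Y.residue (f ξ)) ≫ f.residueFieldMap ξ =
      f.stalkMap x ≫ X.presheaf.stalkSpecializes h ≫ X.residue ξ := by
    rw [Category.assoc, Scheme.residue_residueFieldMap]
    exact Scheme.Hom.stalkSpecializes_stalkMap_assoc f ξ x h (X.residue ξ)
  exact congrArg (fun φ => φ.hom a) h2

variable [IsIntegral X] [IsIntegral Y] [IsLocallyNoetherian X] [IsLocallyNoetherian Y]

theorem specMap_injective' (y : Y) {η : Y} (hη : η = genericPoint Y) (h : η ⤳ y) :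
    Function.Injective (Cyc.specMap y η h) := by subst hη; exact specMap_injective y h

theorem exists_specMap_div' (y : Y) {η : Y} (hη : η = genericPoint Y) (h : η ⤳ y)
    (g : Y.residueField η) (hg : g ≠ 0) : ∃ a b : Y.presheaf.stalk y, a ≠ 0 ∧ b ≠ 0 ∧
      g = Cyc.specMap y η h a / Cyc.specMap y η h b := by
  subst hη; exact exists_specMap_div y h g hg

theorem ordAt_div' (y : Y) {η : Y} (hη : η = genericPoint Y) (h : η ⤳ y)
    [Ring.KrullDimLE 1 (Y.presheaf.stalk y)] {a b : Y.presheaf.stalk y} (ha : a ≠ 0) (hb : b ≠ 0) :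
    Cyc.ordAt y η h (Cyc.specMap y η h a / Cyc.specMap y η h b) =
      ((Ring.ord (Y.presheaf.stalk y) a).toNat : ℤ) -
        ((Ring.ord (Y.presheaf.stalk y) b).toNat : ℤ) := by
  subst hη; exact ordAt_div y h ha hb

omit [IsLocallyNoetherian X] in
theorem stalkMap_ne_zero (f : X ⟶ Y) (x : X) (hη : f (genericPoint X) = genericPoint Y)
    {a : Y.presheaf.stalk (f x)} (ha : a ≠ 0) : (f.stalkMap x).hom a ≠ 0 := fun h0 => by
  have h := residueFieldMap_specMap f (genericPoint_specializes' x)
    ((genericPoint_specializes' x).map f.continuous) a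
  rw [h0, map_zero] at h
  exact ha ((map_eq_zero_iff _ (specMap_injective' _ hη _)).1 ((map_eq_zero _).1 h))

theorem ordAt_residueFieldMap (f : X ⟶ Y) (x : X) (hsx : genericPoint X ⤳ x)
    (hη : f (genericPoint X) = genericPoint Y) (hsy : f (genericPoint X) ⤳ f x)
    [Ring.KrullDimLE 1 (X.presheaf.stalk x)] {a b : Y.presheaf.stalk (f x)} (ha : a ≠ 0)
    (hb : b ≠ 0) :
    Cyc.ordAt x (genericPoint X) hsx (f.residueFieldMap (genericPoint X)
      (Cyc.specMap (f x) (f (genericPoint X)) hsy a /
        Cyc.specMap (f x) (f (genericPoint X)) hsy b)) =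
      ((Ring.ord (X.presheaf.stalk x) ((f.stalkMap x).hom a)).toNat : ℤ) -
        ((Ring.ord (X.presheaf.stalk x) ((f.stalkMap x).hom b)).toNat : ℤ) := by
  rw [map_div₀, residueFieldMap_specMap f hsx hsy, residueFieldMap_specMap f hsx hsy]
  exact ordAt_div x hsx (stalkMap_ne_zero f x hη ha) (stalkMap_ne_zero f x hη hb)

omit [IsIntegral X] [IsIntegral Y] [IsLocallyNoetherian Y] in
theorem ord_stalkMap (f : X ⟶ Y) [Flat f] (x : X) (a : Y.presheaf.stalk (f x)) :
    Ring.ord (X.presheaf.stalk x) ((f.stalkMap x).hom a) =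
      Ring.ord (Y.presheaf.stalk (f x)) a * mult f x := by
  letI : Algebra (Y.presheaf.stalk (f x)) (X.presheaf.stalk x) := (f.stalkMap x).hom.toAlgebra
  haveI : Module.Flat (Y.presheaf.stalk (f x)) (X.presheaf.stalk x) := Flat.stalkMap f x
  haveI : IsLocalHom (algebraMap (Y.presheaf.stalk (f x)) (X.presheaf.stalk x)) :=
    f.toLRSHom.prop x
  have h : Ideal.map (algebraMap (Y.presheaf.stalk (f x)) (X.presheaf.stalk x)) (Ideal.span {a}) =
      Ideal.span {(f.stalkMap x).hom a} := by
    rw [Ideal.map_span, Set.image_singleton]; rfl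
  rw [Ring.ord, Ring.ord, ← h]
  exact length_quotient_map (Ideal.span {a})

/-- Flat pullback multiplies orders by the fibre multiplicity. -/
theorem ordAt_pullback (f : X ⟶ Y) [Flat f] (x : X) (hsx : genericPoint X ⤳ x)
    (hη : f (genericPoint X) = genericPoint Y)
    (hsy : f (genericPoint X) ⤳ f x) (_hgx : FibGen f x)
    [Ring.KrullDimLE 1 (X.presheaf.stalk x)] [Ring.KrullDimLE 1 (Y.presheaf.stalk (f x))]
    (g : Y.residueField (f (genericPoint X))) (hg : g ≠ 0) :
    Cyc.ordAt (f x) (f (genericPoint X)) hsy g * ((mult f x).toNat : ℤ) =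
      Cyc.ordAt x (genericPoint X) hsx (f.residueFieldMap (genericPoint X) g) := by
  obtain ⟨a, b, ha, hb, rfl⟩ := exists_specMap_div' (f x) hη hsy g hg
  rw [ordAt_residueFieldMap f x hsx hη hsy ha hb, ordAt_div' (f x) hη hsy ha hb, ord_stalkMap,
    ord_stalkMap, ENat.toNat_mul, ENat.toNat_mul]
  push_cast
  ring

theorem ordAt_pullback_of_generic (f : X ⟶ Y) (x : X) (hsx : genericPoint X ⤳ x)
    (hfx : f x = genericPoint Y) (hη : f (genericPoint X) = genericPoint Y)
    (hsy : f (genericPoint X) ⤳ f x) [Ring.KrullDimLE 1 (X.presheaf.stalk x)]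
    (g : Y.residueField (f (genericPoint X))) (hg : g ≠ 0) :
    Cyc.ordAt x (genericPoint X) hsx (f.residueFieldMap (genericPoint X) g) = 0 := by
  obtain ⟨a, b, ha, hb, rfl⟩ := exists_specMap_div' (f x) hη hsy g hg
  have hF : ∀ y, y = genericPoint Y → IsField (Y.presheaf.stalk y) := by
    rintro y rfl; exact Field.toIsField Y.functionField
  have hu : ∀ c : Y.presheaf.stalk (f x), c ≠ 0 →
      Ring.ord (X.presheaf.stalk x) ((f.stalkMap x).hom c) = 0 := fun c hc => by
    obtain ⟨d, hd⟩ := (hF _ hfx).mul_inv_cancel hc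
    exact Ring.ord_of_isUnit ((IsUnit.of_mul_eq_one d hd).map _)
  rw [ordAt_residueFieldMap f x hsx hη hsy ha hb, hu a ha, hu b hb]
  simp

end Groth.L22.Cyc
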