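import Groth.Agent.L22.Cyc.RelDim
import Groth.Agent.L18.FiberStalk
import Mathlib.AlgebraicGeometry.Morphisms.FlatRank
import Mathlib.AlgebraicGeometry.AlgebraicCycle.Basic
import Mathlib.RingTheory.LocalRing.Length
import Mathlib.RingTheory.Spectrum.Prime.Noetherian

/-!
The rank of a finite flat morphism as a sum over the points of a fibre.
-/

universe u

open AlgebraicGeometry CategoryTheory CategoryTheory.Limits

namespace Groth.L22.Cyc

variable {X Y Z : Scheme.{u}}

theorem residueDegree_comp (f : X ⟶ Y) (g : Y ⟶ Z) (x : X) :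
    (f ≫ g).residueDegree x = g.residueDegree (f x) * f.residueDegree x := by
  letI := (f.residueFieldMap x).hom.toAlgebra
  letI : Algebra (Z.residueField (g (f x))) (Y.residueField (f x)) :=
    (g.residueFieldMap (f x)).hom.toAlgebra
  letI : Algebra (Z.residueField (g (f x))) (X.residueField x) :=
    ((f ≫ g).residueFieldMap x).hom.toAlgebra
  haveI : IsScalarTower (Z.residueField (g (f x))) (Y.residueField (f x)) (X.residueField x) :=
    IsScalarTower.of_algebraMap_eq fun a =>
      congrArg (fun φ => φ.hom a) (Scheme.residueFieldMap_comp f g x)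
  exact (Module.finrank_mul_finrank (Z.residueField (g (f x))) (Y.residueField (f x))
    (X.residueField x)).symm

theorem residueDegree_eq_one (f : X ⟶ Y) (x : X)
    (h : Function.Bijective (f.residueFieldMap x).hom) : f.residueDegree x = 1 := by
  letI := (f.residueFieldMap x).hom.toAlgebra
  exact (Algebra.finrank_eq_of_equiv_equiv (RingEquiv.ofBijective _ h) (RingEquiv.refl _)
    (RingHom.ext fun a => rfl)).trans (Module.finrank_self _)

theorem residueDegree_congr (f : X ⟶ Y) {f' : X ⟶ Y} (h : f = f') (x : X) :
    f.residueDegree x = f'.residueDegree x := by subst h; rfl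

theorem length_self_of_ringEquiv {A B : Type u} [CommRing A] [CommRing B] (e : A ≃+* B) :
    Module.length A A = Module.length B B := by
  algebraize [e.toRingHom]
  rw [← Module.length_eq_of_surjective (R := B) (S := A) (M := B) e.surjective]
  exact (LinearEquiv.ofBijective (Algebra.linearMap A B) e.bijective).length_eq

theorem finrank_localization (k : Type u) [Field k] (B : Type u) [CommRing B] [IsLocalRing B]
    [Algebra k B] [Module.Finite k B] :
    Module.finrank k B =
      Module.finrank k (IsLocalRing.ResidueField B) * (Module.length B B).toNat := by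
  haveI : IsLocalHom (algebraMap k B) :=
    ⟨fun a ha => isUnit_iff_ne_zero.2 fun h => not_isUnit_zero (M₀ := B) (by rwa [h, map_zero] at ha)⟩
  have h := IsLocalRing.length_restrictScalars k B B
  rw [← Module.length_eq_of_surjective (R := IsLocalRing.ResidueField k) (S := k)
      (M := IsLocalRing.ResidueField B) IsLocalRing.residue_surjective,
    Module.length_eq_finrank, Module.length_eq_finrank] at h
  simpa [ENat.toNat_mul, mul_comm] using congrArg ENat.toNat h

theorem residueDegree_spec (k A : Type u) [Field k] [CommRing A] [Algebra k A]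
    (p : Spec (CommRingCat.of A)) :
    (Spec.map (CommRingCat.ofHom (algebraMap k A))).residueDegree p =
      Module.finrank k p.asIdeal.ResidueField := by
  set g := Spec.map (CommRingCat.ofHom (algebraMap k A))
  letI := (g.residueFieldMap p).hom.toAlgebra
  have hb : Function.Bijective (algebraMap (CommRingCat.of k) (g p).asIdeal.ResidueField) := by
    refine ⟨RingHom.injective _, fun b => ?_⟩
    have hbot : (g p).asIdeal = ⊥ := (Ideal.eq_bot_or_top _).resolve_right (g p).2.ne_top
    haveI : (g p).asIdeal.IsMaximal := hbot ▸ Ideal.bot_isMaximal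
    obtain ⟨c, rfl⟩ := Ideal.bijective_algebraMap_quotient_residueField _ |>.2 b
    obtain ⟨a, rfl⟩ := Ideal.Quotient.mk_surjective c
    exact ⟨a, IsScalarTower.algebraMap_apply _ ((CommRingCat.of k : Type u) ⧸ (g p).asIdeal) _ a⟩
  have hsq : CommRingCat.ofHom (algebraMap (CommRingCat.of k) (g p).asIdeal.ResidueField) ≫
      (Scheme.Spec.residueFieldIso (CommRingCat.of k) (g p)).inv ≫ g.residueFieldMap p ≫
        (Scheme.Spec.residueFieldIso (CommRingCat.of A) p).hom =
      CommRingCat.ofHom (algebraMap k A) ≫
        CommRingCat.ofHom (algebraMap (CommRingCat.of A) p.asIdeal.ResidueField) := by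
    rw [Scheme.Spec.algebraMap_residueFieldIso_inv_assoc, ← cancel_mono
      (Scheme.Spec.residueFieldIso (CommRingCat.of A) p).inv]
    simp only [Category.assoc, Iso.hom_inv_id, Category.comp_id]
    erw [Scheme.Spec.algebraMap_residueFieldIso_inv (CommRingCat.of A) p]
    erw [Scheme.ΓSpecIso_inv_naturality_assoc]
    congr 1
    exact Scheme.Γevaluation_naturality g p
  refine Algebra.finrank_eq_of_equiv_equiv
    ((Scheme.Spec.residueFieldIso (CommRingCat.of k) (g p)).commRingCatIsoToRingEquiv.trans
      (RingEquiv.ofBijective _ hb).symm)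
    (Scheme.Spec.residueFieldIso (CommRingCat.of A) p).commRingCatIsoToRingEquiv
    (RingHom.ext fun b => ?_)
  obtain ⟨a, rfl⟩ := ((RingEquiv.ofBijective _ hb).trans
    (Scheme.Spec.residueFieldIso (CommRingCat.of k) (g p)).commRingCatIsoToRingEquiv.symm).surjective b
  refine Eq.trans ?_ (congrArg (fun φ => φ.hom a) hsq).symm
  show algebraMap k p.asIdeal.ResidueField ((((Scheme.Spec.residueFieldIso (CommRingCat.of k)
    (g p)).commRingCatIsoToRingEquiv.trans (RingEquiv.ofBijective _ hb).symm))
      (((RingEquiv.ofBijective _ hb).trans (Scheme.Spec.residueFieldIso (CommRingCat.of k)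
        (g p)).commRingCatIsoToRingEquiv.symm) a)) = _
  rw [RingEquiv.trans_apply, RingEquiv.trans_apply, RingEquiv.apply_symm_apply,
    RingEquiv.symm_apply_apply]
  exact IsScalarTower.algebraMap_apply k A p.asIdeal.ResidueField a

theorem finrank_eq_sum_spec (k A : Type u) [Field k] [CommRing A] [Algebra k A] [Module.Finite k A]
    (s : Spec (CommRingCat.of k)) :
    Scheme.Hom.finrank (Spec.map (CommRingCat.ofHom (algebraMap k A))) s =
      ∑ᶠ p : Spec (CommRingCat.of A),
        (Spec.map (CommRingCat.ofHom (algebraMap k A))).residueDegree p *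
          (Module.length ((Spec (CommRingCat.of A)).presheaf.stalk p)
            ((Spec (CommRingCat.of A)).presheaf.stalk p)).toNat := by
  haveI : IsArtinianRing A := IsArtinianRing.of_finite k A
  letI := Fintype.ofFinite (PrimeSpectrum A)
  letI : Fintype (Spec (CommRingCat.of A)) := inferInstanceAs (Fintype (PrimeSpectrum A))
  rw [Scheme.Hom.finrank_SpecMap_algebraMap, Module.rankAtStalk_eq_finrank_of_free]
  rw [finsum_eq_sum_of_fintype]
  show Module.finrank k A = _
  rw [IsArtinianRing.finrank_eq_sum_primeSpectrum A k]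
  refine Fintype.sum_equiv (Equiv.refl _) _ _ fun p => ?_
  haveI : Module.Finite k (Localization.AtPrime p.asIdeal) :=
    Module.Finite.of_surjective (Algebra.algHom k A (Localization.AtPrime p.asIdeal)).toLinearMap
      (IsArtinianRing.localization_surjective p.asIdeal.primeCompl (Localization.AtPrime p.asIdeal))
  refine (finrank_localization k (Localization.AtPrime p.asIdeal)).trans ?_
  exact congrArg₂ (fun (a : ℕ) (b : ℕ∞) => a * b.toNat) (residueDegree_spec k A p).symm
    (length_self_of_ringEquiv
      (Spec.stalkIso (CommRingCat.of A) p).commRingCatIsoToRingEquiv).symm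

theorem finrank_eq_sum_field (k : Type u) [Field k] {F : Scheme.{u}}
    (g : F ⟶ Spec (CommRingCat.of k)) [IsFinite g] (s : Spec (CommRingCat.of k)) :
    g.finrank s =
      ∑ᶠ z : F, g.residueDegree z *
        (Module.length (F.presheaf.stalk z) (F.presheaf.stalk z)).toNat := by
  haveI : IsAffine F := isAffine_of_isAffineHom g
  obtain ⟨φ, hφ⟩ := Spec.map_surjective (F.isoSpec.inv ≫ g)
  haveI : Flat g := inferInstance
  haveI : IsFinite (Spec.map φ) := hφ ▸ inferInstance
  letI : Algebra k Γ(F, ⊤) := φ.hom.toAlgebra
  haveI : Module.Finite k Γ(F, ⊤) := ((IsFinite.SpecMap_iff φ).1 (inferInstanceAs (IsFinite (Spec.map φ))))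
  rw [← Scheme.Hom.finrank_comp_left_of_isIso F.isoSpec.inv g, ← hφ]
  refine (finrank_eq_sum_spec k Γ(F, ⊤) s).trans ?_
  refine finsum_eq_of_bijective (fun p => F.isoSpec.inv p)
    F.isoSpec.inv.homeomorph.bijective fun p => ?_
  show (Spec.map φ).residueDegree p * _ = _
  rw [residueDegree_congr _ hφ, residueDegree_comp,
    residueDegree_eq_one F.isoSpec.inv p
      (FibreDim.residueFieldMap_bijective F.isoSpec.inv p), mul_one,
    length_self_of_ringEquiv (asIso (F.isoSpec.inv.stalkMap p)).commRingCatIsoToRingEquiv]
  rfl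

theorem fiberι_residueDegree (f : X ⟶ Y) (y : Y) (z : f.fiber y) :
    (f.fiberToSpecResidueField y).residueDegree z = f.residueDegree (f.fiberι y z) := by
  have h1 := residueDegree_comp (f.fiberι y) f z
  rw [residueDegree_eq_one (f.fiberι y) z (FibreDim.residueFieldMap_bijective _ z), mul_one,
    residueDegree_congr _ (f.fiber_fac y) z, residueDegree_comp,
    residueDegree_eq_one (Y.fromSpecResidueField y) _ (FibreDim.residueFieldMap_bijective _ _),
    one_mul] at h1
  exact h1

/-- The rank of a finite flat morphism at `y` is the sum of `[κ(x) : κ(y)] · length(O_x / 𝔪_y O_x)`. -/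
theorem finrank_eq_sum (f : X ⟶ Y) [IsFinite f] [Flat f] (y : Y) :
    f.finrank y = ∑ᶠ x ∈ f ⁻¹' {y}, f.residueDegree x * (mult f x).toNat := by
  haveI : IsFinite (f.fiberToSpecResidueField y) :=
    MorphismProperty.pullback_snd f (Y.fromSpecResidueField y) inferInstance
  let t : Spec (Y.residueField y) := default
  have h1 : (f.fiberToSpecResidueField y).finrank t = f.finrank y := by
    rw [Scheme.Hom.finrank_of_isPullback (f.fiberι y) (f.fiberToSpecResidueField y) f
      (Y.fromSpecResidueField y) (IsPullback.of_hasPullback f (Y.fromSpecResidueField y)) t,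
      Scheme.fromSpecResidueField_apply]
  rw [← h1]
  refine (finrank_eq_sum_field (Y.residueField y) (f.fiberToSpecResidueField y) t).trans ?_
  rw [finsum_mem_eq_of_bijOn (f := fun z : f.fiber y => f.residueDegree (f.fiberι y z) *
      (mult f (f.fiberι y z)).toNat) (fun z => f.fiberι y z)
      (s := Set.univ) ⟨fun z _ => (f.range_fiberι y).subset ⟨z, rfl⟩,
        (f.fiberι y).isEmbedding.injective.injOn, fun x hx => by
          obtain ⟨z, hz⟩ := (f.range_fiberι y).ge hx
          exact ⟨z, Set.mem_univ _, hz⟩⟩ (fun z _ => rfl) |>.symm]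
  rw [finsum_mem_univ]
  refine finsum_congr fun z => ?_
  rw [fiberι_residueDegree]
  congr 2
  obtain ⟨hs, hk⟩ := Groth.L18.stalkMap_fiberι f y z
  rw [← length_self_of_ringEquiv (RingHom.quotientKerEquivOfSurjective hs),
    ← Module.length_eq_of_surjective (S := X.presheaf.stalk (f.fiberι y z))
      (R := X.presheaf.stalk (f.fiberι y z) ⧸ _) (M := X.presheaf.stalk (f.fiberι y z) ⧸ _)
      Ideal.Quotient.mk_surjective, hk]
  rfl

end Groth.L22.Cyc
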