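import Groth.Agent.L22.Cyc.Mult
import Groth.Agent.L22.FibreDim

/-!
Relative dimension of a morphism and transcendence degrees of residue fields at the generic points
of its fibres.
-/

universe u

open AlgebraicGeometry CategoryTheory

attribute [local instance] Curv2.resAlgebra

namespace Groth.L22.Cyc

variable {X Y Z : Scheme.{u}}

/-- The transcendence degree of `κ(x)` over `κ(f x)`. -/
noncomputable def rtrdeg (f : X ⟶ Y) (x : X) : Cardinal.{u} :=
  letI := (f.residueFieldMap x).hom.toAlgebra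
  Algebra.trdeg (Y.residueField (f x)) (X.residueField x)

theorem trdeg_eq_of_square {K K' L L' : Type u} [Field K] [Field K'] [Field L] [Field L']
    [Algebra K L] [Algebra K' L'] (e : K ≃+* K') (e' : L ≃+* L')
    (h : ∀ a, e' (algebraMap K L a) = algebraMap K' L' (e a)) :
    Algebra.trdeg K L = Algebra.trdeg K' L' := by
  algebraize [e.toRingHom, (algebraMap K' L').comp e.toRingHom]
  haveI : IsScalarTower K K' L' := IsScalarTower.of_algebraMap_eq fun _ => rfl
  haveI : Algebra.IsAlgebraic K K' := ⟨fun b => by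
    obtain ⟨a, rfl⟩ := e.surjective b
    exact isAlgebraic_algebraMap a⟩
  rw [(AlgEquiv.ofRingEquiv (f := e') h).trdeg_eq, ← trdeg_add_eq K K' (A := L'),
    trdeg_eq_zero, zero_add]

theorem fiber_square (f : X ⟶ Y) (y : Y) (z : f.fiber y) (h : f (f.fiberι y z) = y) :
    letI : (f.fiber y).Over (Spec (CommRingCat.of (Y.residueField y))) :=
      ⟨f.fiberToSpecResidueField y⟩
    (Y.residueFieldCongr h).hom ≫
        CommRingCat.ofHom (Curv2.resMap (Y.residueField y) (f.fiber y) z) =
      f.residueFieldMap (f.fiberι y z) ≫ (f.fiberι y).residueFieldMap z := by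
  letI : (f.fiber y).Over (Spec (CommRingCat.of (Y.residueField y))) :=
    ⟨f.fiberToSpecResidueField y⟩
  apply Spec.map_injective
  rw [← cancel_mono (Y.fromSpecResidueField _), Spec.map_comp, Spec.map_comp, Category.assoc,
    Category.assoc, Scheme.residueFieldCongr_fromSpecResidueField,
    Scheme.Hom.SpecMap_residueFieldMap_fromSpecResidueField,
    Scheme.Hom.SpecMap_residueFieldMap_fromSpecResidueField_assoc, f.fiber_fac]
  erw [FibreDim.SpecMap_resMap (Y.residueField y) (f.fiber y) z]
  rw [Category.assoc]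
  rfl

theorem rtrdeg_fiberι (f : X ⟶ Y) (y : Y) (z : f.fiber y) :
    letI : (f.fiber y).Over (Spec (CommRingCat.of (Y.residueField y))) :=
      ⟨f.fiberToSpecResidueField y⟩
    rtrdeg f (f.fiberι y z) = Algebra.trdeg (Y.residueField y) ((f.fiber y).residueField z) := by
  letI : (f.fiber y).Over (Spec (CommRingCat.of (Y.residueField y))) :=
    ⟨f.fiberToSpecResidueField y⟩
  letI := (f.residueFieldMap (f.fiberι y z)).hom.toAlgebra
  have h : f (f.fiberι y z) = y := (f.range_fiberι y).subset ⟨z, rfl⟩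
  exact trdeg_eq_of_square (Y.residueFieldCongr h).commRingCatIsoToRingEquiv
    (RingEquiv.ofBijective ((f.fiberι y).residueFieldMap z).hom
      (FibreDim.residueFieldMap_bijective (f.fiberι y) z))
    fun a => (congrArg (fun φ => φ.hom a) (fiber_square f y z h)).symm

theorem rtrdeg_congr (f : X ⟶ Y) {f' : X ⟶ Y} (h : f = f') (x : X) :
    rtrdeg f x = rtrdeg f' x := by subst h; rfl

theorem rtrdeg_comp (f : X ⟶ Y) (g : Y ⟶ Z) (x : X) :
    rtrdeg (f ≫ g) x = rtrdeg g (f x) + rtrdeg f x := by
  letI := (f.residueFieldMap x).hom.toAlgebra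
  letI : Algebra (Z.residueField (g (f x))) (Y.residueField (f x)) :=
    (g.residueFieldMap (f x)).hom.toAlgebra
  letI a3 : Algebra (Z.residueField (g (f x))) (X.residueField x) :=
    ((f ≫ g).residueFieldMap x).hom.toAlgebra
  haveI : IsScalarTower (Z.residueField (g (f x))) (Y.residueField (f x)) (X.residueField x) :=
    IsScalarTower.of_algebraMap_eq fun a =>
      congrArg (fun φ => φ.hom a) (Scheme.residueFieldMap_comp f g x)
  exact (trdeg_add_eq (Z.residueField (g (f x))) (Y.residueField (f x))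
    (A := X.residueField x)).symm

theorem maximal_of_fibGen {f : X ⟶ Y} {y : Y} {z : f.fiber y} (h : FibGen f (f.fiberι y z))
    (w : f.fiber y) (hw : w ⤳ z) : w = z :=
  (f.fiberι y).isEmbedding.injective (h _ (((f.range_fiberι y).subset ⟨w, rfl⟩).trans
    ((f.range_fiberι y).subset ⟨z, rfl⟩).symm) (hw.map (f.fiberι y).continuous))

theorem fibGen_of_maximal {f : X ⟶ Y} {y : Y} {z : f.fiber y} (h : ∀ w, w ⤳ z → w = z) :
    FibGen f (f.fiberι y z) := fun v hv hvz => by
  have hz : f (f.fiberι y z) = y := (f.range_fiberι y).subset ⟨z, rfl⟩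
  obtain ⟨w, rfl⟩ := (f.range_fiberι y).ge (hv.trans hz)
  rw [h w ((f.fiberι y).isEmbedding.isInducing.specializes_iff.mp hvz)]

/-- At a generic point of a fibre the transcendence degree is the relative dimension. -/
theorem rtrdeg_eq_of_hasRelDim (f : X ⟶ Y) [LocallyOfFiniteType f] {r : ℕ}
    (hr : Cyc.HasRelDim f r) {x : X} (h : FibGen f x) : rtrdeg f x = r := by
  obtain ⟨y, z, rfl⟩ : ∃ (y : Y) (z : f.fiber y), f.fiberι y z = x :=
    ⟨f x, f.asFiber x, f.fiberι_asFiber x⟩
  letI : (f.fiber y).Over (Spec (CommRingCat.of (Y.residueField y))) :=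
    ⟨f.fiberToSpecResidueField y⟩
  haveI : LocallyOfFiniteType ((f.fiber y) ↘ Spec (CommRingCat.of (Y.residueField y))) :=
    MorphismProperty.pullback_snd f (Y.fromSpecResidueField y) inferInstance
  obtain ⟨n, hn, htr⟩ :=
    SchemeDim.exists_dim_closure_eq_trdeg (Y.residueField y) (f.fiber y) z
  rw [rtrdeg_fiberι, htr]
  obtain ⟨T, hT, hzT⟩ : ∃ T ∈ irreducibleComponents (f.fiber y), z ∈ T :=
    ⟨irreducibleComponent z, irreducibleComponent_mem_irreducibleComponents z,
      mem_irreducibleComponent⟩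
  obtain ⟨η, hη⟩ := QuasiSober.sober hT.1 (isClosed_of_mem_irreducibleComponents T hT)
  have hez : η = z := maximal_of_fibGen h η (hη.specializes hzT)
  have hcl : closure ({z} : Set (f.fiber y)) = T := by rw [← hez]; exact hη
  have := hr y T hT
  rw [← hcl, hn] at this
  have : n = r := by exact_mod_cast this
  rw [this]

theorem hasRelDim_of_rtrdeg (f : X ⟶ Y) [LocallyOfFiniteType f] {r : ℕ}
    (h : ∀ x, FibGen f x → rtrdeg f x = r) : Cyc.HasRelDim f r := by
  intro y T hT
  letI : (f.fiber y).Over (Spec (CommRingCat.of (Y.residueField y))) :=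
    ⟨f.fiberToSpecResidueField y⟩
  haveI : LocallyOfFiniteType ((f.fiber y) ↘ Spec (CommRingCat.of (Y.residueField y))) :=
    MorphismProperty.pullback_snd f (Y.fromSpecResidueField y) inferInstance
  obtain ⟨η, hη⟩ := QuasiSober.sober hT.1 (isClosed_of_mem_irreducibleComponents T hT)
  obtain ⟨n, hn, htr⟩ :=
    SchemeDim.exists_dim_closure_eq_trdeg (Y.residueField y) (f.fiber y) η
  have hmax : ∀ w, w ⤳ η → w = η := fun w hw => by
    have h1 : closure ({η} : Set (f.fiber y)) ⊆ closure {w} :=
      closure_minimal (Set.singleton_subset_iff.2 hw.mem_closure) isClosed_closure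
    have hle : closure ({w} : Set (f.fiber y)) ⊆ T :=
      hT.2 isIrreducible_singleton.closure (hη.symm.le.trans h1)
    exact (hw.antisymm (hη.specializes (hle (subset_closure rfl)))).eq
  have := h _ (fibGen_of_maximal hmax)
  rw [rtrdeg_fiberι, htr] at this
  have hnr : n = r := by exact_mod_cast this
  rw [← hη, hn, hnr]

theorem shift_of_deltaCompat (f : X ⟶ Y) [LocallyOfFiniteType f] {r : ℕ}
    (hr : Cyc.HasRelDim f r) {δX : X → ℤ} {δY : Y → ℤ} (hf : Cyc.DeltaCompat f δX δY) (x : X)
    (h : FibGen f x) : δX x = δY (f x) + (r : ℤ) := by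
  obtain ⟨n, hn, hδ⟩ := hf x
  have h1 : rtrdeg f x = (n : Cardinal.{u}) := hn
  rw [rtrdeg_eq_of_hasRelDim f hr h] at h1
  have : r = n := by exact_mod_cast h1
  rw [hδ, this]

theorem hasRelDim_comp (f : X ⟶ Y) (g : Y ⟶ Z) [Flat f] [LocallyOfFiniteType f]
    [LocallyOfFiniteType g] {r s : ℕ} (hr : Cyc.HasRelDim f r) (hs : Cyc.HasRelDim g s) :
    Cyc.HasRelDim (f ≫ g) (r + s) := by
  refine hasRelDim_of_rtrdeg _ fun x h => ?_
  rw [rtrdeg_comp, rtrdeg_eq_of_hasRelDim f hr h.left_of_comp,
    rtrdeg_eq_of_hasRelDim g hs h.right_of_comp, Nat.cast_add, add_comm]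

end Groth.L22.Cyc
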