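import Groth.Agent.L22.Cyc.OrdGen
import Groth.Agent.L22.Cyc.FiniteDeg
import Groth.Agent.L22.Cyc.RelDim
import Groth.Agent.L18.KerReduced
import Mathlib.AlgebraicGeometry.Morphisms.ClosedImmersion
import Mathlib.RingTheory.Norm.Basic

/-!
Principal divisors and closed immersions: reduction to integral schemes.
-/

universe u

open AlgebraicGeometry CategoryTheory TopologicalSpace

namespace Groth.L22.Cyc

variable {X Y : Scheme.{u}}

/-- The reduced closed subscheme on the closure of a point. -/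
noncomputable abbrev clSub (ξ : X) : Scheme.{u} :=
  (Scheme.IdealSheafData.vanishingIdeal ⟨closure {ξ}, isClosed_closure⟩).subscheme

/-- Its closed immersion. -/
noncomputable abbrev clι (ξ : X) : clSub ξ ⟶ X :=
  (Scheme.IdealSheafData.vanishingIdeal ⟨closure {ξ}, isClosed_closure⟩).subschemeι

theorem range_clι (ξ : X) : Set.range (clι ξ) = closure ({ξ} : Set X) := by
  rw [Scheme.IdealSheafData.range_subschemeι, Groth.L18.support_vanishingIdeal]
  rfl

instance isReduced_clSub (ξ : X) : IsReduced (clSub ξ) :=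
  Groth.L18.isReduced_vanishingIdeal_subscheme _

theorem exists_isGenericPoint_clSub (ξ : X) :
    ∃ z : clSub ξ, clι ξ z = ξ ∧ IsGenericPoint z Set.univ := by
  obtain ⟨z, hz⟩ : ξ ∈ Set.range (clι ξ) := range_clι ξ ▸ subset_closure rfl
  refine ⟨z, hz, ?_⟩
  show closure {z} = Set.univ
  rw [(clι ξ).isClosedEmbedding.isInducing.closure_eq_preimage_closure_image, Set.image_singleton, hz]
  exact Set.eq_univ_of_forall fun w => show clι ξ w ∈ closure {ξ} from range_clι ξ ▸ ⟨w, rfl⟩

instance irreducibleSpace_clSub (ξ : X) : IrreducibleSpace (clSub ξ) := by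
  obtain ⟨z, -, hz⟩ := exists_isGenericPoint_clSub ξ
  have h : IsIrreducible (Set.univ : Set (clSub ξ)) := hz ▸ isIrreducible_singleton.closure
  exact { isPreirreducible_univ := h.2, toNonempty := ⟨z⟩ }

instance isIntegral_clSub (ξ : X) : IsIntegral (clSub ξ) :=
  isIntegral_of_irreducibleSpace_of_isReduced _

theorem clι_genericPoint (ξ : X) : clι ξ (genericPoint (clSub ξ)) = ξ := by
  obtain ⟨z, hz, hgen⟩ := exists_isGenericPoint_clSub ξ
  exact (congrArg (clι ξ) ((genericPoint_spec (clSub ξ)).eq hgen)).trans hz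

theorem isLocallyNoetherian_clSub [IsLocallyNoetherian X] (ξ : X) :
    IsLocallyNoetherian (clSub ξ) := LocallyOfFiniteType.isLocallyNoetherian (clι ξ)

/-- Factorisation of a map from a reduced scheme through the closure of a point. -/
noncomputable def clLift {S : Scheme.{u}} [IsReduced S] (f : S ⟶ X) (ξ : X)
    (h : Set.range f ⊆ closure ({ξ} : Set X)) : S ⟶ clSub ξ :=
  IsClosedImmersion.lift (clι ξ) f (by
    rw [Scheme.IdealSheafData.ker_subschemeι]
    exact Groth.L18.vanishingIdeal_le_ker f _ h)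

theorem clLift_fac {S : Scheme.{u}} [IsReduced S] (f : S ⟶ X) (ξ : X)
    (h : Set.range f ⊆ closure ({ξ} : Set X)) : clLift f ξ h ≫ clι ξ = f :=
  IsClosedImmersion.lift_fac _ _ _

theorem ordAt_preimmersion {Z : Scheme.{u}} (i : Z ⟶ X) [IsPreimmersion i]
    [IsLocallyNoetherian X] [IsLocallyNoetherian Z] {δ : X → ℤ}
    (hδ : Cyc.IsDimFun X δ) (hδZ : Cyc.IsDimFun Z fun z => δ (i z)) {z ζ : Z} (h : ζ ⤳ z) (hx : δ (i z) + 1 = δ (i ζ))
    (g : X.residueField (i ζ)) (hg : g ≠ 0) :
    Cyc.ordAt z ζ h (i.residueFieldMap ζ g) = Cyc.ordAt (i z) (i ζ) (h.map i.continuous) g := by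
  have h' : i ζ ⤳ i z := h.map i.continuous
  obtain ⟨a, b, hb, rfl⟩ := exists_specMap_div_gen (i z) (i ζ) h' g
  have ha : Cyc.specMap (i z) (i ζ) h' a ≠ 0 := fun h0 => hg (by rw [h0, zero_div])
  have hmap : ∀ c, Cyc.specMap (i z) (i ζ) h' c ≠ 0 →
      Cyc.specMap z ζ h ((i.stalkMap z).hom c) ≠ 0 := fun c hc => by
    rw [← residueFieldMap_specMap i h h']
    exact (map_ne_zero _).2 hc
  rw [map_div₀, residueFieldMap_specMap i h h', residueFieldMap_specMap i h h',
    ordAt_div_gen hδZ z ζ h hx (hmap a ha) (hmap b hb),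
    ordAt_div_gen hδ (i z) (i ζ) h' hx ha hb]
  let I := RingHom.ker (Cyc.specMap (i z) (i ζ) h')
  let J := RingHom.ker (Cyc.specMap z ζ h)
  have hIJ : I = J.comap (i.stalkMap z).hom := by
    ext c
    rw [Ideal.mem_comap, RingHom.mem_ker, RingHom.mem_ker, ← residueFieldMap_specMap i h h']
    exact (map_eq_zero (i.residueFieldMap ζ).hom).symm
  let e : Cyc.LocQuot (i z) (i ζ) h' ≃+* Cyc.LocQuot z ζ h :=
    RingEquiv.ofBijective (Ideal.quotientMap J (i.stalkMap z).hom hIJ.le)
      ⟨Ideal.quotientMap_injective' (h := hIJ.ge),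
        Ideal.quotientMap_surjective (H := hIJ.le) (i.stalkMap_surjective z)⟩
  rw [← ord_ringEquiv e (Ideal.Quotient.mk _ a), ← ord_ringEquiv e (Ideal.Quotient.mk _ b)]
  rfl

section ClosedImmersion

variable {Z : Scheme.{u}} (i : Z ⟶ X) [IsClosedImmersion i]

theorem specializes_iff_closedImmersion {a b : Z} : i a ⤳ i b ↔ a ⤳ b :=
  i.isClosedEmbedding.isInducing.specializes_iff

theorem isDimFun_closedImmersion {δ : X → ℤ} (hδ : Cyc.IsDimFun X δ) :
    Cyc.IsDimFun Z fun z => δ (i z) := by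
  intro a b hab hne
  obtain ⟨h1, h2⟩ := hδ (i a) (i b) (hab.map i.continuous)
    fun h => hne (i.isClosedEmbedding.injective h)
  refine ⟨h1, fun himm => h2 fun w haw hwb => ?_⟩
  obtain ⟨c, rfl⟩ : w ∈ Set.range i := haw.mem_closed i.isClosedEmbedding.isClosed_range ⟨a, rfl⟩
  rcases himm c ((specializes_iff_closedImmersion i).1 haw)
    ((specializes_iff_closedImmersion i).1 hwb) with h | h
  · exact Or.inl (congrArg i h)
  · exact Or.inr (congrArg i h)

theorem residueFieldMap_bijective' (z : Z) : Function.Bijective (i.residueFieldMap z).hom :=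
  FibreDim.residueFieldMap_bijective i z

theorem ordAt_closedImmersion [IsLocallyNoetherian X] [IsLocallyNoetherian Z] {δ : X → ℤ}
    (hδ : Cyc.IsDimFun X δ) {z ζ : Z} (h : ζ ⤳ z) (hx : δ (i z) + 1 = δ (i ζ))
    (g : X.residueField (i ζ)) (hg : g ≠ 0) :
    Cyc.ordAt z ζ h (i.residueFieldMap ζ g) = Cyc.ordAt (i z) (i ζ) (h.map i.continuous) g :=
  ordAt_preimmersion i hδ (isDimFun_closedImmersion i hδ) h hx g hg

theorem divFun_closedImmersion [IsLocallyNoetherian X] [IsLocallyNoetherian Z] {δ : X → ℤ}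
    (hδ : Cyc.IsDimFun X δ) (ζ : Z) (g : X.residueField (i ζ)) (hg : g ≠ 0) (z : Z) :
    Cyc.divFun (fun w => δ (i w)) ζ (i.residueFieldMap ζ g) z = Cyc.divFun δ (i ζ) g (i z) := by
  by_cases h : ζ ⤳ z ∧ δ (i z) + 1 = δ (i ζ)
  · rw [Cyc.divFun, dif_pos h, Cyc.divFun, dif_pos ⟨h.1.map i.continuous, h.2⟩]
    exact ordAt_closedImmersion i hδ h.1 h.2 g hg
  · rw [Cyc.divFun, dif_neg h, Cyc.divFun,
      dif_neg fun hh => h ⟨(specializes_iff_closedImmersion i).1 hh.1, hh.2⟩]

theorem divFun_eq_zero_of_notMem_range {δ : X → ℤ} (ζ : Z) (g : X.residueField (i ζ)) {x : X}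
    (hx : x ∉ Set.range i) : Cyc.divFun δ (i ζ) g x = 0 :=
  dif_neg fun h => hx (h.1.mem_closed i.isClosedEmbedding.isClosed_range ⟨ζ, rfl⟩)

end ClosedImmersion

section Square

variable {Z W : Scheme.{u}} (p : X ⟶ Y) (i : Z ⟶ X) [IsClosedImmersion i] (j : W ⟶ Y)
  [IsClosedImmersion j] (q : Z ⟶ W)

theorem residueDegree_square (hsq : q ≫ j = i ≫ p) (z : Z) :
    q.residueDegree z = p.residueDegree (i z) := by
  have h := residueDegree_congr _ hsq z
  rw [residueDegree_comp, residueDegree_comp,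
    residueDegree_eq_one i _ (residueFieldMap_bijective' i z),
    residueDegree_eq_one j _ (residueFieldMap_bijective' j (q z)), one_mul, mul_one] at h
  exact h

theorem deltaCompat_square {δX : X → ℤ} {δY : Y → ℤ} (hδ : Cyc.DeltaCompat p δX δY)
    (hsq : q ≫ j = i ≫ p) : Cyc.DeltaCompat q (fun z => δX (i z)) fun w => δY (j w) := by
  intro z
  obtain ⟨n, hn, hd⟩ := hδ (i z)
  have e : j (q z) = p (i z) := by
    rw [← Scheme.Hom.comp_apply, hsq, Scheme.Hom.comp_apply]
  refine ⟨n, ?_, ?_⟩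
  · have h := rtrdeg_congr _ hsq z
    rw [rtrdeg_comp, rtrdeg_comp] at h
    have hi : rtrdeg i z = 0 := by
      letI := (i.residueFieldMap z).hom.toAlgebra
      haveI : Algebra.IsAlgebraic (X.residueField (i z)) (Z.residueField z) := ⟨fun w => by
        obtain ⟨v, rfl⟩ := (residueFieldMap_bijective' i z).2 w
        exact isAlgebraic_algebraMap v⟩
      exact trdeg_eq_zero
    have hj : rtrdeg j (q z) = 0 := by
      letI := (j.residueFieldMap (q z)).hom.toAlgebra
      haveI : Algebra.IsAlgebraic (Y.residueField (j (q z))) (W.residueField (q z)) := ⟨fun w => by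
        obtain ⟨v, rfl⟩ := (residueFieldMap_bijective' j (q z)).2 w
        exact isAlgebraic_algebraMap v⟩
      exact trdeg_eq_zero
    rw [hi, hj, zero_add, add_zero] at h
    exact h.trans hn
  · show δX (i z) = δY (j (q z)) + n
    rw [e]; exact hd

theorem normGen_square (hsq : q ≫ j = i ≫ p) (ζ : Z) (e : p (i ζ) = j (q ζ))
    (g : X.residueField (i ζ)) :
    j.residueFieldMap (q ζ) ((Y.residueFieldCongr e).hom (Cyc.normGen p (i ζ) g)) =
      Cyc.normGen q ζ (i.residueFieldMap ζ g) := by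
  letI := (p.residueFieldMap (i ζ)).hom.toAlgebra
  letI : Algebra (W.residueField (q ζ)) (Z.residueField ζ) := (q.residueFieldMap ζ).hom.toAlgebra
  let e₁ : Y.residueField (p (i ζ)) ≃+* W.residueField (q ζ) :=
    (Y.residueFieldCongr e).commRingCatIsoToRingEquiv.trans
      (RingEquiv.ofBijective (j.residueFieldMap (q ζ)).hom (residueFieldMap_bijective' j (q ζ)))
  let e₂ : X.residueField (i ζ) ≃+* Z.residueField ζ :=
    RingEquiv.ofBijective (i.residueFieldMap ζ).hom (residueFieldMap_bijective' i ζ)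
  have hsquare : (Y.residueFieldCongr e).hom ≫ j.residueFieldMap (q ζ) ≫ q.residueFieldMap ζ =
      p.residueFieldMap (i ζ) ≫ i.residueFieldMap ζ := by
    apply Spec.map_injective
    rw [← cancel_mono (Y.fromSpecResidueField _)]
    simp only [Spec.map_comp, Category.assoc, Scheme.residueFieldCongr_fromSpecResidueField,
      Scheme.Hom.SpecMap_residueFieldMap_fromSpecResidueField,
      Scheme.Hom.SpecMap_residueFieldMap_fromSpecResidueField_assoc, hsq]
  have h := Algebra.norm_eq_of_equiv_equiv e₁ e₂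
    (RingHom.ext fun a => congrArg (fun φ => φ.hom a) hsquare) g
  show e₁ (Algebra.norm _ g) = _
  rw [h, RingEquiv.apply_symm_apply]
  rfl

end Square

theorem divFun_congr {δ : X → ℤ} {η η' : X} (e : η = η') (g : X.residueField η) :
    Cyc.divFun δ η' ((X.residueFieldCongr e).hom g) = Cyc.divFun δ η g := by
  subst e; simp

theorem residueFieldCongr_ne_zero {η η' : X} (e : η = η') {g : X.residueField η} (hg : g ≠ 0) :
    (X.residueFieldCongr e).hom g ≠ 0 :=
  (map_ne_zero _).2 hg

end Groth.L22.Cyc
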