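import Groth.Agent.L22.Cyc.FlatDiv
import Mathlib.Topology.NoetherianSpace

/-!
Flat pullback preserves rational equivalence.
-/

universe u

open AlgebraicGeometry CategoryTheory TopologicalSpace

namespace Groth.L22.Cyc

theorem finsum_sigma_of_finite {ι : Type*} {β : ι → Type*} {M : Type*} [AddCommMonoid M]
    (g : (Σ i, β i) → M) (h : (Function.support g).Finite) :
    ∑ᶠ x, g x = ∑ᶠ i, ∑ᶠ b, g ⟨i, b⟩ := by
  classical
  let T := h.toFinset
  let I := T.image Sigma.fst
  let J : ∀ i, Finset (β i) := fun i => T.preimage (Sigma.mk i) sigma_mk_injective.injOn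
  have h1 : ∀ i, ∑ᶠ b, g ⟨i, b⟩ = ∑ b ∈ J i, g ⟨i, b⟩ := fun i =>
    finsum_eq_sum_of_support_subset _ fun b hb => by simpa [J, T] using hb
  rw [finsum_eq_sum_of_support_subset g (s := I.sigma J) (fun x hx => by
      obtain ⟨i, b⟩ := x
      simp only [Finset.coe_sigma, Set.mem_sigma_iff, Finset.mem_coe]
      exact ⟨Finset.mem_image.2 ⟨⟨i, b⟩, by simpa [T] using hx, rfl⟩, by simpa [J, T] using hx⟩),
    Finset.sum_sigma, finsum_congr h1,
    finsum_eq_sum_of_support_subset _ (s := I) (fun i hi => ?_)]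
  obtain ⟨b, hb, hgb⟩ := Finset.exists_ne_zero_of_sum_ne_zero hi
  exact Finset.mem_coe.2 (Finset.mem_image.2 ⟨⟨i, b⟩, by simpa [T] using hgb, rfl⟩)

variable {X X' : Scheme.{u}} (p : X' ⟶ X)

/-- There are finitely many points generic in the fibre over `ξ` in an affine open. -/
theorem finite_fibGen_over [IsLocallyNoetherian X'] {V : X'.Opens} (hV : IsAffineOpen V) (ξ : X) :
    {t : X' | t ∈ V ∧ FibGen p t ∧ p t = ξ}.Finite := by
  haveI : IsNoetherianRing Γ(X', V) := IsLocallyNoetherian.component_noetherian ⟨V, hV⟩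
  haveI : NoetherianSpace (V : Set X') := noetherianSpace_of_isAffineOpen V hV
  haveI : QuasiSober (V : Set X') := inferInstanceAs (QuasiSober ↥V.toScheme)
  obtain ⟨S, hSf, hSc, hSi, hS⟩ := NoetherianSpace.exists_finite_set_isClosed_irreducible
    (α := (V : Set X')) (s := (fun v : (V : Set X') => p v.1) ⁻¹' closure {ξ})
    (isClosed_closure.preimage (p.continuous.comp continuous_subtype_val))
  refine (hSf.biUnion' fun T hT =>
    Set.finite_singleton ((hSi T hT).genericPoint : (V : Set X')).1).subset ?_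
  rintro t ⟨htV, htg, htξ⟩
  have ht : (⟨t, htV⟩ : (V : Set X')) ∈ (fun v : (V : Set X') => p v.1) ⁻¹' closure {ξ} :=
    subset_closure (show p t ∈ ({ξ} : Set X) from htξ)
  rw [hS, Set.mem_sUnion] at ht
  obtain ⟨T, hT, htT⟩ := ht
  refine Set.mem_iUnion₂.2 ⟨T, hT, Set.mem_singleton_iff.2 ?_⟩
  have hgen := (hSi T hT).genericPoint_closure_eq
  rw [(hSc T hT).closure_eq] at hgen
  have hmem : (hSi T hT).genericPoint ∈ T := by
    exact hgen.le (subset_closure rfl)
  have hsp : (hSi T hT).genericPoint ⤳ (⟨t, htV⟩ : (V : Set X')) := by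
    rw [specializes_iff_mem_closure]
    exact hgen.ge htT
  have hsp' : ((hSi T hT).genericPoint : (V : Set X')).1 ⤳ t := hsp.map continuous_subtype_val
  refine (htg _ ?_ hsp').symm
  have hin : p ((hSi T hT).genericPoint : (V : Set X')).1 ∈ closure {ξ} := by
    have : (hSi T hT).genericPoint ∈ (fun v : (V : Set X') => p v.1) ⁻¹' closure {ξ} := by
      rw [hS]; exact Set.mem_sUnion.2 ⟨T, hT, hmem⟩
    exact this
  rw [htξ]
  exact ((hsp'.map p.continuous).trans (specializes_of_eq htξ)).antisymm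
    (specializes_iff_mem_closure.2 hin) |>.eq

theorem ratEquivZero_pullFun [Flat p] [IsLocallyNoetherian X] [IsLocallyNoetherian X']
    {δ : X → ℤ} {δ' : X' → ℤ} {c : ℤ} (hδ : Cyc.IsDimFun X δ) (hδ' : Cyc.IsDimFun X' δ')
    (hc : ∀ x, FibGen p x → δ' x = δ (p x) + c) {k : ℤ} (α : AlgebraicCycle X ℤ)
    (h : Cyc.RatEquivZero δ k α) (α' : AlgebraicCycle X' ℤ)
    (hα' : ⇑α' = Cyc.pullFun p δ' δ c ⇑α) : Cyc.RatEquivZero δ' (k + c) α' := by
  obtain ⟨ι, ξ, f, hk, hf, hfin, hsum⟩ := h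
  let ι' : Type u := Σ i : ι, Σ t : {t : X' // FibGen p t ∧ p t = ξ i},
    ULift.{u} (Fin (mult p t.1).toNat)
  let ξ' : ι' → X' := fun a => a.2.1.1
  let f' : (a : ι') → X'.residueField (ξ' a) := fun a =>
    p.residueFieldMap a.2.1.1 ((X.residueFieldCongr a.2.1.2.2.symm).hom (f a.1))
  have hlf : ∀ x' : X', ∃ U : Set X', IsOpen U ∧ x' ∈ U ∧
      {a : ι' | (closure {ξ' a} ∩ U).Nonempty}.Finite := by
    intro x'
    obtain ⟨U, hU, hxU, hUfin⟩ := hfin (p x')
    obtain ⟨V, hV, hxV, hVU⟩ := exists_isAffineOpen_mem_and_subset (x := x')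
      (U := ⟨p ⁻¹' U, hU.preimage p.continuous⟩) hxU
    refine ⟨V, V.2, hxV, ?_⟩
    have hmem : ∀ a : ι', (closure {ξ' a} ∩ V).Nonempty → ξ' a ∈ V := fun a ⟨y, hy, hyV⟩ =>
      (specializes_iff_mem_closure.2 hy).mem_open V.2 hyV
    have hfin' : (⋃ i ∈ {i | (closure {ξ i} ∩ U).Nonempty},
        Sigma.mk i '' {b : Σ t : {t : X' // FibGen p t ∧ p t = ξ i},
          ULift.{u} (Fin (mult p t.1).toNat) | b.1.1 ∈ V}).Finite := by
      refine hUfin.biUnion fun i _ => Set.Finite.image _ ?_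
      have h1 : {t : {t : X' // FibGen p t ∧ p t = ξ i} | t.1 ∈ V}.Finite :=
        ((finite_fibGen_over p hV (ξ i)).subset (fun t ht => ht)).preimage
          Subtype.val_injective.injOn |>.subset fun t ht => ⟨ht, t.2.1, t.2.2⟩
      exact (h1.biUnion fun t _ => (Set.finite_univ
        (α := ULift.{u} (Fin (mult p t.1).toNat))).image (Sigma.mk t)).subset
        fun b hb => Set.mem_biUnion hb ⟨b.2, Set.mem_univ _, rfl⟩
    refine hfin'.subset fun a ha => ?_
    have hV' := hmem a ha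
    refine Set.mem_biUnion (x := a.1) ⟨ξ a.1, subset_closure rfl, ?_⟩ ⟨a.2, hV', rfl⟩
    rw [← a.2.1.2.2]
    exact hVU hV'
  refine ⟨ι', ξ', f', fun a => ?_, fun a => ?_, hlf, fun x' => ?_⟩
  · have := hc a.2.1.1 a.2.1.2.1
    rw [a.2.1.2.2, hk] at this
    show δ' a.2.1.1 = _
    omega
  · exact (map_ne_zero _).2 ((map_ne_zero _).2 (hf a.1))
  · have hsupp : (Function.support fun a : ι' => Cyc.divFun δ' (ξ' a) (f' a) x').Finite := by
      obtain ⟨U, -, hxU, hUfin⟩ := hlf x'
      refine hUfin.subset fun a ha => ?_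
      rw [Function.mem_support, Cyc.divFun] at ha
      split_ifs at ha with h
      · exact ⟨x', specializes_iff_mem_closure.1 h.1, hxU⟩
      · exact absurd rfl ha
    obtain ⟨U, -, hxU, hUfin⟩ := hfin (p x')
    have hs1 : (Function.support fun i => Cyc.divFun δ (ξ i) (f i) (p x')).Finite := by
      refine hUfin.subset fun i hi => ?_
      rw [Function.mem_support, Cyc.divFun] at hi
      split_ifs at hi with h
      · exact ⟨p x', specializes_iff_mem_closure.1 h.1, hxU⟩
      · exact absurd rfl hi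
    rw [hα', pullFun_eq' p hc]
    dsimp only
    rw [hsum, finsum_mul' _ _ hs1, finsum_sigma_of_finite _ hsupp]
    refine finsum_congr fun i => ?_
    have h2 := pullFun_divFun p hδ hδ' hc (ξ i) (f i) (hf i) x'
    rw [pullFun_eq' p hc] at h2
    refine h2.trans ?_
    rw [finsum_sigma_of_finite (fun b => Cyc.divFun δ' (ξ' ⟨i, b⟩) (f' ⟨i, b⟩) x')
      (hsupp.preimage sigma_mk_injective.injOn)]
    refine finsum_congr fun t => ?_
    rw [finsum_eq_sum_of_fintype]
    rw [Finset.sum_congr rfl (g := fun _ => Cyc.divFun δ' t.1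
        (p.residueFieldMap t.1 ((X.residueFieldCongr t.2.2.symm).hom (f i))) x') (fun a _ => rfl),
      Finset.sum_const, Finset.card_univ, Fintype.card_ulift, Fintype.card_fin, nsmul_eq_mul]

end Groth.L22.Cyc
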