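import Groth.Agent.L22.Cyc.FiniteDeg
import Groth.Agent.L22.Cyc.LenTensor
import Mathlib.AlgebraicGeometry.Morphisms.QuasiFinite
import Mathlib.AlgebraicGeometry.Morphisms.Proper
import Mathlib.FieldTheory.IntermediateField.Adjoin.Algebra

/-!
Residue degrees in a cartesian square, and flat base change of proper pushforward of cycles.
-/

universe u

open AlgebraicGeometry CategoryTheory CategoryTheory.Limits

namespace Groth.L22.Cyc

variable {X X' Y Y' : Scheme.{u}}

theorem rtrdeg_eq_zero_iff (f : Y ⟶ X) [LocallyOfFiniteType f] (y : Y) :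
    rtrdeg f y = 0 ↔ f.residueDegree y ≠ 0 := by
  letI := (f.residueFieldMap y).hom.toAlgebra
  haveI : Algebra.EssFiniteType (X.residueField (f y)) (Y.residueField y) :=
    RingHom.EssFiniteType.residueFieldMap (LocallyOfFiniteType.stalkMap f y)
  show Algebra.trdeg (X.residueField (f y)) (Y.residueField y) = 0 ↔
    Module.finrank (X.residueField (f y)) (Y.residueField y) ≠ 0
  constructor
  · intro h
    haveI : Algebra.IsAlgebraic (X.residueField (f y)) (Y.residueField y) := trdeg_eq_zero_iff.1 h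
    haveI := Algebra.finite_of_essFiniteType_of_isAlgebraic (F := X.residueField (f y))
      (E := Y.residueField y)
    exact Module.finrank_pos.ne'
  · intro h
    haveI : Module.Finite (X.residueField (f y)) (Y.residueField y) :=
      Module.finite_of_finrank_pos (Nat.pos_of_ne_zero h)
    haveI : Algebra.IsAlgebraic (X.residueField (f y)) (Y.residueField y) :=
      Algebra.IsAlgebraic.of_finite _ _
    exact trdeg_eq_zero

theorem mapCoeff_eq (f : Y ⟶ X) [LocallyOfFiniteType f] {δY : Y → ℤ} {δ : X → ℤ}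
    (hf : Cyc.DeltaCompat f δY δ) (y : Y) :
    AlgebraicCycle.mapCoeff f δY δ y = f.residueDegree y := by
  rw [AlgebraicCycle.mapCoeff]
  split_ifs with h
  · rfl
  · obtain ⟨n, hn, hδ⟩ := hf y
    by_contra hne
    have h0 := (rtrdeg_eq_zero_iff f y).2 (Ne.symm hne)
    have h1 : rtrdeg f y = (n : Cardinal.{u}) := hn
    rw [h0] at h1
    have : n = 0 := by exact_mod_cast h1.symm
    subst this
    exact h (by rw [hδ]; simp)

theorem deltaCompat_shift_of_residueDegree (f : Y ⟶ X) [LocallyOfFiniteType f] {δY : Y → ℤ}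
    {δ : X → ℤ} (hf : Cyc.DeltaCompat f δY δ) {y : Y} (h : f.residueDegree y ≠ 0) :
    δY y = δ (f y) := by
  by_contra hne
  have h1 := mapCoeff_eq f hf y
  rw [AlgebraicCycle.mapCoeff, if_neg hne] at h1
  exact h h1.symm

theorem residueDegree_eq_zero_of_lt (f : Y ⟶ X) [LocallyOfFiniteType f] {δY : Y → ℤ}
    {δ : X → ℤ} (hf : Cyc.DeltaCompat f δY δ) (y : Y) :
    δ (f y) ≤ δY y ∧ (f.residueDegree y = 0 → δ (f y) < δY y) := by
  obtain ⟨n, hn, hδ⟩ := hf y
  refine ⟨by rw [hδ]; omega, fun h => ?_⟩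
  rcases Nat.eq_zero_or_pos n with rfl | hp
  · exact absurd h ((rtrdeg_eq_zero_iff f y).1 (by simpa [rtrdeg] using hn))
  · rw [hδ]; omega

theorem length_stalk_fiber (f : X ⟶ Y) (y : Y) (z : f.fiber y) :
    Module.length ((f.fiber y).presheaf.stalk z) ((f.fiber y).presheaf.stalk z) =
      mult f (f.fiberι y z) := by
  obtain ⟨hs, hk⟩ := Groth.L18.stalkMap_fiberι f y z
  rw [← length_self_of_ringEquiv (RingHom.quotientKerEquivOfSurjective hs),
    ← Module.length_eq_of_surjective (S := X.presheaf.stalk (f.fiberι y z))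
      (R := X.presheaf.stalk (f.fiberι y z) ⧸ _) (M := X.presheaf.stalk (f.fiberι y z) ⧸ _)
      Ideal.Quotient.mk_surjective, hk]
  rfl

theorem length_stalk_eq_mult_mul {P F : Scheme.{u}} (π : P ⟶ F) [Flat π] (w : P) :
    Module.length (P.presheaf.stalk w) (P.presheaf.stalk w) =
      Module.length (F.presheaf.stalk (π w)) (F.presheaf.stalk (π w)) * mult π w := by
  letI : Algebra (F.presheaf.stalk (π w)) (P.presheaf.stalk w) := (π.stalkMap w).hom.toAlgebra
  haveI : Module.Flat (F.presheaf.stalk (π w)) (P.presheaf.stalk w) := Flat.stalkMap π w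
  haveI : IsLocalHom (algebraMap (F.presheaf.stalk (π w)) (P.presheaf.stalk w)) :=
    π.toLRSHom.prop w
  have h := length_quotient_map (B := F.presheaf.stalk (π w)) (C := P.presheaf.stalk w) ⊥
  rw [Ideal.map_bot, (Submodule.quotEquivOfEqBot (⊥ : Ideal (P.presheaf.stalk w)) rfl).length_eq,
    (Submodule.quotEquivOfEqBot (⊥ : Ideal (F.presheaf.stalk (π w))) rfl).length_eq] at h
  exact h

theorem fromSpec_fiber_apply (f : X ⟶ Y) (y : Y) (z : f.fiber y) : f (f.fiberι y z) = y :=
  (f.range_fiberι y).subset ⟨z, rfl⟩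

variable (f : Y ⟶ X) (p : X' ⟶ X)

/-- The sum over the points of the cartesian square over `(y, x')`. -/
theorem sum_over_pair [Flat p] {y : Y} {x' : X'} (hxy : p x' = f y)
    (hd : f.residueDegree y ≠ 0) :
    (∑ᶠ t ∈ {t : ↥(pullback f p) | pullback.fst f p t = y ∧ pullback.snd f p t = x'},
        (pullback.snd f p).residueDegree t * (mult (pullback.fst f p) t).toNat) =
      f.residueDegree y * (mult p x').toNat ∧
    {t : ↥(pullback f p) | pullback.fst f p t = y ∧ pullback.snd f p t = x'}.Finite := by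
  set q := pullback.fst f p
  set f' := pullback.snd f p
  obtain ⟨z, rfl⟩ : ∃ z : p.fiber (f y), p.fiberι (f y) z = x' :=
    (p.range_fiberι (f y)).ge hxy
  letI := (f.residueFieldMap y).hom.toAlgebra
  haveI : Module.Finite (X.residueField (f y)) (Y.residueField y) :=
    Module.finite_of_finrank_pos (Nat.pos_of_ne_zero hd)
  let σ : Spec (Y.residueField y) ⟶ Spec (X.residueField (f y)) := Spec.map (f.residueFieldMap y)
  haveI : IsFinite σ := IsFinite.SpecMap_iff _ |>.2 (RingHom.finite_algebraMap.2 ‹_›)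
  haveI : Flat σ := Flat.SpecMap_iff.2 (RingHom.flat_algebraMap_iff.2 inferInstance)
  have hσ : σ ≫ X.fromSpecResidueField (f y) = Y.fromSpecResidueField y ≫ f :=
    Scheme.Hom.SpecMap_residueFieldMap_fromSpecResidueField f y
  have hw : (q.fiberι y ≫ f') ≫ p =
      (q.fiberToSpecResidueField y ≫ σ) ≫ X.fromSpecResidueField (f y) := by
    rw [Category.assoc, Category.assoc, hσ, show f' ≫ p = q ≫ f from pullback.condition.symm,
      ← Category.assoc, q.fiber_fac, Category.assoc]
  let π : q.fiber y ⟶ p.fiber (f y) :=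
    pullback.lift (q.fiberι y ≫ f') (q.fiberToSpecResidueField y ≫ σ) hw
  have hπι : π ≫ p.fiberι (f y) = q.fiberι y ≫ f' := pullback.lift_fst _ _ _
  have hπs : π ≫ p.fiberToSpecResidueField (f y) = q.fiberToSpecResidueField y ≫ σ :=
    pullback.lift_snd _ _ _
  have big : IsPullback (q.fiberι y ≫ f') (q.fiberToSpecResidueField y) p
      (Y.fromSpecResidueField y ≫ f) :=
    (IsPullback.of_hasPullback q (Y.fromSpecResidueField y)).paste_horiz
      (IsPullback.of_hasPullback f p).flip
  have sq : IsPullback π (q.fiberToSpecResidueField y) (p.fiberToSpecResidueField (f y)) σ := by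
    refine IsPullback.of_right ?_ hπs (IsPullback.of_hasPullback p (X.fromSpecResidueField (f y)))
    have h := big
    rw [← hσ] at h
    exact hπι ▸ h
  haveI : IsFinite π := MorphismProperty.of_isPullback sq.flip ‹IsFinite σ›
  haveI : Flat π := MorphismProperty.of_isPullback sq.flip ‹Flat σ›
  have hrank : π.finrank z = f.residueDegree y := by
    rw [Scheme.Hom.finrank_of_isPullback (q.fiberToSpecResidueField y) π σ
      (p.fiberToSpecResidueField (f y)) sq.flip z]
    exact (Scheme.Hom.finrank_SpecMap_algebraMap (X.residueField (f y)) (Y.residueField y) _).trans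
      (congrFun Module.rankAtStalk_eq_finrank_of_free _)
  have hbij : Set.BijOn (fun w => q.fiberι y w) (π ⁻¹' {z})
      {t : ↥(pullback f p) | q t = y ∧ f' t = p.fiberι (f y) z} := by
    refine ⟨fun w hw' => ⟨fromSpec_fiber_apply q y w, ?_⟩,
      (q.fiberι y).isEmbedding.injective.injOn, fun t ht => ?_⟩
    · rw [← Scheme.Hom.comp_apply, ← hπι, Scheme.Hom.comp_apply, show π w = z from hw']
    · obtain ⟨w, rfl⟩ := (q.range_fiberι y).ge ht.1
      refine ⟨w, (p.fiberι (f y)).isEmbedding.injective ?_, rfl⟩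
      rw [← Scheme.Hom.comp_apply, hπι, Scheme.Hom.comp_apply]
      exact ht.2
  refine ⟨?_, hbij.image_eq ▸ (π.finite_preimage_singleton z).image _⟩
  rw [← hrank, finrank_eq_sum π z, finsum_mem_mul]
  · refine (finsum_mem_eq_of_bijOn _ hbij fun w hw' => ?_).symm
    have hzw : π w = z := hw'
    have h1 : π.residueDegree w = f'.residueDegree (q.fiberι y w) := by
      have h2 := residueDegree_congr _ hπι w
      rw [residueDegree_comp, residueDegree_comp,
        residueDegree_eq_one (p.fiberι (f y)) _ (FibreDim.residueFieldMap_bijective _ _),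
        residueDegree_eq_one (q.fiberι y) _ (FibreDim.residueFieldMap_bijective _ _),
        one_mul, mul_one] at h2
      exact h2
    have h3 : mult q (q.fiberι y w) = mult p (p.fiberι (f y) z) * mult π w := by
      rw [← length_stalk_fiber, length_stalk_eq_mult_mul π w, length_stalk_fiber, hzw]
    rw [h1, h3, ENat.toNat_mul]
    ring

/-- Flat base change of proper pushforward of cycles. -/
theorem map_pullFun_eq [IsProper f] [Flat p] [IsLocallyNoetherian X'] {δ : X → ℤ} {δ' : X' → ℤ}
    {δY : Y → ℤ} {δY' : ↥(pullback f p) → ℤ} (hX' : Cyc.IsDimFun X' δ')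
    (hf : Cyc.DeltaCompat f δY δ) (hf' : Cyc.DeltaCompat (pullback.snd f p) δY' δ') {c : ℤ}
    (hc : ∀ x, FibGen p x → δ' x = δ (p x) + c)
    (hcY : ∀ t, FibGen (pullback.fst f p) t → δY' t = δY (pullback.fst f p t) + c)
    [IsLocallyNoetherian (pullback f p)] (α : AlgebraicCycle Y ℤ)
    (α' : AlgebraicCycle (pullback f p) ℤ)
    (hα' : ⇑α' = Cyc.pullFun (pullback.fst f p) δY' δY c ⇑α) :
    Cyc.pullFun p δ' δ c ⇑(AlgebraicCycle.map f δY δ α) =
      ⇑(AlgebraicCycle.map (pullback.snd f p) δY' δ' α') := by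
  set q := pullback.fst f p
  set f' := pullback.snd f p
  funext x'
  rw [pullFun_eq p hX' hc]
  rw [pullFun_eq' q hcY] at hα'
  show (∑ᶠ y ∈ f ⁻¹' {p x'}, α y * ((AlgebraicCycle.mapCoeff f δY δ y : ℕ) : ℤ)) *
      ((mult p x').toNat : ℤ) =
    ∑ᶠ t ∈ f' ⁻¹' {x'}, α' t * ((AlgebraicCycle.mapCoeff f' δY' δ' t : ℕ) : ℤ)
  have hqt : ∀ t, f' t = x' → f (q t) = p x' := fun t ht => by
    rw [← Scheme.Hom.comp_apply, pullback.condition, Scheme.Hom.comp_apply, ht]
  have hle : ∀ x, δ' x ≤ δ (p x) + c ∧ (¬ FibGen p x → δ' x < δ (p x) + c) := fun x => by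
    obtain ⟨v, hv, hvx, hg⟩ := exists_fibGen p x
    have h2 := hc v hg
    rw [hv] at h2
    by_cases hne : v = x
    · subst hne; exact ⟨h2.le, fun h => absurd hg h⟩
    · have := (hX' v x hvx hne).1
      exact ⟨by omega, fun _ => by omega⟩
  let S : Set Y := {y ∈ f ⁻¹' {p x'} | α y ≠ 0 ∧ f.residueDegree y ≠ 0}
  have hS : S.Finite := by
    have hc' : IsCompact (f ⁻¹' {p x'}) := f.isCompact_preimage_singleton _
    exact (α.locallyFiniteSupport.finite_inter_support_of_isCompact hc').subset
      fun y hy => ⟨hy.1, hy.2.1⟩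
  let T : Y → Set ↥(pullback f p) := fun y => {t | q t = y ∧ f' t = x'}
  let G : ↥(pullback f p) → ℤ := fun t => α' t * ((f'.residueDegree t : ℕ) : ℤ)
  have hR : (∑ᶠ t ∈ f' ⁻¹' {x'}, α' t * ((AlgebraicCycle.mapCoeff f' δY' δ' t : ℕ) : ℤ)) =
      ∑ᶠ t ∈ f' ⁻¹' {x'}, G t :=
    finsum_mem_congr rfl fun t _ => by rw [mapCoeff_eq f' hf']
  have hsupp : ∀ t, f' t = x' → G t ≠ 0 → q t ∈ S := fun t ht hG => by
    rw [show G t = α' t * ((f'.residueDegree t : ℕ) : ℤ) from rfl, hα'] at hG
    have hα0 : α (q t) ≠ 0 := fun h => hG (by simp [h])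
    have hd' : f'.residueDegree t ≠ 0 := fun h => hG (by simp [h])
    have hg : FibGen q t := by
      by_contra h
      exact hG (by simp [mult_eq_top h])
    refine ⟨hqt t ht, hα0, fun h0 => ?_⟩
    have h1 := deltaCompat_shift_of_residueDegree f' hf' hd'
    have h2 := hcY t hg
    have h3 := (residueDegree_eq_zero_of_lt f hf (q t)).2 h0
    rw [hqt t ht] at h3
    rw [ht] at h1
    have h4 := (hle x').1
    omega
  rw [hR, finsum_mem_inter_support_eq' G (f' ⁻¹' {x'}) (⋃ y ∈ S, T y) ?_]
  · rw [finsum_mem_biUnion ?_ hS fun y hy => (sum_over_pair f p hy.1.symm hy.2.2).2]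
    · rw [finsum_mem_inter_support_eq' (fun y => α y * ((AlgebraicCycle.mapCoeff f δY δ y : ℕ) : ℤ))
        (f ⁻¹' {p x'}) S ?_, finsum_mem_mul]
      · refine finsum_mem_congr rfl fun y hy => ?_
        obtain ⟨hsum, hfin⟩ := sum_over_pair f p (x' := x') hy.1.symm hy.2.2
        have h5 : ∀ t ∈ T y, G t =
            α y * (((f'.residueDegree t * (mult q t).toNat : ℕ)) : ℤ) := fun t ht => by
          have hqy : q t = y := ht.1
          show α' t * _ = _
          rw [hα']
          simp only [hqy]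
          push_cast
          ring
        rw [finsum_mem_congr rfl h5, ← mul_finsum_mem, ← Nat.cast_finsum_mem hfin, hsum,
          mapCoeff_eq f hf]
        push_cast
        ring
      · intro y hy
        rw [Function.mem_support, mapCoeff_eq f hf] at hy
        exact ⟨fun h => ⟨h, fun h0 => hy (by simp [h0]), fun h0 => hy (by simp [h0])⟩,
          fun h => h.1⟩
    · intro a _ b _ hab
      exact Set.disjoint_left.2 fun t h1 h2 => hab (h1.1.symm.trans h2.1)
  · intro t ht
    refine ⟨fun h => ?_, fun h => ?_⟩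
    · exact Set.mem_iUnion₂.2 ⟨q t, hsupp t h ht, rfl, h⟩
    · obtain ⟨y, _, hy⟩ := Set.mem_iUnion₂.1 h
      exact hy.2

end Groth.L22.Cyc
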