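import Groth.Agent.L22.Cyc.OrdFrac
import Groth.Agent.L22.Cyc.Ord
import Groth.Agent.L22.Cyc.OrdGen
import Groth.Agent.L22.Cyc.PushPull
import Groth.Agent.L22.Cyc.FlatRat
import Mathlib.AlgebraicGeometry.ZariskisMainTheorem
import Mathlib.RingTheory.LocalRing.Length
import Mathlib.Data.ENat.BigOperators

/-!
The push-forward of a principal divisor along a generically finite proper morphism is the divisor
of the norm, point by point.
-/

universe u

open AlgebraicGeometry CategoryTheory

namespace Groth.L22.Cyc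

section Algebra

theorem length_eq_sum_maximal (A C : Type u) [CommRing A] [CommRing C] [Algebra A C]
    [IsArtinianRing C] [Fintype (MaximalSpectrum C)] :
    Module.length A C =
      ∑ Q : MaximalSpectrum C, Module.length A (Localization.AtPrime Q.asIdeal) :=
  (((MaximalSpectrum.toPiLocalizationEquiv C).restrictScalars A).toLinearEquiv.length_eq).trans
    (Module.length_pi_of_fintype _ _)

end Algebra

variable {X Y : Scheme.{u}}

theorem exists_isFinite_appLE (p : X ⟶ Y) [IsProper p] (y : Y) (hfib : (p ⁻¹' {y}).Finite) :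
    ∃ V : Y.Opens, y ∈ V ∧ IsAffineOpen V ∧ IsAffineOpen (p ⁻¹ᵁ V) ∧ (p.app V).hom.Finite := by
  obtain ⟨V₀, hy, hV₀⟩ := exists_isFinite_morphismRestrict_of_finite_preimage_singleton p y hfib
  obtain ⟨V, hV, hyV, hle⟩ := exists_isAffineOpen_mem_and_subset (x := y) (U := V₀) hy
  refine ⟨V, hyV, hV, ?_⟩
  let W : V₀.toScheme.Opens := V₀.ι ⁻¹ᵁ V
  have hW : V₀.ι ''ᵁ W = V := by
    show V₀.ι ''ᵁ (V₀.ι ⁻¹ᵁ V) = V
    rw [Scheme.Hom.image_preimage_eq_opensRange_inf, Scheme.Opens.opensRange_ι,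
      inf_eq_right]
    exact hle
  have hWa : IsAffineOpen W := by
    rw [← Scheme.Hom.isAffineOpen_iff_of_isOpenImmersion V₀.ι, hW]; exact hV
  haveI := hV₀
  constructor
  · have h1 : IsAffineOpen ((p ∣_ V₀) ⁻¹ᵁ W) := hWa.preimage _
    rw [← Scheme.Hom.isAffineOpen_iff_of_isOpenImmersion (p ⁻¹ᵁ V₀).ι,
      image_morphismRestrict_preimage, hW] at h1
    exact h1
  · have h := (p ∣_ V₀).finite_app W hWa
    rw [morphismRestrict_app'] at h
    rw [Scheme.Hom.app_eq_appLE]
    have e2 : (p ⁻¹ᵁ V₀).ι ''ᵁ ((p ∣_ V₀) ⁻¹ᵁ W) = p ⁻¹ᵁ V := by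
      rw [image_morphismRestrict_preimage, hW]
    exact (Scheme.Hom.appLE_congr p _ hW e2 (fun φ => φ.hom.Finite)).1 h

variable [IsIntegral X] [IsIntegral Y] [IsLocallyNoetherian X] [IsLocallyNoetherian Y]

open Classical in
set_option maxHeartbeats 1000000 in
/-- The key identity for an element regular over an affine neighbourhood of the point. -/
theorem sum_fibre_ord (p : X ⟶ Y) (hη : p (genericPoint X) = genericPoint Y)
    (hdeg : p.residueDegree (genericPoint X) ≠ 0) {y : Y} [Ring.KrullDimLE 1 (Y.presheaf.stalk y)]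
    (hy : p (genericPoint X) ⤳ y)
    (hdim1 : ∀ Q : Ideal (Y.presheaf.stalk y), Q.IsPrime → Q ≠ ⊥ →
      Q = IsLocalRing.maximalIdeal _)
    {V : Y.Opens} (hV : IsAffineOpen V) (hyV : y ∈ V) (hU : IsAffineOpen (p ⁻¹ᵁ V))
    (hfin : (p.app V).hom.Finite) (hfib : (p ⁻¹' {y}).Finite)
    (hdegx : ∀ x, p x = y → p.residueDegree x ≠ 0)
    (hηU : genericPoint X ∈ p ⁻¹ᵁ V)
    (a : Γ(X, p ⁻¹ᵁ V)) (ha : a ≠ 0) :
    ∑ x ∈ hfib.toFinset, (if h : x ∈ p ⁻¹ᵁ V then
        (p.residueDegree x : ℤ) *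
          ((Ring.ord (X.presheaf.stalk x) (X.presheaf.germ _ x h a)).toNat : ℤ) else 0) =
      Cyc.ordAt y (p (genericPoint X)) hy
        (Cyc.normGen p (genericPoint X) (X.evaluation _ _ hηU a)) := by
  classical
  let η := genericPoint X
  let R := Γ(Y, V)
  let B₀ := Γ(X, p ⁻¹ᵁ V)
  let A := Y.presheaf.stalk y
  let K := Y.residueField (p η)
  let L := X.residueField η
  letI : Algebra K L := (p.residueFieldMap η).hom.toAlgebra
  haveI : FiniteDimensional K L := Module.finite_of_finrank_pos (Nat.pos_of_ne_zero hdeg)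
  letI : Algebra A K := (Cyc.specMap y (p η) hy).toAlgebra
  haveI hfrac : IsFractionRing A K := by
    haveI : FaithfulSMul A K :=
      (faithfulSMul_iff_algebraMap_injective _ _).2 (specMap_injective' y hη hy)
    refine IsFractionRing.of_field _ _ fun z => ?_
    obtain ⟨c, d, -, h⟩ := exists_specMap_div_gen y (p η) hy z
    exact ⟨c, d, h⟩
  letI : Algebra A L := ((p.residueFieldMap η).hom.comp (Cyc.specMap y (p η) hy)).toAlgebra
  haveI : IsScalarTower A K L := IsScalarTower.of_algebraMap_eq' rfl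
  letI : Algebra R B₀ := (p.app V).hom.toAlgebra
  haveI : Module.Finite R B₀ := RingHom.finite_algebraMap.1 hfin
  letI algRA : Algebra R A := Y.presheaf.algebra_section_stalk (⟨y, hyV⟩ : V)
  haveI hlocA : IsLocalization.AtPrime A (hV.primeIdealOf ⟨y, hyV⟩).asIdeal :=
    hV.isLocalization_stalk ⟨y, hyV⟩
  let ι₀ : B₀ →+* L := (X.evaluation _ η hηU).hom
  letI : Algebra B₀ L := ι₀.toAlgebra
  have hι₀ : Function.Injective ι₀ :=
    residue_generic_bijective.1.comp (germ_injective_of_isIntegral X η hηU)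
  have hnat : ∀ r : R, algebraMap A L (algebraMap R A r) = ι₀ (algebraMap R B₀ r) := fun r => by
    show p.residueFieldMap η (Cyc.specMap y (p η) hy (Y.presheaf.germ V y hyV r)) = _
    rw [specMap_eq_residue]
    erw [TopCat.Presheaf.germ_stalkSpecializes_apply]
    exact Scheme.evaluation_naturality_apply p η _ r
  haveI : IsFractionRing B₀ L := by
    haveI : Nonempty (p ⁻¹ᵁ V) := ⟨⟨η, hηU⟩⟩
    haveI := functionField_isFractionRing_of_isAffineOpen X _ hU
    haveI : FaithfulSMul B₀ L := (faithfulSMul_iff_algebraMap_injective _ _).2 hι₀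
    refine IsFractionRing.of_field _ _ fun z => ?_
    obtain ⟨s, rfl⟩ := residue_generic_bijective.2 z
    obtain ⟨c, d, -, hs⟩ := IsFractionRing.div_surjective (A := B₀) (K := X.functionField) s
    exact ⟨c, d, by rw [← hs, map_div₀]; rfl⟩
  -- the integral closure-free semilocal ring over `y`
  let B : Subalgebra A L := Algebra.adjoin A (Set.range ι₀)
  obtain ⟨G, hG⟩ := (Module.finite_def.1 (inferInstance : Module.Finite R B₀))
  have hspanB : ∀ z ∈ B, ∃ (b : B₀) (s : R),
      s ∈ (hV.primeIdealOf ⟨y, hyV⟩).asIdeal.primeCompl ∧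
      z * ι₀ (algebraMap R B₀ s) = ι₀ b := by
    intro z hz
    induction hz using Algebra.adjoin_induction with
    | mem z hz =>
      obtain ⟨b, rfl⟩ := hz
      exact ⟨b, 1, one_mem _, by rw [map_one, map_one, mul_one]⟩
    | algebraMap c =>
      obtain ⟨⟨r, s⟩, hrs⟩ := IsLocalization.surj (hV.primeIdealOf ⟨y, hyV⟩).asIdeal.primeCompl c
      exact ⟨algebraMap R B₀ r, s, s.2, by rw [← hnat, ← hnat, ← map_mul, hrs]⟩
    | add u v _ _ hu hv =>
      obtain ⟨b, s, hs, e⟩ := hu
      obtain ⟨b', s', hs', e'⟩ := hv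
      refine ⟨b * algebraMap R B₀ s' + b' * algebraMap R B₀ s, s * s', mul_mem hs hs', ?_⟩
      rw [map_mul, map_mul, map_add, map_mul, map_mul, ← e, ← e']; ring
    | mul u v _ _ hu hv =>
      obtain ⟨b, s, hs, e⟩ := hu
      obtain ⟨b', s', hs', e'⟩ := hv
      refine ⟨b * b', s * s', mul_mem hs hs', ?_⟩
      rw [map_mul, map_mul, map_mul, ← e, ← e']; ring
  let φ : B₀ →+* B := ι₀.codRestrict B fun b => Algebra.subset_adjoin ⟨b, rfl⟩
  letI : Algebra B₀ B := φ.toAlgebra
  have hφ : Function.Injective φ := fun u v h => hι₀ (congrArg Subtype.val h)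
  have hφR : ∀ r : R, φ (algebraMap R B₀ r) = algebraMap A B (algebraMap R A r) :=
    fun r => Subtype.ext (hnat r).symm
  let S : Submonoid B₀ := Algebra.algebraMapSubmonoid B₀ (hV.primeIdealOf ⟨y, hyV⟩).asIdeal.primeCompl
  have hSunit : ∀ s ∈ S, IsUnit (φ s) := by
    rintro _ ⟨r, hr, rfl⟩
    rw [hφR]
    exact (IsLocalization.map_units A ⟨r, hr⟩).map _
  haveI hlocB : IsLocalization S B :=
    { map_units := fun s => hSunit s s.2
      surj := fun z => by
        obtain ⟨b, s, hs, e⟩ := hspanB z.1 z.2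
        exact ⟨⟨b, ⟨algebraMap R B₀ s, s, hs, rfl⟩⟩, Subtype.ext e⟩
      exists_of_eq := fun {u v} h => ⟨1, by rw [hφ h]⟩ }
  haveI : Module.Finite A B := by
    refine ⟨⟨G.image φ, eq_top_iff.2 fun z _ => ?_⟩⟩
    obtain ⟨b, s, hs, e⟩ := hspanB z.1 z.2
    obtain ⟨v, hv⟩ := IsLocalization.map_units A (⟨s, hs⟩ :
      (hV.primeIdealOf ⟨y, hyV⟩).asIdeal.primeCompl)
    have hz : z = (↑v⁻¹ : A) • φ b := by
      have h1 : z * algebraMap A B (algebraMap R A s) = φ b := by
        rw [← hφR]; exact Subtype.ext e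
      rw [← h1, Algebra.smul_def, mul_comm z, ← mul_assoc, ← map_mul,
        show (↑v⁻¹ : A) * algebraMap R A s = 1 by rw [← hv]; exact v.inv_mul, map_one, one_mul]
    rw [hz]
    refine Submodule.smul_mem _ _ ?_
    have hb : b ∈ Submodule.span R (G : Set B₀) := hG ▸ trivial
    clear hz e
    induction hb using Submodule.span_induction with
    | mem w hw => exact Submodule.subset_span (Finset.mem_image_of_mem φ hw)
    | zero => simp
    | add u v _ _ hu hv => rw [map_add]; exact add_mem hu hv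
    | smul r w _ hw =>
      rw [Algebra.smul_def, map_mul, hφR, ← Algebra.smul_def]
      exact Submodule.smul_mem _ _ hw
  haveI : IsDomain B₀ := hι₀.isDomain
  haveI : IsFractionRing B L :=
    haveI : IsScalarTower B₀ B L := IsScalarTower.of_algebraMap_eq' rfl
    IsFractionRing.isFractionRing_of_isDomain_of_isLocalization S B L
  have hinjAB : Function.Injective (algebraMap A B) := fun u v h =>
    specMap_injective' y hη hy ((p.residueFieldMap η).hom.injective (congrArg Subtype.val h))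
  -- the points of the fibre give primes of `B`
  have hmemU : ∀ x, p x = y → x ∈ p ⁻¹ᵁ V := fun x h => show p x ∈ V from h ▸ hyV
  have ha' : φ a ≠ 0 := (map_ne_zero_iff _ hφ).2 ha
  obtain ⟨hlt, hord⟩ :=
    Groth.L22.OrdDet.length_eq_ordFrac_norm (A := A) (K := K) (L := L) hinjAB (φ a) ha'
  let C := B ⧸ Ideal.span {φ a}
  have hnorm : Cyc.normGen p η (X.evaluation _ _ hηU a) = Algebra.norm K (algebraMap B L (φ a)) :=
    rfl
  have hordat : Cyc.ordAt y (p η) hy (Algebra.norm K (algebraMap B L (φ a))) =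
      CycAlg.ordFrac A K (Algebra.norm K (algebraMap B L (φ a))) := by
    obtain ⟨c, d, hd, hcd⟩ := IsFractionRing.div_surjective (A := A)
      (Algebra.norm K (algebraMap B L (φ a)))
    have hd0 : d ≠ 0 := nonZeroDivisors.ne_zero hd
    have hc0 : c ≠ 0 := fun h => by
      rw [h, map_zero, zero_div] at hcd
      exact Algebra.norm_ne_zero_iff.2
        ((map_ne_zero_iff _ (IsFractionRing.injective B L)).2 ha') hcd.symm
    rw [← hcd, Groth.L22.OrdDet.ordFrac_div hc0 hd0]
    exact ordAt_div' y hη hy hc0 hd0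
  rw [hnorm, hordat, ← hord]
  -- Artinian decomposition of `C`
  have hCA : IsArtinian A C := (isFiniteLength_iff_isNoetherian_isArtinian.1
    (Module.length_ne_top_iff.1 hlt.ne)).2
  haveI : IsArtinianRing C := isArtinian_of_tower A hCA
  haveI : Fintype (MaximalSpectrum C) := Fintype.ofFinite _
  rw [length_eq_sum_maximal A C]
  -- the prime of `B` of a point of the fibre
  let q₀ : ∀ x : {x // p x = y}, Ideal B₀ := fun x => (hU.primeIdealOf ⟨x.1, hmemU x.1 x.2⟩).asIdeal
  have hS_le : ∀ (x : {x // p x = y}), S ≤ (q₀ x).primeCompl := by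
    rintro x _ ⟨r, hr, rfl⟩ hmem
    refine hr ?_
    have h1 := IsAffineOpen.comap_primeIdealOf_appLE (f := p) (x := x.1) V hV (p ⁻¹ᵁ V) hU le_rfl
      (hmemU x.1 x.2)
    have h2 : algebraMap R B₀ r = (p.appLE V (p ⁻¹ᵁ V) le_rfl).hom r := by
      rw [← Scheme.Hom.app_eq_appLE]; rfl
    have h3 : r ∈ (hV.primeIdealOf ⟨p x.1, hmemU x.1 x.2⟩).asIdeal := by
      rw [← congrArg PrimeSpectrum.asIdeal h1]
      exact show (p.appLE V (p ⁻¹ᵁ V) le_rfl).hom r ∈ q₀ x from h2 ▸ hmem
    have h4 : (⟨p x.1, hmemU x.1 x.2⟩ : V) = ⟨y, hyV⟩ := Subtype.ext x.2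
    rwa [h4] at h3
  let Q : {x // p x = y} → Ideal B := fun x => (q₀ x).map (algebraMap B₀ B)
  have hdisj : ∀ x, Disjoint (S : Set B₀) (q₀ x) := fun x =>
    Set.disjoint_left.2 fun s hs => hS_le x hs
  have hQ : ∀ x, (Q x).IsPrime := fun x =>
    IsLocalization.isPrime_of_isPrime_disjoint S B (q₀ x) inferInstance (hdisj x)
  have hQc : ∀ x, (Q x).comap (algebraMap B₀ B) = q₀ x := fun x =>
    IsLocalization.comap_map_of_isPrime_disjoint S B inferInstance (hdisj x)
  have hloc : ∀ (x : X) (hx : p x = y), ∃ (_ : Algebra B (X.presheaf.stalk x))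
      (_ : Algebra A (X.presheaf.stalk x)) (_ : IsScalarTower A B (X.presheaf.stalk x))
      (_ : @IsLocalization _ _ (haveI := hQ ⟨x, hx⟩; (Q ⟨x, hx⟩).primeCompl) (X.presheaf.stalk x) _ _),
      algebraMap B (X.presheaf.stalk x) (φ a) = X.presheaf.germ _ x (hmemU x hx) a ∧
      algebraMap A (X.presheaf.stalk x) =
        (p.stalkMap x).hom.comp (Y.presheaf.stalkSpecializes (specializes_of_eq hx)).hom := by
    intro x₀ hx₀
    generalize hxx : (⟨x₀, hx₀⟩ : {x // p x = y}) = x
    obtain rfl : x₀ = x.1 := congrArg Subtype.val hxx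
    haveI := hQ x
    letI algBX : Algebra B₀ (X.presheaf.stalk x.1) :=
      X.presheaf.algebra_section_stalk (⟨x.1, hmemU x.1 x.2⟩ : p ⁻¹ᵁ V)
    haveI hlx : IsLocalization.AtPrime (X.presheaf.stalk x.1) (q₀ x) :=
      hU.isLocalization_stalk ⟨x.1, hmemU x.1 x.2⟩
    let ψ : B →+* X.presheaf.stalk x.1 := IsLocalization.lift (M := S)
      (g := algebraMap B₀ (X.presheaf.stalk x.1))
      (fun s => IsLocalization.map_units (X.presheaf.stalk x.1)
        (⟨s.1, hS_le x s.2⟩ : (q₀ x).primeCompl))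
    letI : Algebra B (X.presheaf.stalk x.1) := ψ.toAlgebra
    haveI : IsScalarTower B₀ B (X.presheaf.stalk x.1) :=
      IsScalarTower.of_algebraMap_eq' (IsLocalization.lift_comp _).symm
    letI : Algebra A (X.presheaf.stalk x.1) := (ψ.comp (algebraMap A B)).toAlgebra
    refine ⟨inferInstance, inferInstance, IsScalarTower.of_algebraMap_eq' rfl, ?_,
      IsLocalization.lift_eq _ a, ?_⟩
    · haveI h3 := IsLocalization.isLocalization_of_submonoid_le B (X.presheaf.stalk x.1) _ _ (hS_le x)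
      refine IsLocalization.of_le (M := (q₀ x).primeCompl.map (algebraMap B₀ B)) _ ?_ ?_
      · rintro _ ⟨s, hs, rfl⟩ hmem
        exact hs (hQc x ▸ (show s ∈ (Q x).comap (algebraMap B₀ B) from hmem))
      · intro b hb
        obtain ⟨⟨c, s⟩, hcs⟩ := IsLocalization.surj S b
        have hc : c ∉ q₀ x := fun hc => by
          have h5 : b * algebraMap B₀ B s ∈ Q x := hcs ▸ Ideal.mem_map_of_mem _ hc
          rcases (hQ x).mem_or_mem h5 with h | h
          · exact hb h
          · exact hS_le x s.2 (hQc x ▸ (show (s : B₀) ∈ (Q x).comap (algebraMap B₀ B) from h))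
        have hu : IsUnit (ψ b * ψ (algebraMap B₀ B s)) := by
          rw [← map_mul, hcs, IsLocalization.lift_eq]
          exact IsLocalization.map_units (X.presheaf.stalk x.1) (⟨c, hc⟩ : (q₀ x).primeCompl)
        exact isUnit_of_mul_isUnit_left hu
    · refine IsLocalization.ringHom_ext (hV.primeIdealOf ⟨y, hyV⟩).asIdeal.primeCompl
        (RingHom.ext fun r => ?_)
      show ψ (algebraMap A B (algebraMap R A r)) =
        p.stalkMap x.1 (Y.presheaf.stalkSpecializes (specializes_of_eq x.2)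
          (Y.presheaf.germ V y hyV r))
      rw [← hφR]
      erw [IsLocalization.lift_eq]
      erw [TopCat.Presheaf.germ_stalkSpecializes_apply]
      rw [Scheme.Hom.germ_stalkMap_apply]
      rfl
  -- points of the fibre where `a` vanishes
  let T : Finset X := hfib.toFinset.filter fun x => ∃ h : p x = y,
    φ a ∈ Q ⟨x, h⟩
  have hT : ∀ {x}, x ∈ T ↔ ∃ h : p x = y, φ a ∈ Q ⟨x, h⟩ := fun {x} => by
    simp only [T, Finset.mem_filter, Set.Finite.mem_toFinset]
    exact ⟨fun h => h.2, fun h => ⟨h.1, h⟩⟩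
  rw [ENat.toNat_sum (fun q _ => ?_)]
  swap
  · intro htop
    refine hlt.ne ?_
    rw [length_eq_sum_maximal A C]
    exact WithTop.sum_eq_top.2 ⟨q, Finset.mem_univ _, htop⟩
  push_cast
  have hmaxC : ∀ x (hx : x ∈ T), ((Q ⟨x, (hT.1 hx).1⟩).map (Ideal.Quotient.mk
      (Ideal.span {φ a}))).IsMaximal := fun x hx => by
    haveI := hQ ⟨x, (hT.1 hx).1⟩
    haveI : ((Q ⟨x, (hT.1 hx).1⟩).map (Ideal.Quotient.mk (Ideal.span {φ a}))).IsPrime :=
      Ideal.map_isPrime_of_surjective Ideal.Quotient.mk_surjective (by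
        rw [Ideal.mk_ker, Ideal.span_singleton_le_iff_mem]; exact (hT.1 hx).2)
    exact IsArtinianRing.isMaximal_of_isPrime _
  have hcm : ∀ x (hx : x ∈ T), ((Q ⟨x, (hT.1 hx).1⟩).map (Ideal.Quotient.mk
      (Ideal.span {φ a}))).comap (Ideal.Quotient.mk (Ideal.span {φ a})) = Q ⟨x, (hT.1 hx).1⟩ :=
    fun x hx => Ideal.comap_map_mk ((Ideal.span_singleton_le_iff_mem _).2 (hT.1 hx).2)
  rw [← Finset.sum_subset (s₁ := T) (s₂ := hfib.toFinset) (Finset.filter_subset _ _) fun x hx hxT => ?_]
  swap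
  · have hpx : p x = y := hfib.mem_toFinset.1 hx
    rw [dif_pos (hmemU x hpx)]
    obtain ⟨_, _, _, hl, hga, -⟩ := hloc x hpx
    haveI := hQ ⟨x, hpx⟩
    haveI := hl
    rw [← hga, Ring.ord_of_isUnit (IsLocalization.map_units (X.presheaf.stalk x)
      (⟨φ a, fun h => hxT (hT.2 ⟨hpx, h⟩)⟩ : (Q ⟨x, hpx⟩).primeCompl))]
    simp
  refine Finset.sum_bij (fun x hx => (⟨_, hmaxC x hx⟩ : MaximalSpectrum C))
    (fun x hx => Finset.mem_univ _) ?_ ?_ ?_
  · intro x hx x' hx' h
    have h1 := congrArg (fun q : MaximalSpectrum C =>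
      (q.asIdeal.comap (Ideal.Quotient.mk (Ideal.span {φ a}))).comap (algebraMap B₀ B)) h
    simp only [hcm x hx, hcm x' hx', hQc] at h1
    have h2 := congrArg hU.fromSpec (PrimeSpectrum.ext h1 :
      hU.primeIdealOf ⟨x, hmemU x (hT.1 hx).1⟩ = hU.primeIdealOf ⟨x', hmemU x' (hT.1 hx').1⟩)
    rwa [hU.fromSpec_primeIdealOf, hU.fromSpec_primeIdealOf] at h2
  · intro q _
    let P : Ideal B := q.asIdeal.comap (Ideal.Quotient.mk (Ideal.span {φ a}))
    haveI : P.IsPrime := Ideal.IsPrime.comap _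
    have haP : φ a ∈ P := by
      show Ideal.Quotient.mk _ (φ a) ∈ q.asIdeal
      rw [Ideal.Quotient.eq_zero_iff_mem.2 (Ideal.mem_span_singleton_self _)]
      exact zero_mem _
    let P₀ : Ideal B₀ := P.comap (algebraMap B₀ B)
    haveI : P₀.IsPrime := Ideal.IsPrime.comap _
    let x : X := hU.fromSpec ⟨P₀, inferInstance⟩
    have hxU : x ∈ p ⁻¹ᵁ V := hU.range_fromSpec.subset ⟨_, rfl⟩
    have hpr : hU.primeIdealOf ⟨x, hxU⟩ = ⟨P₀, inferInstance⟩ :=
      hU.fromSpec.isOpenEmbedding.injective (by rw [hU.fromSpec_primeIdealOf])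
    have hPA : P.comap (algebraMap A B) = IsLocalRing.maximalIdeal A := by
      refine hdim1 _ (Ideal.IsPrime.comap _) ?_
      obtain ⟨c, hc, w, hw⟩ := IsAlgebraic.exists_nonzero_dvd (R := A)
        (IsIntegral.isAlgebraic (IsIntegral.of_finite A (φ a)))
        (mem_nonZeroDivisors_of_ne_zero ha')
      refine fun hbot => hc ((Ideal.mem_bot).1 (hbot ▸ (show c ∈ P.comap (algebraMap A B) from ?_)))
      rw [Ideal.mem_comap, hw]
      exact Ideal.mul_mem_right _ _ haP
    have hxy : p x = y := by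
      have h1 := IsAffineOpen.comap_primeIdealOf_appLE (f := p) (x := x) V hV (p ⁻¹ᵁ V) hU le_rfl hxU
      rw [hpr] at h1
      have h2 : hV.primeIdealOf ⟨p x, hxU⟩ = hV.primeIdealOf ⟨y, hyV⟩ := by
        rw [← h1]
        ext r
        show (p.appLE V (p ⁻¹ᵁ V) le_rfl).hom r ∈ P₀ ↔ _
        have h3 : (p.appLE V (p ⁻¹ᵁ V) le_rfl).hom r = algebraMap R B₀ r := by
          rw [← Scheme.Hom.app_eq_appLE]; rfl
        rw [h3, Ideal.mem_comap, show algebraMap B₀ B (algebraMap R B₀ r) =
          algebraMap A B (algebraMap R A r) from hφR r, ← Ideal.mem_comap, hPA]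
        exact IsLocalization.AtPrime.to_map_mem_maximal_iff A _ r
      have h4 := congrArg hV.fromSpec h2
      rwa [hV.fromSpec_primeIdealOf, hV.fromSpec_primeIdealOf] at h4
    have hQP : Q ⟨x, hxy⟩ = P := by
      show (hU.primeIdealOf ⟨x, hxU⟩).asIdeal.map _ = P
      rw [hpr]
      exact IsLocalization.map_under S B P
    refine ⟨x, hT.2 ⟨hxy, hQP ▸ haP⟩, MaximalSpectrum.ext ?_⟩
    show (Q ⟨x, hxy⟩).map _ = q.asIdeal
    rw [hQP]
    exact Ideal.map_comap_of_surjective _ Ideal.Quotient.mk_surjective _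
  · intro x hx
    obtain ⟨hpx, hax⟩ := hT.1 hx
    obtain ⟨_, _, _, hl, hga, hgA⟩ := hloc x hpx
    haveI := hQ ⟨x, hpx⟩
    haveI := hl
    rw [dif_pos (hmemU x hpx), ← hga]
    let J : Ideal (X.presheaf.stalk x) := (Ideal.span {φ a}).map (algebraMap B (X.presheaf.stalk x))
    let QC := (Q ⟨x, hpx⟩).map (Ideal.Quotient.mk (Ideal.span {φ a}))
    haveI : QC.IsMaximal := hmaxC x hx
    have hsub : Algebra.algebraMapSubmonoid C (Q ⟨x, hpx⟩).primeCompl = QC.primeCompl := by
      ext z
      constructor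
      · rintro ⟨b, hb, rfl⟩ hmem
        exact hb ((hcm x hx).le hmem)
      · intro hz
        obtain ⟨b, rfl⟩ := Ideal.Quotient.mk_surjective z
        exact ⟨b, fun h => hz (Ideal.mem_map_of_mem _ h), rfl⟩
    haveI : IsLocalization QC.primeCompl ((X.presheaf.stalk x) ⧸ J) := hsub ▸ inferInstanceAs
      (IsLocalization (Algebra.algebraMapSubmonoid C (Q ⟨x, hpx⟩).primeCompl) ((X.presheaf.stalk x) ⧸ J))
    haveI : IsScalarTower A C ((X.presheaf.stalk x) ⧸ J) := IsScalarTower.of_algebraMap_eq (R := A) (S := C) (A := (X.presheaf.stalk x) ⧸ J) fun c => by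
      rw [IsScalarTower.algebraMap_apply A (X.presheaf.stalk x) ((X.presheaf.stalk x) ⧸ J),
        IsScalarTower.algebraMap_apply A B (X.presheaf.stalk x)]
      rfl
    let e : Localization.AtPrime QC ≃ₐ[C] (X.presheaf.stalk x) ⧸ J :=
      IsLocalization.algEquiv QC.primeCompl _ _
    let e' : Localization.AtPrime QC ≃ₗ[A] (X.presheaf.stalk x) ⧸ J :=
      { e.toAddEquiv with
        map_smul' := fun c z => by
          show e (c • z) = c • e z
          rw [Algebra.smul_def c z, IsScalarTower.algebraMap_apply A C (Localization.AtPrime QC),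
            map_mul, e.commutes, Algebra.smul_def, IsScalarTower.algebraMap_apply A C ((X.presheaf.stalk x) ⧸ J)] }
    haveI : IsLocalHom (algebraMap A (X.presheaf.stalk x)) := by
      rw [hgA]
      refine @RingHom.isLocalHom_comp _ _ _ _ _ _ _ _ (p.toLRSHom.prop x) ?_
      exact ⟨fun r hr => by
        have h := hr.map (Y.presheaf.stalkSpecializes (specializes_of_eq hpx.symm)).hom
        rwa [← RingHom.comp_apply, ← CommRingCat.hom_comp,
          TopCat.Presheaf.stalkSpecializes_comp, TopCat.Presheaf.stalkSpecializes_refl] at h⟩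
    have hres : Module.length (IsLocalRing.ResidueField A) (IsLocalRing.ResidueField (X.presheaf.stalk x)) =
        (p.residueDegree x : ℕ∞) := by
      subst hpx
      have hmap : algebraMap A (X.presheaf.stalk x) = (p.stalkMap x).hom := by
        rw [hgA, TopCat.Presheaf.stalkSpecializes_refl]; rfl
      letI algκ : Algebra (Y.residueField (p x)) (X.residueField x) :=
        (p.residueFieldMap x).hom.toAlgebra
      have halg : algebraMap (IsLocalRing.ResidueField A) (IsLocalRing.ResidueField (X.presheaf.stalk x)) =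
          (p.residueFieldMap x).hom := by
        refine Ideal.Quotient.ringHom_ext (RingHom.ext fun r => ?_)
        show IsLocalRing.residue (X.presheaf.stalk x) (algebraMap A (X.presheaf.stalk x) r) = _
        rw [hmap]
        rfl
      have hfr : Module.finrank (IsLocalRing.ResidueField A) (IsLocalRing.ResidueField (X.presheaf.stalk x)) =
          p.residueDegree x :=
        Algebra.finrank_eq_of_equiv_equiv (RingEquiv.refl _) (RingEquiv.refl _)
          (by ext r; exact (RingHom.congr_fun halg _).symm)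
      haveI : Module.Finite (IsLocalRing.ResidueField A) (IsLocalRing.ResidueField (X.presheaf.stalk x)) :=
        Module.finite_of_finrank_pos (Nat.pos_of_ne_zero (hfr ▸ hdegx x rfl))
      rw [Module.length_eq_finrank, hfr]
    have hlen : Module.length A (Localization.AtPrime QC) =
        Ring.ord (X.presheaf.stalk x) (algebraMap B (X.presheaf.stalk x) (φ a)) * (p.residueDegree x : ℕ∞) := by
      rw [e'.length_eq, IsLocalRing.length_restrictScalars A (X.presheaf.stalk x) ((X.presheaf.stalk x) ⧸ J), hres, Ring.ord,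
        (Submodule.quotEquivOfEq J _ ((Ideal.map_span _ _).trans
          (by rw [Set.image_singleton]))).length_eq]
    show _ = ((Module.length A (Localization.AtPrime QC)).toNat : ℤ)
    rw [hlen, ENat.toNat_mul]
    push_cast
    simp
    ring

end Groth.L22.Cyc

namespace Groth.L22.Cyc

variable {X Y : Scheme.{u}}

theorem finite_fibre_of_fibGen [IsLocallyNoetherian X] (p : X ⟶ Y) [QuasiCompact p] {y : Y}
    (h : ∀ x, p x = y → ∀ z, p z = y → z ⤳ x → z = x) : (p ⁻¹' {y}).Finite := by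
  choose V hV hxV using fun x : X => exists_isAffineOpen_mem_and_subset (x := x) (U := ⊤) trivial
  obtain ⟨T, hT⟩ := (p.isCompact_preimage_singleton y).elim_finite_subcover (fun x => (V x : Set X))
    (fun x => (V x).2) (fun x _ => Set.mem_iUnion.2 ⟨x, (hxV x).1⟩)
  haveI := fun x => IsLocallyNoetherian.component_noetherian ⟨V x, hV x⟩
  refine ((Finset.finite_toSet T).biUnion fun x _ => finite_fibGen_over p (hV x) y).subset
    fun s hs => ?_
  obtain ⟨x, hx, hsx⟩ := Set.mem_iUnion₂.1 (hT hs)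
  exact Set.mem_biUnion hx ⟨hsx, fun z hz hzs => h s hs z (hz.trans hs) hzs, hs⟩

theorem evaluation_eq_specMap {U : X.Opens} {x ξ : X} (hx : x ∈ U) (hξ : ξ ∈ U) (h : ξ ⤳ x)
    (a : Γ(X, U)) :
    X.evaluation U ξ hξ a = Cyc.specMap x ξ h (X.presheaf.germ U x hx a) := by
  rw [specMap_eq_residue]
  erw [TopCat.Presheaf.germ_stalkSpecializes_apply]
  rfl

theorem map_divFun_eq_divFun_norm [IsIntegral X] [IsIntegral Y] [IsLocallyNoetherian X]
    [IsLocallyNoetherian Y] (p : X ⟶ Y) [IsProper p] {δX : X → ℤ} {δY : Y → ℤ}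
    (hX : Cyc.IsDimFun X δX) (hY : Cyc.IsDimFun Y δY) (hδ : Cyc.DeltaCompat p δX δY)
    (hdom : p (genericPoint X) = genericPoint Y)
    (hn : δX (genericPoint X) = δY (genericPoint Y))
    (g : X.residueField (genericPoint X)) (hg : g ≠ 0) (y : Y) :
    (∑ᶠ x ∈ p ⁻¹' {y}, Cyc.divFun δX (genericPoint X) g x *
      ((AlgebraicCycle.mapCoeff p δX δY x : ℕ) : ℤ)) =
      Cyc.divFun δY (p (genericPoint X)) (Cyc.normGen p (genericPoint X) g) y := by
  classical
  have hdeg : p.residueDegree (genericPoint X) ≠ 0 := fun h => by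
    have := (residueDegree_eq_zero_of_lt p hδ (genericPoint X)).2 h
    rw [hdom, hn] at this
    omega
  by_cases h : δY y + 1 = δY (genericPoint Y)
  swap
  · rw [Cyc.divFun, dif_neg (fun hh => h (by rw [← hdom]; exact hh.2))]
    refine finsum_mem_of_eqOn_zero fun x hx => ?_
    rw [mapCoeff_eq p hδ]
    by_cases hd : p.residueDegree x = 0
    · simp [hd]
    · have h1 := deltaCompat_shift_of_residueDegree p hδ hd
      rw [show p x = y from hx] at h1
      rw [Cyc.divFun, dif_neg fun hh => h (by have := hh.2; omega)]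
      simp
  have hpt : ∀ x, p x = y → x ≠ genericPoint X := by
    rintro x hx rfl
    rw [hdom] at hx
    rw [← hx] at h
    omega
  have hdx : ∀ x, p x = y → δX x = δY y ∧ p.residueDegree x ≠ 0 := by
    intro x hx
    obtain ⟨h1, h2⟩ := residueDegree_eq_zero_of_lt p hδ x
    rw [hx] at h1 h2
    have h3 := (hX _ x (genericPoint_specializes' x) (hpt x hx).symm).1
    exact ⟨by omega, fun h0 => by have := h2 h0; omega⟩
  have hfib : (p ⁻¹' {y}).Finite := finite_fibre_of_fibGen p fun x hx z hz hzx => by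
    by_contra hne
    have := (hX z x hzx hne).1
    rw [(hdx x hx).1, (hdx z hz).1] at this
    omega
  haveI := krullDimLE_one_stalk hY y h
  obtain ⟨V, hyV, hV, hU, hfin⟩ := exists_isFinite_appLE p y hfib
  have hy : p (genericPoint X) ⤳ y := (specializes_of_eq hdom).trans (genericPoint_specializes' y)
  have hdim1 : ∀ Q : Ideal (Y.presheaf.stalk y), Q.IsPrime → Q ≠ ⊥ →
      Q = IsLocalRing.maximalIdeal _ := fun Q hQ hne => by
    rcases Ring.krullDimLE_one_iff.1 inferInstance Q hQ with h1 | h1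
    · exact absurd (by simpa [IsDomain.minimalPrimes_eq_singleton_bot] using h1) hne
    · exact IsLocalRing.eq_maximalIdeal h1
  have hηU : genericPoint X ∈ p ⁻¹ᵁ V := hy.mem_open V.2 hyV
  haveI : Nonempty (p ⁻¹ᵁ V) := ⟨⟨_, hηU⟩⟩
  haveI := functionField_isFractionRing_of_isAffineOpen X _ hU
  obtain ⟨s, rfl⟩ := residue_generic_bijective.2 g
  obtain ⟨a, b, hb, hs⟩ := IsFractionRing.div_surjective (A := Γ(X, p ⁻¹ᵁ V))
    (K := X.functionField) s
  have hb0 : b ≠ 0 := nonZeroDivisors.ne_zero hb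
  have hs' : (X.residue (genericPoint X)).hom s =
      X.evaluation _ _ hηU a / X.evaluation _ _ hηU b := by rw [← hs, map_div₀]; rfl
  have ha0 : a ≠ 0 := fun e => hg (by rw [hs', e]; simp)
  have hinjev : Function.Injective (X.evaluation _ _ hηU).hom :=
    residue_generic_bijective.1.comp (germ_injective_of_isIntegral X _ hηU)
  have hev : ∀ c : Γ(X, p ⁻¹ᵁ V), c ≠ 0 → X.evaluation _ _ hηU c ≠ 0 := fun c hc h0 =>
    hc ((map_eq_zero_iff _ hinjev).1 h0)
  have hd : δY y + 1 = δY (p (genericPoint X)) := by rw [hdom]; exact h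
  letI := (p.residueFieldMap (genericPoint X)).hom.toAlgebra
  haveI : FiniteDimensional (Y.residueField (p (genericPoint X)))
      (X.residueField (genericPoint X)) :=
    Module.finite_of_finrank_pos (Nat.pos_of_ne_zero hdeg)
  have hnorm : ∀ c : Γ(X, p ⁻¹ᵁ V), c ≠ 0 →
      Cyc.normGen p (genericPoint X) (X.evaluation _ _ hηU c) ≠ 0 := fun c hc => by
    exact Algebra.norm_ne_zero_iff.2 (hev c hc)
  have hmul : Cyc.normGen p (genericPoint X) ((X.residue (genericPoint X)).hom s) =
      Cyc.normGen p (genericPoint X) (X.evaluation _ _ hηU a) /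
        Cyc.normGen p (genericPoint X) (X.evaluation _ _ hηU b) := by
    rw [eq_div_iff (hnorm b hb0), hs']
    show Algebra.norm _ _ * Algebra.norm _ _ = Algebra.norm _ _
    rw [← map_mul, div_mul_cancel₀ _ (hev b hb0)]
  obtain ⟨a₁, a₂, ha₁, ha₂, ea⟩ := exists_specMap_div' y hdom hy _ (hnorm a ha0)
  obtain ⟨b₁, b₂, hb₁, hb₂, eb⟩ := exists_specMap_div' y hdom hy _ (hnorm b hb0)
  have hR : Cyc.ordAt y (p (genericPoint X)) hy
      (Cyc.normGen p (genericPoint X) ((X.residue (genericPoint X)).hom s)) =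
      Cyc.ordAt y (p (genericPoint X)) hy
          (Cyc.normGen p (genericPoint X) (X.evaluation _ _ hηU a)) -
        Cyc.ordAt y (p (genericPoint X)) hy
          (Cyc.normGen p (genericPoint X) (X.evaluation _ _ hηU b)) := by
    rw [hmul, ea, eb, div_div_div_eq, ← map_mul, ← map_mul,
      ordAt_div' y hdom hy (mul_ne_zero ha₁ hb₂) (mul_ne_zero ha₂ hb₁),
      ordAt_div' y hdom hy ha₁ ha₂, ordAt_div' y hdom hy hb₁ hb₂,
      Ring.ord_mul _ (mem_nonZeroDivisors_of_ne_zero hb₂),
      Ring.ord_mul _ (mem_nonZeroDivisors_of_ne_zero hb₁),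
      ENat.toNat_add (Ring.ord_ne_top (mem_nonZeroDivisors_of_ne_zero ha₁))
        (Ring.ord_ne_top (mem_nonZeroDivisors_of_ne_zero hb₂)),
      ENat.toNat_add (Ring.ord_ne_top (mem_nonZeroDivisors_of_ne_zero ha₂))
        (Ring.ord_ne_top (mem_nonZeroDivisors_of_ne_zero hb₁))]
    push_cast
    ring
  rw [show Cyc.divFun δY (p (genericPoint X))
      (Cyc.normGen p (genericPoint X) ((X.residue (genericPoint X)).hom s)) y =
      Cyc.ordAt y (p (genericPoint X)) hy
        (Cyc.normGen p (genericPoint X) ((X.residue (genericPoint X)).hom s)) from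
      dif_pos ⟨hy, hd⟩, hR,
    ← sum_fibre_ord p hdom hdeg hy hdim1 hV hyV hU hfin hfib (fun x hx => (hdx x hx).2) hηU a ha0,
    ← sum_fibre_ord p hdom hdeg hy hdim1 hV hyV hU hfin hfib (fun x hx => (hdx x hx).2) hηU b hb0,
    ← Finset.sum_sub_distrib, finsum_mem_eq_finite_toFinset_sum _ hfib]
  refine Finset.sum_congr rfl fun x hx => ?_
  have hpx : p x = y := hfib.mem_toFinset.1 hx
  have hxU : x ∈ p ⁻¹ᵁ V := show p x ∈ V from hpx ▸ hyV
  have hxd : δX x + 1 = δX (genericPoint X) := by rw [(hdx x hpx).1, hn]; exact h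
  haveI := krullDimLE_one_stalk hX x hxd
  rw [dif_pos hxU, dif_pos hxU, mapCoeff_eq p hδ, Cyc.divFun,
    dif_pos ⟨genericPoint_specializes' x, hxd⟩, hs',
    evaluation_eq_specMap hxU hηU (genericPoint_specializes' x),
    evaluation_eq_specMap hxU hηU (genericPoint_specializes' x),
    ordAt_div x _ ((map_ne_zero_iff _ (germ_injective_of_isIntegral X x hxU)).2 ha0)
      ((map_ne_zero_iff _ (germ_injective_of_isIntegral X x hxU)).2 hb0)]
  ring

end Groth.L22.Cyc
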