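import Groth.Agent.L22.Cyc.DropDim
import Groth.Agent.L22.Cyc.NormDiv
import Groth.Agent.L22.Cyc.DivSupport

/-!
Proper push-forward preserves rational equivalence.
-/

universe u

open AlgebraicGeometry CategoryTheory TopologicalSpace

namespace Groth.L22.Cyc

variable {X Y : Scheme.{u}}

theorem map_divFun_aux [IsLocallyNoetherian X] [IsLocallyNoetherian Y] {Z W : Scheme.{u}}
    [IsIntegral Z] [IsIntegral W] (p : X ⟶ Y) [IsProper p] (i : Z ⟶ X) [IsClosedImmersion i]
    (j : W ⟶ Y) [IsClosedImmersion j] (q : Z ⟶ W) (hsq : q ≫ j = i ≫ p)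
    (hdom : q (genericPoint Z) = genericPoint W)
    {δX : X → ℤ} {δY : Y → ℤ} (hX : Cyc.IsDimFun X δX) (hY : Cyc.IsDimFun Y δY)
    (hδ : Cyc.DeltaCompat p δX δY) (g : X.residueField (i (genericPoint Z))) (hg : g ≠ 0)
    (y : Y) :
    (∑ᶠ x ∈ p ⁻¹' {y}, Cyc.divFun δX (i (genericPoint Z)) g x *
      ((AlgebraicCycle.mapCoeff p δX δY x : ℕ) : ℤ)) =
      if δY (p (i (genericPoint Z))) = δX (i (genericPoint Z)) then
        Cyc.divFun δY (p (i (genericPoint Z))) (Cyc.normGen p (i (genericPoint Z)) g) y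
      else 0 := by
  classical
  haveI : IsLocallyNoetherian Z := LocallyOfFiniteType.isLocallyNoetherian i
  haveI : IsLocallyNoetherian W := LocallyOfFiniteType.isLocallyNoetherian j
  haveI : IsProper q := by
    haveI : IsProper (q ≫ j) := by rw [hsq]; infer_instance
    exact IsProper.of_comp q j
  have hpt : ∀ z, j (q z) = p (i z) := fun z => by
    rw [← Scheme.Hom.comp_apply, hsq, Scheme.Hom.comp_apply]
  have hZ := isDimFun_closedImmersion i hX
  have hW := isDimFun_closedImmersion j hY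
  have hq := deltaCompat_square p i j q hδ hsq
  let ζ := genericPoint Z
  let g' := i.residueFieldMap ζ g
  have hg' : g' ≠ 0 := (map_ne_zero _).2 hg
  by_cases hy : y ∈ Set.range j
  swap
  · have e1 : (∑ᶠ x ∈ p ⁻¹' {y}, Cyc.divFun δX (i ζ) g x *
        ((AlgebraicCycle.mapCoeff p δX δY x : ℕ) : ℤ)) = 0 := by
      refine finsum_mem_of_eqOn_zero fun x hx => ?_
      have hxr : x ∉ Set.range i := by
        rintro ⟨z, rfl⟩
        exact hy ⟨q z, (hpt z).trans hx⟩
      rw [divFun_eq_zero_of_notMem_range i ζ g hxr, zero_mul]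
      rfl
    rw [e1]
    split_ifs with h
    · rw [Cyc.divFun, dif_neg]
      intro hh
      refine hy ?_
      exact hh.1.mem_closed j.isClosedEmbedding.isClosed_range ⟨q ζ, hpt ζ⟩
    · rfl
  obtain ⟨w, rfl⟩ := hy
  have e1 : (∑ᶠ x ∈ p ⁻¹' {j w}, Cyc.divFun δX (i ζ) g x *
      ((AlgebraicCycle.mapCoeff p δX δY x : ℕ) : ℤ)) =
      ∑ᶠ z ∈ q ⁻¹' {w}, Cyc.divFun (fun z => δX (i z)) ζ g' z *
        ((AlgebraicCycle.mapCoeff q (fun z => δX (i z)) (fun w => δY (j w)) z : ℕ) : ℤ) := by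
    rw [finsum_mem_inter_support_eq' (fun x => Cyc.divFun δX (i ζ) g x *
        ((AlgebraicCycle.mapCoeff p δX δY x : ℕ) : ℤ)) (p ⁻¹' {j w}) (i '' (q ⁻¹' {w})) ?_,
      finsum_mem_image i.isClosedEmbedding.injective.injOn]
    · refine finsum_mem_congr rfl fun z _ => ?_
      rw [mapCoeff_eq p hδ, mapCoeff_eq q hq, residueDegree_square p i j q hsq,
        divFun_closedImmersion i hX ζ g hg z]
    · intro x hx
      rw [Function.mem_support] at hx
      constructor
      · intro hxy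
        obtain ⟨z, rfl⟩ : x ∈ Set.range i := by
          by_contra h
          exact hx (by rw [divFun_eq_zero_of_notMem_range i ζ g h, zero_mul])
        exact ⟨z, j.isClosedEmbedding.injective ((hpt z).trans hxy), rfl⟩
      · rintro ⟨z, hz, rfl⟩
        exact (hpt z).symm.trans (congrArg j hz)
  rw [e1]
  have e : p (i ζ) = j (q ζ) := (hpt ζ).symm
  by_cases hd : δY (p (i ζ)) = δX (i ζ)
  · rw [if_pos hd, map_divFun_eq_divFun_norm q hZ hW hq hdom (by
      show δX (i ζ) = δY (j (genericPoint W))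
      rw [← hdom, ← e, hd]) g' hg' w]
    have hne : (Y.residueFieldCongr e).hom (Cyc.normGen p (i ζ) g) ≠ 0 := by
      refine residueFieldCongr_ne_zero e ?_
      letI := (p.residueFieldMap (i ζ)).hom.toAlgebra
      haveI : Module.Finite (Y.residueField (p (i ζ))) (X.residueField (i ζ)) := by
        refine Module.finite_of_finrank_pos (Nat.pos_of_ne_zero fun h0 => ?_)
        exact absurd hd ((residueDegree_eq_zero_of_lt p hδ (i ζ)).2 h0).ne
      exact Algebra.norm_ne_zero_iff.2 hg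
    rw [← normGen_square p i j q hsq ζ e g, divFun_closedImmersion j hY (q ζ) _ hne w,
      divFun_congr e]
  · rw [if_neg hd]
    exact map_divFun_eq_zero q hZ hW hq hdom (fun h => hd (by
      rw [e, hdom]; exact h.symm)) g' hg' w

/-- The push-forward of a principal divisor is the principal divisor of the norm, or zero. -/
theorem map_divFun [IsLocallyNoetherian X] [IsLocallyNoetherian Y] (p : X ⟶ Y) [IsProper p]
    {δX : X → ℤ} {δY : Y → ℤ} (hX : Cyc.IsDimFun X δX) (hY : Cyc.IsDimFun Y δY)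
    (hδ : Cyc.DeltaCompat p δX δY) (ξ : X) (g : X.residueField ξ) (hg : g ≠ 0) (y : Y) :
    (∑ᶠ x ∈ p ⁻¹' {y}, Cyc.divFun δX ξ g x * ((AlgebraicCycle.mapCoeff p δX δY x : ℕ) : ℤ)) =
      if δY (p ξ) = δX ξ then Cyc.divFun δY (p ξ) (Cyc.normGen p ξ g) y else 0 := by
  obtain ⟨Z, hZi, i, hi, rfl⟩ : ∃ (Z : Scheme.{u}) (_ : IsIntegral Z) (i : Z ⟶ X)
      (_ : IsClosedImmersion i), i (genericPoint Z) = ξ :=
    ⟨clSub ξ, inferInstance, clι ξ, inferInstance, clι_genericPoint ξ⟩
  have hrange : Set.range (i ≫ p) ⊆ closure ({p (i (genericPoint Z))} : Set Y) := by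
    rintro _ ⟨z, rfl⟩
    exact specializes_iff_mem_closure.1 ((genericPoint_specializes' z).map (i ≫ p).continuous)
  let j := clι (p (i (genericPoint Z)))
  let q := clLift (i ≫ p) (p (i (genericPoint Z))) hrange
  have hsq : q ≫ j = i ≫ p := clLift_fac _ _ _
  refine map_divFun_aux p i j q hsq (j.isClosedEmbedding.injective ?_) hX hY hδ g hg y
  rw [clι_genericPoint, ← Scheme.Hom.comp_apply, hsq, Scheme.Hom.comp_apply]

set_option maxHeartbeats 800000 in
theorem ratEquiv_map [IsLocallyNoetherian X] [IsLocallyNoetherian Y] (p : X ⟶ Y) [IsProper p]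
    {δX : X → ℤ} {δY : Y → ℤ} (hX : Cyc.IsDimFun X δX) (hY : Cyc.IsDimFun Y δY)
    (hδ : Cyc.DeltaCompat p δX δY) (k : ℤ) (α β : AlgebraicCycle X ℤ)
    (h : Cyc.RatEquiv δX k α β) :
    Cyc.RatEquiv δY k (AlgebraicCycle.map p δX δY α) (AlgebraicCycle.map p δX δY β) := by
  classical
  obtain ⟨ι, ξ, f, hξ, hf, hlf, hsum⟩ := h
  have hloc : ∀ y : Y, ∃ V : Set Y, IsOpen V ∧ y ∈ V ∧
      {i | (closure {p (ξ i)} ∩ V).Nonempty}.Finite ∧ {i | p (ξ i) ∈ V}.Finite := by
    intro y
    obtain ⟨V, hV, hyV, -⟩ := exists_isAffineOpen_mem_and_subset (x := y) (U := ⊤) trivial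
    choose U hU hxU hfin using hlf
    obtain ⟨T, hT⟩ := (p.isCompact_preimage hV.isCompact).elim_finite_subcover U hU
      (fun x _ => Set.mem_iUnion.2 ⟨x, hxU x⟩)
    have h1 : {i | p (ξ i) ∈ V}.Finite := by
      refine (T.finite_toSet.biUnion fun x _ => hfin x).subset fun i hi => ?_
      obtain ⟨x, hx, hxi⟩ := Set.mem_iUnion₂.1 (hT hi)
      exact Set.mem_biUnion hx ⟨ξ i, subset_closure rfl, hxi⟩
    refine ⟨V, V.2, hyV, h1.subset fun i ⟨w, hw, hwV⟩ => ?_, h1⟩
    obtain ⟨v, hv, hvs⟩ := mem_closure_iff.1 hw V V.2 hwV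
    obtain rfl : v = p (ξ i) := hvs
    exact hv
  refine ⟨{i : ι // δY (p (ξ i)) = k + 1}, fun i => p (ξ i.1),
    fun i => Cyc.normGen p (ξ i.1) (f i.1), fun i => i.2, fun i => ?_, fun y => ?_, fun y => ?_⟩
  · letI := (p.residueFieldMap (ξ i.1)).hom.toAlgebra
    haveI : Module.Finite (Y.residueField (p (ξ i.1))) (X.residueField (ξ i.1)) := by
      refine Module.finite_of_finrank_pos (Nat.pos_of_ne_zero fun h0 => ?_)
      have := (residueDegree_eq_zero_of_lt p hδ (ξ i.1)).2 h0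
      rw [hξ, i.2] at this
      omega
    exact Algebra.norm_ne_zero_iff.2 (hf i.1)
  · obtain ⟨V, hV, hyV, h1, -⟩ := hloc y
    exact ⟨V, hV, hyV, (h1.preimage (f := Subtype.val) Subtype.val_injective.injOn).subset fun _ h => h⟩
  · obtain ⟨V, hVo, hyV, -, hI⟩ := hloc y
    let I := hI.toFinset
    let m : X → ℤ := fun x => ((AlgebraicCycle.mapCoeff p δX δY x : ℕ) : ℤ)
    have hzero : ∀ i, i ∉ I → ∀ x, p x ∈ V → Cyc.divFun δX (ξ i) (f i) x = 0 := by
      intro i hi x hx
      refine dif_neg fun hh => hi (hI.mem_toFinset.2 ?_)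
      exact (hh.1.map p.continuous).mem_open hVo hx
    let S : Set X := ⋃ i ∈ I, Function.support (Cyc.divFun δX (ξ i) (f i)) ∩ p ⁻¹' {y}
    have hS : S.Finite := I.finite_toSet.biUnion fun i _ =>
      finite_support_divFun_inter_compact hX (ξ i) (f i) (hf i) (p.isCompact_preimage_singleton y)
    have hSy : ∀ x ∈ S, p x = y := fun x hx => by
      obtain ⟨i, -, hxi⟩ := Set.mem_iUnion₂.1 hx
      exact hxi.2
    have hfibre : ∀ (F : X → ℤ), (∀ x, p x = y → F x ≠ 0 → x ∈ S) →
        (∑ᶠ x ∈ p ⁻¹' {y}, F x * m x) = ∑ x ∈ hS.toFinset, F x * m x := fun F hF => by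
      rw [← finsum_mem_eq_finite_toFinset_sum _ hS]
      exact finsum_mem_inter_support_eq' _ _ _ fun x hx =>
        ⟨fun hxy => hF x hxy (left_ne_zero_of_mul hx), fun hxS => hSy x hxS⟩
    have hab : ∀ x, p x = y → α x - β x = ∑ i ∈ I, Cyc.divFun δX (ξ i) (f i) x := fun x hx => by
      have := hsum x
      rw [Function.locallyFinsuppWithin.coe_sub, Pi.sub_apply] at this
      rw [this]
      exact finsum_eq_sum_of_support_subset _ fun i hi => by
        by_contra hiI
        exact hi (hzero i hiI x (hx ▸ hyV))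
    have hαS : ∀ (γ : AlgebraicCycle X ℤ), (Function.support (fun x => γ x * m x) ∩ p ⁻¹' {y}).Finite :=
      fun γ => (γ.locallyFiniteSupport.finite_inter_support_of_isCompact
        (p.isCompact_preimage_singleton y)).subset fun x hx => ⟨hx.2, left_ne_zero_of_mul hx.1⟩
    have hL : (AlgebraicCycle.map p δX δY α - AlgebraicCycle.map p δX δY β) y =
        ∑ᶠ x ∈ p ⁻¹' {y}, (α x - β x) * m x := by
      rw [Function.locallyFinsuppWithin.coe_sub, Pi.sub_apply]
      show (∑ᶠ x ∈ p ⁻¹' {y}, α x * m x) - (∑ᶠ x ∈ p ⁻¹' {y}, β x * m x) = _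
      have hd := (hαS α).union (hαS β)
      rw [sub_eq_iff_eq_add, ← finsum_mem_add_distrib' (hd.subset ?_)
        (by rw [Set.inter_comm]; exact hαS β)]
      · exact finsum_mem_congr rfl fun x _ => by ring
      · rintro x ⟨hx, hne⟩
        rw [Function.mem_support] at hne
        by_contra hc
        simp only [Set.mem_union, Set.mem_inter_iff, Function.mem_support, not_or, not_and] at hc
        refine hne ?_
        have h1 : α x * m x = 0 := by_contra fun h => hc.1 h hx
        have h2 : β x * m x = 0 := by_contra fun h => hc.2 h hx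
        rw [sub_mul, h1, h2, sub_zero]
    rw [hL, hfibre _ fun x hx h0 => ?_]
    swap
    · rw [hab x hx] at h0
      obtain ⟨i, hi, hne⟩ := Finset.exists_ne_zero_of_sum_ne_zero h0
      exact Set.mem_biUnion hi ⟨hne, hx⟩
    rw [Finset.sum_congr rfl fun x hx => by
      rw [hab x (hSy x (hS.mem_toFinset.1 hx)), Finset.sum_mul], Finset.sum_comm]
    have hi : ∀ i ∈ I, ∑ x ∈ hS.toFinset, Cyc.divFun δX (ξ i) (f i) x * m x =
        if δY (p (ξ i)) = k + 1 then Cyc.divFun δY (p (ξ i)) (Cyc.normGen p (ξ i) (f i)) y else 0 := by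
      intro i hi
      rw [← hfibre _ fun x hx h0 => Set.mem_biUnion hi ⟨h0, hx⟩, map_divFun p hX hY hδ (ξ i) (f i)
        (hf i) y, hξ i]
    rw [Finset.sum_congr rfl hi, ← Finset.sum_filter,
      finsum_eq_sum_of_support_subset _ (s := I.subtype fun i => δY (p (ξ i)) = k + 1) ?_]
    · exact (Finset.sum_subtype_eq_sum_filter
        (fun i => Cyc.divFun δY (p (ξ i)) (Cyc.normGen p (ξ i) (f i)) y)).symm
    · intro i hi'
      rw [Finset.mem_coe, Finset.mem_subtype]
      by_contra hiI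
      refine hi' (dif_neg fun hh => hiI (hI.mem_toFinset.2 ?_))
      exact hh.1.mem_open hVo hyV

end Groth.L22.Cyc
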