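import Groth.Agent.L22.Cyc.PushPull
import Groth.Agent.L15.SecOrd
import Groth.Agent.L16.CohSupport
import Groth.Agent.L17.ClosedPush
import Groth.Agent.L22.IntMult.SheafFormula
import Mathlib.RingTheory.LocalRing.Length

/-!
Stalks of pushforwards along closed maps with finitely many separated points of the support in a fibre,
and the cycle of a pushed forward coherent module.
-/

set_option autoImplicit false
set_option linter.style.haveILetI false
set_option backward.isDefEq.respectTransparency false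

universe u

open CategoryTheory CategoryTheory.Limits AlgebraicGeometry TopologicalSpace Opposite

noncomputable section

namespace Groth.L22.Cyc

open Groth.L16.CohSupport (len len_eq_zero_iff)

variable {X Y : Scheme.{u}} (f : X ⟶ Y) (M : X.Modules)

/-- The local ring map at a point of a fibre. -/
def fibMap {y : Y} (x : X) (hx : f x = y) : Y.presheaf.stalk y →+* X.presheaf.stalk x :=
  (f.stalkMap x).hom.comp (Y.presheaf.stalkSpecializes (specializes_of_eq hx)).hom

/-- The comparison of stalks at a point of a fibre. -/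
def fibStalk {y : Y} (x : X) (hx : f x = y) :
    ((Coh.push f).obj M).presheaf.stalk y →+ M.presheaf.stalk x :=
  (Groth.L17.ClosedPush.c₀ f M x).comp
    (((Coh.push f).obj M).presheaf.stalkSpecializes (specializes_of_eq hx)).hom

theorem fibStalk_germ {y : Y} (x : X) (hx : f x = y) {V : Y.Opens} (hy : y ∈ V) (m : Γ(M, f ⁻¹ᵁ V)) :
    fibStalk f M x hx (((Coh.push f).obj M).presheaf.germ V y hy m) =
      M.presheaf.germ (f ⁻¹ᵁ V) x (show f x ∈ V from hx ▸ hy) m := by
  subst hx
  show Groth.L17.ClosedPush.c₀ f M x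
    (((Coh.push f).obj M).presheaf.stalkSpecializes _ (((Coh.push f).obj M).presheaf.germ V (f x) hy m)) = _
  rw [TopCat.Presheaf.germ_stalkSpecializes_apply]
  exact Groth.L17.ClosedPush.c₀_germ f M x hy m

theorem fibStalk_smul {y : Y} (x : X) (hx : f x = y) (r : Y.presheaf.stalk y)
    (p : ((Coh.push f).obj M).presheaf.stalk y) :
    fibStalk f M x hx (r • p) = fibMap f x hx r • fibStalk f M x hx p := by
  show Groth.L17.ClosedPush.c₀ f M x
    (((Coh.push f).obj M).presheaf.stalkSpecializes (specializes_of_eq hx) (r • p)) = _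
  rw [Groth.L15.SecOrd.stalkSpecializes_smul]
  exact Groth.L17.ClosedPush.c₀_smul f M x _ _

theorem section_eq_of_germ {U : X.Opens} (a b : Γ(M, U))
    (h : ∀ x (hx : x ∈ U), M.presheaf.germ U x hx a = M.presheaf.germ U x hx b) : a = b :=
  TopCat.Presheaf.section_ext (⟨M.presheaf, M.isSheaf⟩ : TopCat.Sheaf AddCommGrpCat.{u} X.toTopCat) U a b h

/-- The stalk of a pushforward along a closed map, when the fibre meets the support in finitely many
points separated on the support. -/
theorem fibStalk_bijective (hf : IsClosedMap f) (hT : IsClosed (CohB1.support M)) (y : Y) (s : Finset X)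
    (hs : ∀ x ∈ s, f x = y) (hall : ∀ x, f x = y → x ∈ CohB1.support M → x ∈ s)
    (U : s → X.Opens) (hU : ∀ i : s, (i : X) ∈ U i)
    (hdis : ∀ i j : s, i ≠ j → ∀ z, z ∈ U i → z ∈ U j → z ∉ CohB1.support M) :
    Function.Bijective fun p : ((Coh.push f).obj M).presheaf.stalk y =>
      fun i : s => fibStalk f M i (hs i i.2) p := by
  classical
  have hnear : ∀ W : s → X.Opens, (∀ i, (i : X) ∈ W i) →
      ∃ V : Y.Opens, y ∈ V ∧ ∀ z, f z ∈ V → z ∈ CohB1.support M → ∃ i, z ∈ W i := by
    intro W hW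
    refine ⟨⟨(f '' (CohB1.support M \ ⋃ i, (W i : Set X)))ᶜ,
      (hf _ (hT.sdiff (isOpen_iUnion fun i => (W i).2))).isOpen_compl⟩, ?_, fun z hz hzT => ?_⟩
    · rintro ⟨z, ⟨hzT, hzW⟩, rfl⟩
      exact hzW (Set.mem_iUnion.2 ⟨⟨z, hall z rfl hzT⟩, hW _⟩)
    · by_contra hne
      exact hz ⟨z, ⟨hzT, fun h => hne (Set.mem_iUnion.1 h)⟩, rfl⟩
  refine ⟨?_, ?_⟩
  · refine (injective_iff_map_eq_zero (AddMonoidHom.pi fun i : s => fibStalk f M i (hs i i.2))).2 fun p hp => ?_
    obtain ⟨V, hV, m, rfl⟩ := TopCat.Presheaf.exists_germ_eq (F := ((Coh.push f).obj M).presheaf) (x := y) p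
    have h0 : ∀ i : s, ∃ W : X.Opens, (i : X) ∈ W ∧ ∀ z (hz : z ∈ f ⁻¹ᵁ V), z ∈ W →
        M.presheaf.germ (f ⁻¹ᵁ V) z hz m = 0 := fun i => by
      have h1 : fibStalk f M i (hs i i.2) (((Coh.push f).obj M).presheaf.germ V y hV m) = 0 := congrFun hp i
      rw [fibStalk_germ] at h1
      have hmem : (i : X) ∈ f ⁻¹ᵁ V := show f i ∈ V from (hs i i.2).symm ▸ hV
      obtain ⟨W, hW, a, b, he⟩ := TopCat.Presheaf.germ_eq M.presheaf (i : X) hmem hmem m 0
        (h1.trans (map_zero _).symm)
      refine ⟨W, hW, fun z hz hzW => ?_⟩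
      rw [← TopCat.Presheaf.germ_res_apply M.presheaf a z hzW m, he, TopCat.Presheaf.germ_res_apply, map_zero]
    choose W hW hW0 using h0
    obtain ⟨V', hV', hcov⟩ := hnear W hW
    let j : V ⊓ V' ⟶ V := homOfLE inf_le_left
    rw [← TopCat.Presheaf.germ_res_apply ((Coh.push f).obj M).presheaf j y ⟨hV, hV'⟩ m]
    refine (congrArg _ ?_).trans (map_zero _)
    show (M.presheaf.map ((Opens.map f.base).map j).op).hom m = (0 : Γ(M, f ⁻¹ᵁ (V ⊓ V')))
    refine section_eq_of_germ M _ _ fun z hz => ?_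
    rw [map_zero, TopCat.Presheaf.germ_res_apply M.presheaf ((Opens.map f.base).map j) z hz m]
    by_cases hzT : z ∈ CohB1.support M
    · obtain ⟨i, hi⟩ := hcov z hz.2 hzT
      exact hW0 i z hz.1 hi
    · exact @Subsingleton.elim _ (not_not.1 hzT) _ _
  · intro q
    have h0 : ∀ i : s, ∃ (W : X.Opens) (_ : (i : X) ∈ W) (m : Γ(M, W)) (h : (i : X) ∈ W),
        M.presheaf.germ W i h m = q i ∧ W ≤ U i := fun i => by
      obtain ⟨W, hW, m, hm⟩ := TopCat.Presheaf.exists_germ_eq (F := M.presheaf) (x := (i : X)) (q i)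
      refine ⟨W ⊓ U i, ⟨hW, hU i⟩, M.presheaf.map (homOfLE inf_le_left).op m, ⟨hW, hU i⟩, ?_, inf_le_right⟩
      rw [TopCat.Presheaf.germ_res_apply]
      exact hm
    choose W hW m hW' hm hWU using h0
    obtain ⟨V, hV, hcov⟩ := hnear W hW
    let N : X.Opens := ⟨(CohB1.support M)ᶜ, hT.isOpen_compl⟩
    let C : Option s → X.Opens := fun o => o.elim N W ⊓ f ⁻¹ᵁ V
    let sf : ∀ o, Γ(M, C o) := fun o => match o with
      | none => 0
      | some i => M.presheaf.map (homOfLE inf_le_left : C (some i) ⟶ W i).op (m i)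
    have hcover : f ⁻¹ᵁ V ≤ iSup C := fun z hz => by
      refine Opens.mem_iSup.2 ?_
      by_cases hzT : z ∈ CohB1.support M
      · obtain ⟨i, hi⟩ := hcov z hz hzT
        exact ⟨some i, hi, hz⟩
      · exact ⟨none, hzT, hz⟩
    have hcompat : TopCat.Presheaf.IsCompatible M.presheaf C sf := fun a b => by
      refine section_eq_of_germ M _ _ fun z hz => ?_
      by_cases hab : a = b
      · subst hab; rfl
      refine @Subsingleton.elim _ (not_not.1 ?_) _ _
      rcases a with _ | i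
      · exact hz.1.1
      rcases b with _ | j
      · exact hz.2.1
      exact hdis i j (fun e => hab (congrArg some e)) z (hWU i hz.1.1) (hWU j hz.2.1)
    obtain ⟨t, ht, -⟩ := TopCat.Sheaf.existsUnique_gluing'
      (⟨M.presheaf, M.isSheaf⟩ : TopCat.Sheaf AddCommGrpCat.{u} X.toTopCat) C (f ⁻¹ᵁ V)
      (fun o => homOfLE inf_le_right) hcover sf hcompat
    refine ⟨((Coh.push f).obj M).presheaf.germ V y hV t, funext fun i => ?_⟩
    have hi : (i : X) ∈ C (some i) := ⟨hW i, show f i ∈ V from (hs i i.2).symm ▸ hV⟩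
    show fibStalk f M i _ _ = q i
    rw [fibStalk_germ, ← TopCat.Presheaf.germ_res_apply M.presheaf
      (homOfLE inf_le_right : C (some i) ⟶ f ⁻¹ᵁ V) (i : X) hi t]
    refine (congrArg (M.presheaf.germ (C (some i)) (i : X) hi) (ht (some i))).trans ?_
    show M.presheaf.germ (C (some i)) (i : X) hi
      (M.presheaf.map (homOfLE inf_le_left : C (some i) ⟶ W i).op (m i)) = _
    rw [TopCat.Presheaf.germ_res_apply]
    exact hm i

/-- A generic point of the support has a neighbourhood meeting the support only in its closure. -/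
theorem exists_nhd_component [IsLocallyNoetherian X] {T : Set X} (hT : IsClosed T) {x : X}
    (hmax : ∀ z ∈ T, z ⤳ x → z = x) : ∃ U : X.Opens, x ∈ U ∧ ∀ z ∈ U, z ∈ T → x ⤳ z := by
  obtain ⟨_, ⟨V, hV, rfl⟩, hxV, -⟩ :=
    X.isBasis_affineOpens.exists_subset_of_mem_open (Set.mem_univ x) isOpen_univ
  haveI : IsNoetherianRing Γ(X, V) := IsLocallyNoetherian.component_noetherian ⟨V, hV⟩
  haveI : NoetherianSpace ↥V := noetherianSpace_of_isAffineOpen V hV
  haveI : QuasiSober ↥V := V.2.isOpenEmbedding_subtypeVal.quasiSober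
  obtain ⟨S, hSf, hSc, hSi, hS⟩ := NoetherianSpace.exists_finite_set_isClosed_irreducible
    (hT.preimage (continuous_subtype_val : Continuous fun v : V => (v : X)))
  let R : Set V := ⋃ C ∈ {C ∈ S | (⟨x, hxV⟩ : V) ∉ C}, C
  have hR : IsClosed R := (hSf.subset fun C hC => hC.1).isClosed_biUnion fun C hC => hSc C hC.1
  refine ⟨⟨Subtype.val '' Rᶜ, V.2.isOpenMap_subtype_val _ hR.isOpen_compl⟩, ⟨⟨x, hxV⟩, ?_, rfl⟩, ?_⟩
  · show (⟨x, hxV⟩ : V) ∉ R
    simp only [R, Set.mem_iUnion, not_exists]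
    exact fun C hC => hC.2
  · rintro _ ⟨v, hv, rfl⟩ hvT
    have hv' : v ∈ ⋃₀ S := hS ▸ (show v ∈ (fun v : V => (v : X)) ⁻¹' T from hvT)
    obtain ⟨C, hC, hvC⟩ := hv'
    have hxC : (⟨x, hxV⟩ : V) ∈ C := by
      by_contra h
      exact hv (Set.mem_biUnion (show C ∈ {C ∈ S | (⟨x, hxV⟩ : V) ∉ C} from ⟨hC, h⟩) hvC)
    obtain ⟨⟨g, hg'⟩, hg⟩ : ∃ g : V, IsGenericPoint g C :=
      ⟨_, (hSi C hC).isGenericPoint_genericPoint (hSc C hC)⟩
    have hgT : (⟨g, hg'⟩ : V) ∈ (fun v : V => (v : X)) ⁻¹' T := hS ▸ Set.mem_sUnion.2 ⟨C, hC, hg.mem⟩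
    have he : g = x := hmax g hgT ((hg.specializes hxC).map continuous_subtype_val)
    subst he
    exact (hg.specializes hvC).map continuous_subtype_val

theorem length_compHom_fibre {y : Y} (x : X) (hx : f x = y) (hdeg : f.residueDegree x ≠ 0) :
    letI : Algebra (Y.presheaf.stalk y) (X.presheaf.stalk x) := (fibMap f x hx).toAlgebra
    letI : Module (Y.presheaf.stalk y) (M.presheaf.stalk x) := Module.compHom _ (fibMap f x hx)
    Module.length (Y.presheaf.stalk y) (M.presheaf.stalk x) = len x M * (f.residueDegree x : ℕ∞) := by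
  subst hx
  letI : Algebra (Y.presheaf.stalk (f x)) (X.presheaf.stalk x) := (fibMap f x rfl).toAlgebra
  letI : Module (Y.presheaf.stalk (f x)) (M.presheaf.stalk x) := Module.compHom _ (fibMap f x rfl)
  haveI : IsScalarTower (Y.presheaf.stalk (f x)) (X.presheaf.stalk x) (M.presheaf.stalk x) :=
    IsScalarTower.of_algebraMap_smul fun _ _ => rfl
  have hmap : algebraMap (Y.presheaf.stalk (f x)) (X.presheaf.stalk x) = (f.stalkMap x).hom := by
    show fibMap f x rfl = _
    rw [fibMap, TopCat.Presheaf.stalkSpecializes_refl]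
    rfl
  haveI : IsLocalHom (algebraMap (Y.presheaf.stalk (f x)) (X.presheaf.stalk x)) := by
    rw [hmap]; exact f.toLRSHom.prop x
  letI : Algebra (Y.residueField (f x)) (X.residueField x) := (f.residueFieldMap x).hom.toAlgebra
  have halg : algebraMap (IsLocalRing.ResidueField (Y.presheaf.stalk (f x)))
      (IsLocalRing.ResidueField (X.presheaf.stalk x)) = (f.residueFieldMap x).hom := by
    refine Ideal.Quotient.ringHom_ext (RingHom.ext fun r => ?_)
    show IsLocalRing.residue (X.presheaf.stalk x) (algebraMap _ (X.presheaf.stalk x) r) = _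
    rw [hmap]
    rfl
  have hfr : Module.finrank (IsLocalRing.ResidueField (Y.presheaf.stalk (f x)))
      (IsLocalRing.ResidueField (X.presheaf.stalk x)) = f.residueDegree x :=
    Algebra.finrank_eq_of_equiv_equiv (RingEquiv.refl _) (RingEquiv.refl _)
      (by ext r; exact (RingHom.congr_fun halg _).symm)
  haveI : Module.Finite (IsLocalRing.ResidueField (Y.presheaf.stalk (f x)))
      (IsLocalRing.ResidueField (X.presheaf.stalk x)) :=
    Module.finite_of_finrank_pos (Nat.pos_of_ne_zero (hfr ▸ hdeg))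
  rw [IsLocalRing.length_restrictScalars (Y.presheaf.stalk (f x)) (X.presheaf.stalk x) (M.presheaf.stalk x),
    Module.length_eq_finrank, hfr]
  rfl

theorem map_sheafFun (δX : X → ℤ) (δY : Y → ℤ) (hX : Cyc.IsSetup X δX) [IsProper f]
    (hδ : Cyc.DeltaCompat f δX δY) (k : ℤ) (hM : Coh.IsCoh M)
    (hdim : ∀ x : X, Nontrivial (M.presheaf.stalk x) → δX x ≤ k) (α : AlgebraicCycle X ℤ)
    (hα : ⇑α = Cyc.sheafFun δX k M) :
    ⇑(AlgebraicCycle.map f δX δY α) = Cyc.sheafFun δY k ((Coh.push f).obj M) := by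
  classical
  haveI := hX.1
  funext y
  show (∑ᶠ x ∈ f ⁻¹' {y}, α x * ((AlgebraicCycle.mapCoeff f δX δY x : ℕ) : ℤ)) = _
  simp only [mapCoeff_eq f hδ, hα]
  by_cases hy : δY y = k
  swap
  · rw [show Cyc.sheafFun δY k ((Coh.push f).obj M) y = 0 from if_neg hy]
    refine finsum_mem_eq_zero_of_forall_eq_zero fun x hx => ?_
    by_contra h
    obtain ⟨h1, h2⟩ := mul_ne_zero_iff.1 h
    have e := deltaCompat_shift_of_residueDegree f hδ (y := x) (by exact_mod_cast h2)
    rw [show f x = y from hx, (Groth.L22.IntMult.sheafFun_ne_zero h1).1] at e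
    exact hy e.symm
  -- points of the support in the fibre
  have hfib : ∀ x, f x = y → x ∈ CohB1.support M → δX x = k ∧ f.residueDegree x ≠ 0 := by
    intro x hx hxT
    obtain ⟨d, hd, hde⟩ := hδ x
    have := hdim x (not_subsingleton_iff_nontrivial.1 hxT)
    rw [hx] at hde
    have hd0 : d = 0 := by omega
    subst hd0
    refine ⟨by omega, (rtrdeg_eq_zero_iff f x).1 ?_⟩
    simpa [rtrdeg] using hd
  have hmax : ∀ x, f x = y → x ∈ CohB1.support M → ∀ z ∈ CohB1.support M, z ⤳ x → z = x := by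
    intro x hx hxT z hz hzx
    by_contra hne
    have h1 := (hX.2.2 z x hzx hne).1
    have h2 := hdim z (not_subsingleton_iff_nontrivial.1 hz)
    have h3 := (hfib x hx hxT).1
    omega
  have hlen : ∀ x, f x = y → x ∈ CohB1.support M → α x ≠ 0 := by
    intro x hx hxT h0
    rw [hα, Cyc.sheafFun, if_pos (hfib x hx hxT).1] at h0
    have h1 : (len x M).toNat = 0 := by exact_mod_cast h0
    rcases ENat.toNat_eq_zero.1 h1 with h2 | h2
    · exact (len_eq_zero_iff x M).1 h2 hxT
    · exact Groth.L16.CohSupport.len_ne_top hM (hmax x hx hxT) h2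
  have hfin : {x | f x = y ∧ x ∈ CohB1.support M}.Finite := by
    obtain ⟨_, ⟨U, hU, rfl⟩, hyU, -⟩ :=
      Y.isBasis_affineOpens.exists_subset_of_mem_open (Set.mem_univ y) isOpen_univ
    refine (α.locallyFiniteSupport.finite_inter_support_of_isCompact
      (f.isCompact_preimage hU.isCompact)).subset fun x hx => ⟨?_, hlen x hx.1 hx.2⟩
    show f x ∈ (U : Set Y)
    rw [hx.1]; exact hyU
  set s := hfin.toFinset
  have hs : ∀ x, x ∈ s ↔ f x = y ∧ x ∈ CohB1.support M := fun x => hfin.mem_toFinset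
  have hT := Groth.L16.CohSupport.isClosed_support M hM.2
  choose U₀ hU₀ hU₀T using fun i : s => exists_nhd_component hT (hmax i ((hs i).1 i.2).1 ((hs i).1 i.2).2)
  let U : s → X.Opens := fun i => U₀ i ⊓ ⟨(⋃ j ∈ {j : s | j ≠ i}, closure {(j : X)})ᶜ,
    ((Set.toFinite _).isClosed_biUnion fun j _ => isClosed_closure).isOpen_compl⟩
  have hU : ∀ i : s, (i : X) ∈ U i := fun i => ⟨hU₀ i, by
    intro h
    obtain ⟨j, hji, hcl⟩ := Set.mem_iUnion₂.1 h
    exact hji (Subtype.ext (hmax i ((hs i).1 i.2).1 ((hs i).1 i.2).2 j ((hs j).1 j.2).2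
      (specializes_iff_mem_closure.2 hcl)))⟩
  have hbij := fibStalk_bijective f M f.isClosedMap hT y s (fun x hx => ((hs x).1 hx).1)
    (fun x hx hxT => (hs x).2 ⟨hx, hxT⟩) U hU fun i j hij z hzi hzj hzT =>
      hzj.2 (Set.mem_biUnion (t := fun j : s => closure {(j : X)}) (show i ∈ {i : s | i ≠ j} from hij)
        (specializes_iff_mem_closure.1 (hU₀T i z hzi.1 hzT)))
  letI : ∀ i : s, Module (Y.presheaf.stalk y) (M.presheaf.stalk (i : X)) :=
    fun i => Module.compHom _ (fibMap f i ((hs i).1 i.2).1)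
  let e : ((Coh.push f).obj M).presheaf.stalk y ≃ₗ[Y.presheaf.stalk y] (∀ i : s, M.presheaf.stalk (i : X)) :=
    LinearEquiv.ofBijective
      { toFun := fun p (i : s) => fibStalk f M i ((hs i).1 i.2).1 p
        map_add' := fun p q => funext fun (i : s) => map_add _ p q
        map_smul' := fun r p => funext fun (i : s) => fibStalk_smul f M i _ r p } hbij
  rw [Cyc.sheafFun, if_pos hy, e.length_eq, Module.length_pi_of_fintype]
  refine (finsum_eq_sum_of_support_subset
    (fun x => ∑ᶠ (_ : x ∈ f ⁻¹' {y}), Cyc.sheafFun δX k M x * (f.residueDegree x : ℤ)) (s := s) fun x hx => ?_).trans ?_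
  · rw [Function.mem_support, finsum_eq_if] at hx
    split_ifs at hx with h
    · rw [Finset.mem_coe, hs]
      exact ⟨h, not_subsingleton_iff_nontrivial.2
        (Groth.L22.IntMult.sheafFun_ne_zero (left_ne_zero_of_mul hx)).2⟩
    · exact absurd rfl hx
  have hl : ∀ i : s, Module.length (Y.presheaf.stalk y) (M.presheaf.stalk (i : X)) =
      len (i : X) M * (f.residueDegree i : ℕ∞) := fun i =>
    length_compHom_fibre f M i ((hs i).1 i.2).1 (hfib i ((hs i).1 i.2).1 ((hs i).1 i.2).2).2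
  rw [Finset.sum_congr rfl fun i _ => hl i, ENat.toNat_sum fun i _ => ?_, Nat.cast_sum,
    ← Finset.sum_coe_sort s fun x => ∑ᶠ (_ : x ∈ f ⁻¹' {y}), Cyc.sheafFun δX k M x * (f.residueDegree x : ℤ)]
  · refine Finset.sum_congr rfl fun i _ => ?_
    obtain ⟨h1, h2⟩ := (hs i).1 i.2
    rw [finsum_eq_if, if_pos (show (i : X) ∈ f ⁻¹' {y} from h1), Cyc.sheafFun, if_pos (hfib i h1 h2).1,
      ENat.toNat_mul, ENat.toNat_natCast, Nat.cast_mul]
    rfl
  · exact WithTop.mul_ne_top (Groth.L16.CohSupport.len_ne_top hM (hmax i ((hs i).1 i.2).1 ((hs i).1 i.2).2))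
      (ENat.coe_ne_top _)

end Groth.L22.Cyc
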