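import Groth.Agent.L22.Cyc.CurveLocal
import Groth.Agent.L22.SchemeDim
import Groth.Agent.L22.Cyc.Ord
import Groth.Agent.L18.Domination
import Groth.Agent.L18.CurveCenter
import Groth.Agent.L18.NormalizationField
import Groth.Agent.L01.NagataAdjoin
import Mathlib.RingTheory.Algebraic.MvPolynomial
import Mathlib.RingTheory.Jacobson.Ring

/-!
On a proper integral curve over a field the divisor of a rational function has degree zero.
-/

universe u

open AlgebraicGeometry CategoryTheory IsLocalRing

namespace Groth.L22.Cyc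

open FunFld Groth.Agent.FF Groth.L22.SchemeDim

theorem finite_integralClosure_functionField {O L : Type u} [CommRing O] [IsDomain O] [Field L]
    [Algebra O L] [IsFractionRing O L] (hN : CAlg.IsNagata O) :
    Module.Finite O (integralClosure O L) := by
  letI := FractionRing.liftAlgebra O L
  haveI := FractionRing.isScalarTower_liftAlgebra O L
  haveI : Module.Finite (FractionRing O) L :=
    Module.Finite.of_surjective (Algebra.linearMap (FractionRing O) L) fun z => by
      obtain ⟨a, b, -, rfl⟩ := IsFractionRing.div_surjective (A := O) z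
      exact ⟨algebraMap O _ a / algebraMap O _ b, by
        rw [Algebra.linearMap_apply, map_div₀, ← IsScalarTower.algebraMap_apply,
          ← IsScalarTower.algebraMap_apply]⟩
  exact Groth.L01.Nagata.isN2_of_isNagata hN L inferInstance

theorem isFF_of_finiteType {K A L : Type u} [Field K] [CommRing A] [IsDomain A] [Field L]
    [Algebra K A] [Algebra.FiniteType K A] [Algebra A L] [IsFractionRing A L] [Algebra K L]
    [IsScalarTower K A L] (hd : ringKrullDim A = ((1 : ℕ) : WithBot ℕ∞)) : IsFF K L := by
  classical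
  obtain ⟨d, g, hinj, hfin, hd', -⟩ := AffineDim.exists_normalization K A
  obtain rfl : d = 1 := by exact_mod_cast hd'.symm.trans hd
  let φ : A →ₐ[K] L := IsScalarTower.toAlgHom K A L
  let x : L := φ (g (MvPolynomial.X 0))
  refine ⟨x, transcendental_iff_injective.2 ?_, ?_⟩
  · have e : Polynomial.aeval (R := K) x =
        (φ.comp g).comp (Polynomial.aeval (R := K) (MvPolynomial.X (0 : Fin 1))) :=
      Polynomial.algHom_ext (by simp [x])
    rw [e]
    exact ((IsFractionRing.injective A L).comp hinj).comp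
      (transcendental_iff_injective.1 (MvPolynomial.transcendental_X K 0))
  · let E : IntermediateField K L := IntermediateField.adjoin K {x}
    have hgE : ∀ p, φ (g p) ∈ E := fun p => by
      induction p using MvPolynomial.induction_on with
      | C r =>
        rw [show φ (g (MvPolynomial.C r)) = algebraMap K L r from (φ.comp g).commutes r]
        exact E.algebraMap_mem r
      | add p q hp hq => rw [map_add, map_add]; exact add_mem hp hq
      | mul_X p i hp =>
        rw [map_mul, map_mul]
        exact mul_mem hp (Fin.fin_one_eq_zero i ▸ IntermediateField.mem_adjoin_simple_self K x)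
    letI : Algebra (MvPolynomial (Fin 1) K) A := g.toRingHom.toAlgebra
    haveI : Module.Finite (MvPolynomial (Fin 1) K) A := hfin
    obtain ⟨G, hG⟩ := Module.finite_def.1 (‹Module.Finite (MvPolynomial (Fin 1) K) A›)
    have hint : ∀ a : A, IsIntegral E (φ a) := fun a => by
      obtain ⟨p, hp, hp'⟩ := IsIntegral.of_finite (MvPolynomial (Fin 1) K) a
      let ψ : MvPolynomial (Fin 1) K →+* E :=
        ((φ : A →+* L).comp g.toRingHom).codRestrict E.toSubfield.toSubring hgE
      refine ⟨p.map ψ, hp.map ψ, ?_⟩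
      rw [Polynomial.eval₂_map, show (algebraMap E L).comp ψ =
        (φ : A →+* L).comp (algebraMap (MvPolynomial (Fin 1) K) A) from rfl,
        show φ a = (φ : A →+* L) a from rfl, ← Polynomial.hom_eval₂]
      exact (congrArg (φ : A →+* L) hp').trans (map_zero _)
    let F : IntermediateField E L := IntermediateField.adjoin E (φ '' (G : Set A))
    haveI : Finite (φ '' (G : Set A)) := ((G.finite_toSet).image _).to_subtype
    haveI : FiniteDimensional E F := IntermediateField.finiteDimensional_adjoin fun z hz => by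
      obtain ⟨a, -, rfl⟩ := hz
      exact hint a
    have hA : ∀ a, φ a ∈ F := fun a => by
      have ha : a ∈ Submodule.span (MvPolynomial (Fin 1) K) (G : Set A) := hG ▸ trivial
      induction ha using Submodule.span_induction with
      | mem w hw => exact IntermediateField.subset_adjoin _ _ ⟨w, hw, rfl⟩
      | zero => rw [map_zero]; exact zero_mem _
      | add u v _ _ hu hv => rw [map_add]; exact add_mem hu hv
      | smul r w _ hw =>
        rw [Algebra.smul_def, map_mul]
        exact mul_mem (F.algebraMap_mem ⟨_, hgE r⟩) hw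
    have htop : F = ⊤ := eq_top_iff.2 fun z _ => by
      obtain ⟨a, b, -, rfl⟩ := IsFractionRing.div_surjective (A := A) z
      exact div_mem (hA a) (hA b)
    exact Module.Finite.equiv ((IntermediateField.equivOfEq htop).trans
      IntermediateField.topEquiv).toLinearEquiv

variable (K : Type u) [Field K] {X : Scheme.{u}}

/-- The scalars of the base field in the stalk. -/
noncomputable abbrev baseHom (c : X ⟶ Spec (CommRingCat.of K)) (x : X) : K →+* X.presheaf.stalk x :=
  (X.presheaf.germ ⊤ x trivial).hom.comp (Coh.toGlobal c)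

section Affine

variable [X.Over (Spec (CommRingCat.of K))] [LocallyOfFiniteType (X ↘ Spec (CommRingCat.of K))]

theorem baseHom_eq_sect {U : X.Opens} {x : X} (hx : x ∈ U) (r : K) :
    X.presheaf.germ U x hx (sectHom K X U r) = baseHom K (X ↘ Spec (CommRingCat.of K)) x r :=
  TopCat.Presheaf.germ_res_apply _ _ _ _ _

theorem surjective_residue_of_isMaximal {U : X.Opens} (hU : IsAffineOpen U) {x : X} (hxU : x ∈ U)
    (hmax : (hU.primeIdealOf ⟨x, hxU⟩).asIdeal.IsMaximal) :
    Function.Surjective fun a : Γ(X, U) => residue (X.presheaf.stalk x) (X.presheaf.germ U x hxU a) := by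
  intro z
  obtain ⟨w, rfl⟩ := residue_surjective z
  letI := X.presheaf.algebra_section_stalk (⟨x, hxU⟩ : U)
  haveI := hU.isLocalization_stalk ⟨x, hxU⟩
  obtain ⟨a, s, rfl⟩ := IsLocalization.exists_mk'_eq (hU.primeIdealOf ⟨x, hxU⟩).asIdeal.primeCompl w
  obtain ⟨t, i, hi, hts⟩ := hmax.exists_inv s.2
  refine ⟨a * t, ?_⟩
  have hi0 : residue (X.presheaf.stalk x) (algebraMap Γ(X, U) (X.presheaf.stalk x) i) = 0 :=
    (residue_eq_zero_iff _).2 ((IsLocalization.AtPrime.to_map_mem_maximal_iff _ _ i).2 hi)
  have h1 := congrArg (fun u => residue (X.presheaf.stalk x) (algebraMap Γ(X, U) _ u)) hts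
  simp only [map_add, map_mul, hi0, add_zero, map_one] at h1
  have h2 := congrArg (residue (X.presheaf.stalk x))
    (IsLocalization.mk'_spec (X.presheaf.stalk x) a s)
  rw [map_mul] at h2
  show residue (X.presheaf.stalk x) (algebraMap Γ(X, U) (X.presheaf.stalk x) (a * t)) = _
  refine Eq.trans ?_ (mul_one _)
  rw [← h1, map_mul, map_mul, ← h2]
  ring

theorem finrank_residueField_eq (c : X ⟶ Spec (CommRingCat.of K)) (x : X) :
    letI : Algebra K (X.presheaf.stalk x) := (baseHom K c x).toAlgebra
    Module.finrank K (ResidueField (X.presheaf.stalk x)) = c.residueDegree x := by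
  letI : Algebra K (X.presheaf.stalk x) := (baseHom K c x).toAlgebra
  letI algκ : Algebra ((Spec (CommRingCat.of K)).residueField (c x)) (X.residueField x) :=
    (c.residueFieldMap x).hom.toAlgebra
  let S := Spec (CommRingCat.of K)
  let e : K →+* S.residueField (c x) :=
    (S.evaluation ⊤ (c x) trivial).hom.comp (Scheme.ΓSpecIso (CommRingCat.of K)).inv.hom
  have hsurj : Function.Surjective e := by
    let i := (Scheme.ΓSpecIso (CommRingCat.of K)).commRingCatIsoToRingEquiv
    have hF : IsField Γ(S, ⊤) := MulEquiv.isField (Field.toIsField K) i.toMulEquiv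
    letI := S.presheaf.algebra_section_stalk (⟨c x, trivial⟩ : (⊤ : S.Opens))
    haveI := (isAffineOpen_top S).isLocalization_stalk ⟨c x, trivial⟩
    intro z
    obtain ⟨w, rfl⟩ := S.residue_surjective (c x) z
    obtain ⟨a, s, rfl⟩ := IsLocalization.exists_mk'_eq
      ((isAffineOpen_top S).primeIdealOf ⟨c x, trivial⟩).asIdeal.primeCompl w
    obtain ⟨t, ht⟩ := hF.mul_inv_cancel (show (s : Γ(S, ⊤)) ≠ 0 from fun h => s.2 (by
      rw [h]; exact zero_mem _))
    refine ⟨i (a * t), ?_⟩
    show S.evaluation ⊤ (c x) trivial (i.symm (i (a * t))) = _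
    rw [RingEquiv.symm_apply_apply]
    show (S.residue (c x)) (algebraMap Γ(S, ⊤) (S.presheaf.stalk (c x)) (a * t)) = _
    congr 1
    rw [← IsLocalization.mk'_mul_cancel_right (M := ((isAffineOpen_top S).primeIdealOf
      ⟨c x, trivial⟩).asIdeal.primeCompl) (a * t) s, mul_assoc, mul_comm t, ht, mul_one]
  symm
  refine Algebra.finrank_eq_of_equiv_equiv (RingEquiv.ofBijective e ⟨e.injective, hsurj⟩).symm
    (RingEquiv.refl _) ?_
  ext z
  obtain ⟨r, rfl⟩ := hsurj z
  show algebraMap K (ResidueField (X.presheaf.stalk x))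
    ((RingEquiv.ofBijective e ⟨e.injective, hsurj⟩).symm (e r)) = c.residueFieldMap x (e r)
  rw [show (RingEquiv.ofBijective e ⟨e.injective, hsurj⟩).symm (e r) = r from
    RingEquiv.symm_apply_apply _ r]
  exact (Scheme.evaluation_naturality_apply c x (V := ⊤) trivial _).symm

end Affine

set_option maxHeartbeats 1600000 in
theorem finsum_residueDegree_mul_ordFrac_eq_zero [IsIntegral X]
    (c : X ⟶ Spec (CommRingCat.of K)) [IsProper c] (hdim : topologicalKrullDim X = 1)
    (f : X.functionField) (hf : f ≠ 0) :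
    ∑ᶠ (x : X) (_ : IsClosed ({x} : Set X)),
      (c.residueDegree x : ℤ) * CycAlg.ordFrac (X.presheaf.stalk x) X.functionField f = 0 := by
  classical
  letI : X.Over (Spec (CommRingCat.of K)) := ⟨c⟩
  haveI : LocallyOfFiniteType (X ↘ Spec (CommRingCat.of K)) := inferInstanceAs (LocallyOfFiniteType c)
  haveI : IsLocallyNoetherian X := LocallyOfFiniteType.isLocallyNoetherian c
  haveI : X.IsSeparated := ⟨by
    rw [← Limits.terminal.comp_from c]; infer_instance⟩
  let L := X.functionField
  let η := genericPoint X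
  haveI : Nonempty (⊤ : X.Opens) := ⟨⟨genericPoint X, trivial⟩⟩
  letI algKL : Algebra K L := (baseHom K c η).toAlgebra
  obtain ⟨n, hn, -, hnU⟩ := exists_dim_eq_trdeg K X
  obtain rfl : n = 1 := by exact_mod_cast hn.symm.trans hdim
  have hdA : ∀ {U : X.Opens}, IsAffineOpen U → (U : Set X).Nonempty →
      ringKrullDim Γ(X, U) = ((1 : ℕ) : WithBot ℕ∞) := fun {U} hU hne =>
    (topologicalKrullDim_affineOpen hU).symm.trans (hnU U hne)
  have hη : ∀ {U : X.Opens}, (U : Set X).Nonempty → η ∈ U := fun {U} hne =>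
    ((genericPoint_spec X).mem_open_set_iff U.2).2 (by simpa using hne)
  have hbase : ∀ (U : X.Opens) [Nonempty U] (r : K),
      X.germToFunctionField U (sectHom K X U r) = algebraMap K L r := fun U _ r =>
    TopCat.Presheaf.germ_res_apply _ _ _ _ _
  have hK : IsFF K L := by
    obtain ⟨_, ⟨U, hU, rfl⟩, hηU, -⟩ :=
      X.isBasis_affineOpens.exists_subset_of_mem_open (Set.mem_univ η) isOpen_univ
    haveI : Nonempty U := ⟨⟨η, hηU⟩⟩
    haveI := functionField_isFractionRing_of_isAffineOpen X U hU
    letI : Algebra K Γ(X, U) := (sectHom K X U).toAlgebra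
    haveI : Algebra.FiniteType K Γ(X, U) := RingHom.finiteType_algebraMap.1 (finiteType_sectHom K X hU)
    haveI : IsScalarTower K Γ(X, U) L := IsScalarTower.of_algebraMap_eq fun r => (hbase U r).symm
    exact isFF_of_finiteType (hdA hU ⟨η, hηU⟩)
  -- non-generic points are closed
  have hprime : ∀ {U : X.Opens} (hU : IsAffineOpen U) {x : X} (hxU : x ∈ U), x ≠ η →
      (hU.primeIdealOf ⟨x, hxU⟩).asIdeal.IsMaximal := by
    intro U hU x hxU hne
    haveI : Nonempty U := ⟨⟨x, hxU⟩⟩
    haveI : IsDomain Γ(X, U) := inferInstance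
    haveI : Ring.KrullDimLE 1 Γ(X, U) :=
      Ring.krullDimLE_iff.2 (le_of_eq (hdA hU ⟨x, hxU⟩))
    rcases Ring.krullDimLE_one_iff.1 inferInstance (hU.primeIdealOf ⟨x, hxU⟩).asIdeal
      (hU.primeIdealOf ⟨x, hxU⟩).2 with h1 | h1
    · exfalso
      have hbot : (hU.primeIdealOf ⟨x, hxU⟩).asIdeal = ⊥ := by
        simpa [IsDomain.minimalPrimes_eq_singleton_bot] using h1
      have hle : hU.primeIdealOf ⟨x, hxU⟩ ≤ hU.primeIdealOf ⟨η, hη ⟨x, hxU⟩⟩ :=
        show (hU.primeIdealOf ⟨x, hxU⟩).asIdeal ≤ _ by rw [hbot]; exact bot_le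
      have h2 := ((PrimeSpectrum.le_iff_specializes _ _).1 hle).map hU.fromSpec.continuous
      rw [hU.fromSpec_primeIdealOf, hU.fromSpec_primeIdealOf] at h2
      exact hne (h2.antisymm (genericPoint_specializes' x)).eq
    · exact h1
  have hclosed : ∀ x : X, x ≠ η → IsClosed ({x} : Set X) := by
    intro x hne
    refine closure_subset_iff_isClosed.1 fun y hy => ?_
    have hxy : x ⤳ y := specializes_iff_mem_closure.2 hy
    obtain ⟨_, ⟨U, hU, rfl⟩, hyU, -⟩ :=
      X.isBasis_affineOpens.exists_subset_of_mem_open (Set.mem_univ y) isOpen_univ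
    change X.Opens at U
    have hxU : x ∈ U := hxy.mem_open U.2 hyU
    have h1 : hU.primeIdealOf ⟨x, hxU⟩ ⤳ hU.primeIdealOf ⟨y, hyU⟩ :=
      hU.fromSpec.isOpenEmbedding.isInducing.specializes_iff.1 (by
        rwa [hU.fromSpec_primeIdealOf, hU.fromSpec_primeIdealOf])
    have h2 : hU.primeIdealOf ⟨x, hxU⟩ = hU.primeIdealOf ⟨y, hyU⟩ :=
      PrimeSpectrum.ext ((hprime hU hxU hne).eq_of_le (hU.primeIdealOf ⟨y, hyU⟩).2.ne_top
        ((PrimeSpectrum.le_iff_specializes _ _).2 h1))
    have h3 := congrArg hU.fromSpec h2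
    rw [hU.fromSpec_primeIdealOf, hU.fromSpec_primeIdealOf] at h3
    exact h3.symm
  have hηnc : ¬ IsClosed ({η} : Set X) := fun h => by
    have hu : (Set.univ : Set X) = {η} := by
      rw [← genericPoint_closure X, h.closure_eq]
    haveI : Subsingleton X := ⟨fun a b =>
      (hu ▸ Set.mem_univ a : a ∈ ({η} : Set X)).trans (hu ▸ Set.mem_univ b : b ∈ ({η} : Set X)).symm⟩
    obtain ⟨_, ⟨U, hU, rfl⟩, hηU, -⟩ :=
      X.isBasis_affineOpens.exists_subset_of_mem_open (Set.mem_univ η) isOpen_univ
    haveI : Subsingleton (PrimeSpectrum Γ(X, U)) := hU.fromSpec.isOpenEmbedding.injective.subsingleton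
    have h0 : ringKrullDim Γ(X, U) ≤ 0 := Order.krullDim_nonpos_of_subsingleton
    rw [hdA hU ⟨η, hηU⟩] at h0
    exact absurd (by exact_mod_cast h0 : (1 : ℕ) ≤ 0) (by omega)
  -- the centre of a place
  have hkP : ∀ (P : Place K L) (r : K), (X.presheaf.germ ⊤ η trivial).hom
      (c.appTop.hom ((Scheme.ΓSpecIso (CommRingCat.of K)).inv.hom r)) ∈ P.O := fun P r => P.2.1 r
  choose ctr hctr hctr' using fun P : Place K L => Groth.L18.CurveCenter.exists_center c P.O (hkP P)
  have hover : ∀ P, P ∈ PlacesOver K (X.presheaf.stalk (ctr P)) L := fun P a => hctr P a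
  have hctrne : ∀ P, ctr P ≠ η := fun P h => by
    have hall : ∀ z : L, P.1 z ≤ 1 := by
      have h1 := hover P
      rw [h] at h1
      intro z
      have hid : @algebraMap (X.presheaf.stalk η) L _ _ (stalkFunctionFieldAlgebra X η) z = z :=
        congrArg (fun φ : X.presheaf.stalk η ⟶ X.presheaf.stalk η => φ z)
          (TopCat.Presheaf.stalkSpecializes_refl X.presheaf η)
      rw [← hid]
      exact h1 z
    obtain ⟨z, -, hz⟩ := exists_val_eq P 1
    have := hall z
    rw [hz, exp_le_one'] at this
    omega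
  -- the contribution of a closed point
  have hlocal : ∀ x : X, IsClosed ({x} : Set X) → ∀ S : Finset (Place K L),
      (∀ P, P ∈ S ↔ ctr P = x) →
      (c.residueDegree x : ℤ) * CycAlg.ordFrac (X.presheaf.stalk x) L f = ∑ P ∈ S, P.ord f * P.deg := by
    intro x hxc S hS
    have hne : x ≠ η := fun h => hηnc (h ▸ hxc)
    obtain ⟨_, ⟨U, hU, rfl⟩, hxU, -⟩ :=
      X.isBasis_affineOpens.exists_subset_of_mem_open (Set.mem_univ x) isOpen_univ
    change X.Opens at U
    haveI : Nonempty U := ⟨⟨x, hxU⟩⟩
    letI : Algebra K (X.presheaf.stalk x) := (baseHom K c x).toAlgebra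
    haveI : IsScalarTower K (X.presheaf.stalk x) L := IsScalarTower.of_algebraMap_eq fun r =>
      (Scheme.algebraMap_germ_eq_germToFunctionField X (U := ⊤) trivial _).symm
    letI : Algebra K Γ(X, U) := (sectHom K X U).toAlgebra
    haveI : Algebra.FiniteType K Γ(X, U) := RingHom.finiteType_algebraMap.1 (finiteType_sectHom K X hU)
    letI := X.presheaf.algebra_section_stalk (⟨x, hxU⟩ : U)
    haveI hloc := hU.isLocalization_stalk ⟨x, hxU⟩
    haveI : IsScalarTower K Γ(X, U) (X.presheaf.stalk x) := IsScalarTower.of_algebraMap_eq fun r =>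
      (baseHom_eq_sect K hxU r).symm
    have hdx : ringKrullDim (X.presheaf.stalk x) ≤ ringKrullDim Γ(X, U) :=
      Order.krullDim_le_of_strictMono
        (PrimeSpectrum.comap (algebraMap Γ(X, U) (X.presheaf.stalk x))) (Monotone.strictMono_of_injective
        (fun p q h => Ideal.comap_mono h)
        (PrimeSpectrum.localization_comap_injective (X.presheaf.stalk x)
          (hU.primeIdealOf ⟨x, hxU⟩).asIdeal.primeCompl))
    haveI : Ring.KrullDimLE 1 (X.presheaf.stalk x) :=
      Ring.krullDimLE_iff.2 (hdx.trans (le_of_eq (hdA hU ⟨x, hxU⟩)))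
    haveI : Module.Finite (X.presheaf.stalk x) (integralClosure (X.presheaf.stalk x) L) :=
      finite_integralClosure_functionField (Groth.L01.NagataAdjoin.isNagata_localization
        (Groth.L01.Nagata.isNagata_of_finiteType (Groth.L18.NormField.isNagata_field K))
        (hU.primeIdealOf ⟨x, hxU⟩).asIdeal.primeCompl _)
    haveI : Module.Finite K (ResidueField (X.presheaf.stalk x)) := by
      haveI : Algebra.FiniteType K (ResidueField (X.presheaf.stalk x)) :=
        Algebra.FiniteType.of_surjective (IsScalarTower.toAlgHom K Γ(X, U) (ResidueField (X.presheaf.stalk x)))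
          (surjective_residue_of_isMaximal hU hxU (hprime hU hxU hne))
      exact finite_of_finite_type_of_isJacobsonRing K _
    have hO : ¬ IsField (X.presheaf.stalk x) := fun h => by
      refine hne ?_
      have h1 : (hU.primeIdealOf ⟨x, hxU⟩).asIdeal = ⊥ := by
        ext a
        rw [← IsLocalization.AtPrime.to_map_mem_maximal_iff (X.presheaf.stalk x) _ a,
          IsLocalRing.isField_iff_maximalIdeal_eq.1 h, Ideal.mem_bot, Ideal.mem_bot]
        exact map_eq_zero_iff _ (germ_injective_of_isIntegral X x hxU)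
      have hle : hU.primeIdealOf ⟨x, hxU⟩ ≤ hU.primeIdealOf ⟨η, hη ⟨x, hxU⟩⟩ :=
        show (hU.primeIdealOf ⟨x, hxU⟩).asIdeal ≤ _ by rw [h1]; exact bot_le
      have h2 := ((PrimeSpectrum.le_iff_specializes _ _).1 hle).map hU.fromSpec.continuous
      rw [hU.fromSpec_primeIdealOf, hU.fromSpec_primeIdealOf] at h2
      exact (h2.antisymm (genericPoint_specializes' x)).eq
    have hSx : ∀ P, P ∈ S ↔ P ∈ PlacesOver K (X.presheaf.stalk x) L := fun P => by
      rw [hS]
      constructor
      · rintro rfl; exact hover P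
      · intro hP
        have h1 : Groth.L18.localRing X (ctr P) ≤ P.O.toLocalSubring :=
          (Groth.L18.localRing_le_iff _ _).2 ⟨hctr P, hctr' P⟩
        have h2 : Groth.L18.localRing X x ≤ P.O.toLocalSubring := by
          refine (Groth.L18.localRing_le_iff _ _).2 ⟨hP, fun a ha => ?_⟩
          by_contra hna
          have h3 := val_lt_one_of_mem_maximalIdeal hP ((mem_maximalIdeal a).2 hna)
          obtain ⟨⟨b, hbO⟩, hb⟩ := ha.exists_right_inv
          have hb1 : algebraMap _ L a * b = 1 := congrArg Subtype.val hb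
          have h4 : P.1 (algebraMap _ L a * b) < 1 := by
            rw [map_mul]; exact mul_lt_one_of_lt_of_le h3 hbO
          rw [hb1, map_one] at h4
          exact lt_irrefl _ h4
        exact Groth.L18.eq_of_localRing_le h1 h2
    rw [← finrank_residueField_eq K c x]
    exact finrank_mul_ordFrac_eq_sum hK hO S hSx f hf
  have hfin : ∀ x : X, IsClosed ({x} : Set X) → {P | ctr P = x}.Finite := by
    intro x hxc
    have hne : x ≠ η := fun h => hηnc (h ▸ hxc)
    letI : Algebra K (X.presheaf.stalk x) := (baseHom K c x).toAlgebra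
    haveI : IsScalarTower K (X.presheaf.stalk x) L := IsScalarTower.of_algebraMap_eq fun r =>
      (Scheme.algebraMap_germ_eq_germToFunctionField X (U := ⊤) trivial _).symm
    obtain ⟨_, ⟨U, hU, rfl⟩, hxU, -⟩ :=
      X.isBasis_affineOpens.exists_subset_of_mem_open (Set.mem_univ x) isOpen_univ
    change X.Opens at U
    haveI : Nonempty U := ⟨⟨x, hxU⟩⟩
    obtain ⟨t, htq, ht0⟩ := Submodule.exists_mem_ne_zero_of_ne_bot
      (show (hU.primeIdealOf ⟨x, hxU⟩).asIdeal ≠ ⊥ from fun h => by
        haveI := hprime hU hxU hne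
        have hF : IsField Γ(X, U) := Ring.isField_iff_maximal_bot.2 (h ▸ this)
        have := ringKrullDim_eq_zero_of_isField hF
        rw [hdA hU ⟨x, hxU⟩] at this
        exact one_ne_zero (by exact_mod_cast this : (1 : ℕ) = 0))
    letI := X.presheaf.algebra_section_stalk (⟨x, hxU⟩ : U)
    haveI := hU.isLocalization_stalk ⟨x, hxU⟩
    let t' := X.presheaf.germ U x hxU t
    have htr : Transcendental K (algebraMap (X.presheaf.stalk x) L t') := by
      intro halg
      have halg' : IsAlgebraic K t' :=
        (isAlgebraic_algebraMap_iff (IsFractionRing.injective (X.presheaf.stalk x) L)).1 halg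
      obtain ⟨r, hr, w, hw⟩ := IsAlgebraic.exists_nonzero_dvd (R := K) halg'
        (mem_nonZeroDivisors_of_ne_zero ((map_ne_zero_iff _ (germ_injective_of_isIntegral X x hxU)).2 ht0))
      exact (mem_maximalIdeal t').1 ((IsLocalization.AtPrime.to_map_mem_maximal_iff _ _ t).2 htq)
        (isUnit_of_mul_isUnit_left (hw ▸ (isUnit_iff_ne_zero.2 hr).map (baseHom K c x)))
    refine (finite_zeros hK htr).subset ?_
    rintro P rfl
    by_contra h
    have h1 : P.1 (algebraMap _ L t') = 1 := le_antisymm (hctr P t') (not_lt.1 h)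
    have h0 : algebraMap _ L t' ≠ 0 := fun h0 => by rw [h0, map_zero] at h1; exact zero_ne_one h1
    have hu : IsUnit (⟨_, hctr P t'⟩ : P.O.toSubring) :=
      IsUnit.of_mul_eq_one ⟨(algebraMap _ L t')⁻¹,
        show P.1 _ ≤ 1 by rw [map_inv₀, h1, inv_one]⟩ (Subtype.ext (mul_inv_cancel₀ h0))
    exact (mem_maximalIdeal t').1 ((IsLocalization.AtPrime.to_map_mem_maximal_iff _ _ t).2 htq)
      (hctr' P t' hu)
  let D := (div K f).support
  rw [finsum_eq_sum_of_support_subset _ (s := D.image ctr)]
  · rw [← deg_div hK f]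
    show _ = ∑ P ∈ D, div K f P * (P.deg : ℤ)
    rw [← Finset.sum_fiberwise_of_maps_to (g := ctr) (t := D.image ctr)
      (fun P hP => Finset.mem_image_of_mem _ hP)]
    refine Finset.sum_congr rfl fun x hx => ?_
    obtain ⟨P₀, -, rfl⟩ := Finset.mem_image.1 hx
    have hxc : IsClosed ({ctr P₀} : Set X) := hclosed _ (hctrne P₀)
    rw [finsum_eq_if, if_pos hxc, hlocal _ hxc (hfin _ hxc).toFinset
      (fun P => (hfin _ hxc).mem_toFinset)]
    rw [← Finset.sum_subset (s₁ := D.filter fun P => ctr P = ctr P₀)
      (s₂ := (hfin _ hxc).toFinset)]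
    · exact Finset.sum_congr rfl fun P _ => by rw [div_apply hK]
    · intro P hP
      exact (hfin _ hxc).mem_toFinset.2 (Finset.mem_filter.1 hP).2
    · intro P hP hPD
      have h0 : div K f P = 0 := by
        by_contra h0
        exact hPD (Finset.mem_filter.2 ⟨Finsupp.mem_support_iff.2 h0, (hfin _ hxc).mem_toFinset.1 hP⟩)
      rw [div_apply hK] at h0
      rw [h0, zero_mul]
  · intro x hx
    by_contra hxD
    refine hx ?_
    beta_reduce
    rw [finsum_eq_if]
    split_ifs with hxc
    · rw [hlocal x hxc (hfin x hxc).toFinset fun P => (hfin x hxc).mem_toFinset]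
      refine Finset.sum_eq_zero fun P hP => ?_
      have h0 : div K f P = 0 := by
        by_contra h0
        exact hxD (Finset.mem_image.2 ⟨P, Finsupp.mem_support_iff.2 h0, (hfin x hxc).mem_toFinset.1 hP⟩)
      rw [div_apply hK] at h0
      rw [h0, zero_mul]
    · rfl

end Groth.L22.Cyc
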