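import Groth.Agent.L22.Bundle.ZeroUP
import Groth.Agent.L22.C1.GysinBC
import Groth.Agent.L16.ProjSpace.CoordSect
import Groth.Agent.L16.ProjSpace.BaseChange
import Groth.Agent.L07.BlowLib.Deformation

/-!
The sections at `0` and `∞` of the projective line are the zero schemes of the coordinates of `O(1)`.
-/

set_option autoImplicit false
set_option linter.style.haveILetI false
set_option backward.isDefEq.respectTransparency.types false
set_option backward.isDefEq.respectTransparency false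

universe u

open CategoryTheory CategoryTheory.Limits AlgebraicGeometry TopologicalSpace Opposite MvPolynomial
open Groth.L18.Frame (rs ro rs_rs rs_smul rs_self IsFrame pull)

noncomputable section

namespace Groth.L22.P1Zero

section Criterion

variable {X D : Scheme.{u}} (i : D ⟶ X) [IsClosedImmersion i] {L : X.Modules} (hL : PicF.IsInvertible L)
  (s : L.presheaf.obj (Opposite.op ⊤))

include hL in
/-- A closed subscheme cut out by the coefficient of `s` on the members of an affine framed cover is `Z(s)`. -/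
theorem isZeroSchemeOf_of_cover (h : ∀ x : X, ∃ (W : X.Opens) (e : Γ(L, W)) (f : Γ(X, W)),
    IsAffineOpen W ∧ x ∈ W ∧ IsFrame L W e ∧ rs L le_top s = f • e ∧
      RingHom.ker (i.app W).hom = Ideal.span {f}) : Cyc.IsZeroSchemeOf i L s := by
  have hgerm : ∀ {x : X} {W : X.Opens} (hx : x ∈ W) {e : Γ(L, W)} {f : Γ(X, W)}, rs L le_top s = f • e →
      L.presheaf.germ ⊤ x trivial s = X.presheaf.germ W x hx f • L.presheaf.germ W x hx e := by
    intro x W hx e f hf
    rw [← Groth.L20.ModStalk.germ_smul, ← hf]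
    exact (TopCat.Presheaf.germ_res_apply L.presheaf (homOfLE le_top) x hx s).symm
  refine ⟨Set.ext fun x => ⟨?_, fun hx => ?_⟩, fun d => ?_⟩
  · rintro ⟨d, rfl⟩
    obtain ⟨W, e, f, hW, hdW, he, hf, hk⟩ := h (i d)
    show Groth.L22.C1.mk L _ = 0
    rw [hgerm hdW hf, Groth.L22.C1.mk_smul_eq_zero_iff hL (Groth.L22.C1.isGen_germ he hdW)]
    refine (IsLocalRing.residue_eq_zero_iff _).2 ((IsLocalRing.le_maximalIdeal (RingHom.ker_ne_top (i.stalkMap d).hom))
      ?_)
    rw [Groth.L20.Infinitesimal.ker_stalkMap, Groth.L20.SeeNormal.sI_eq i.ker ⟨W, hW⟩ hdW,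
      Scheme.Hom.ker_apply, hk]
    exact Ideal.mem_map_of_mem _ (Ideal.mem_span_singleton_self f)
  · obtain ⟨W, e, f, hW, hxW, he, hf, hk⟩ := h x
    have hx2 : Groth.L22.C1.mk L (L.presheaf.germ ⊤ x trivial s) = 0 := hx
    rw [hgerm hxW hf, Groth.L22.C1.mk_smul_eq_zero_iff hL (Groth.L22.C1.isGen_germ he hxW)] at hx2
    have hnb : x ∉ X.basicOpen f := fun hb => by
      rw [Scheme.mem_basicOpen _ _ _ hxW] at hb
      exact (hb.map (X.residue x).hom).ne_zero hx2
    have hz : x ∈ X.zeroLocus (U := W) ((i.ker.ideal ⟨W, hW⟩ : Ideal Γ(X, W)) : Set Γ(X, W)) := by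
      rw [Scheme.Hom.ker_apply, hk, Scheme.zeroLocus_span, Scheme.zeroLocus_singleton]
      exact hnb
    have hsupp : x ∈ (i.ker.support : Set X) := ((Set.ext_iff.1 (i.ker.coe_support_inter ⟨W, hW⟩) x).2 ⟨hz, hxW⟩).1
    rwa [Scheme.Hom.support_ker, i.isClosedEmbedding.isClosed_range.closure_eq] at hsupp
  · obtain ⟨W, e, f, hW, hdW, he, hf, hk⟩ := h (i d)
    refine ⟨_, _, Groth.L22.C1.isGen_germ he hdW, hgerm hdW hf, ?_⟩
    rw [Groth.L20.Infinitesimal.ker_stalkMap, Groth.L20.SeeNormal.sI_eq i.ker ⟨W, hW⟩ hdW,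
      Scheme.Hom.ker_apply, hk, Ideal.map_span, Set.image_singleton]

/-- Zero schemes may be composed with isomorphisms. -/
theorem isZeroSchemeOf_iso {X D D' : Scheme.{u}} {L : X.Modules} {s : L.presheaf.obj (Opposite.op ⊤)}
    (j : D' ⟶ X) (i : D ⟶ X) (e : D' ⟶ D) [IsIso e] (hej : e ≫ i = j) (hD : Cyc.IsZeroSchemeOf i L s) :
    Cyc.IsZeroSchemeOf j L s := by
  subst hej
  refine ⟨?_, fun d => ?_⟩
  · rw [← hD.1]
    refine Set.ext fun x => ⟨fun ⟨d, hd⟩ => ⟨e d, hd⟩, fun ⟨d, hd⟩ => ?_⟩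
    obtain ⟨d', rfl⟩ := e.surjective d
    exact ⟨d', hd⟩
  · obtain ⟨t, f, ht, hf, hk⟩ := hD.2 (e d)
    refine ⟨t, f, ht, hf, ?_⟩
    rw [Scheme.Hom.stalkMap_comp, CommRingCat.hom_comp,
      RingHom.ker_comp_of_injective _ (ConcreteCategory.bijective_of_isIso (e.stalkMap d)).1]
    exact hk

end Criterion

open Groth.L16.ProjSpace


theorem ev_toAway (i : Fin (1 + 1)) :
    (P1.evalAway.{u} i).comp (toAway 1 (ULift.{u} ℤ) i) = MvPolynomial.constantCoeff := by
  refine MvPolynomial.ringHom_ext (fun r => ?_) (fun j => ?_)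
  · obtain ⟨n⟩ := r
    rw [show (⟨n⟩ : ULift.{u} ℤ) = (n : ULift.{u} ℤ) from rfl]
    simp only [map_intCast]
  · simp only [RingHom.comp_apply, toAway_X, constantCoeff_X]
    have h := congrArg (IsLocalization.Away.lift (S := Localization.Away (P1.T.{u} i)) (P1.T.{u} i)
      (g := (MvPolynomial.aeval (Pi.single i (1 : P1.R0.{u}) : Fin (1 + 1) → P1.R0)).toRingHom)
      (by simp)) (val_ratio_mul 1 (ULift.{u} ℤ) i j.1)
    rw [map_mul, IsLocalization.Away.lift_eq, IsLocalization.Away.lift_eq] at h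
    simp [Pi.single_apply, j.2] at h
    exact h

theorem point_eq (i : Fin (1 + 1)) : P1.point.{u} i =
    Spec.map (CommRingCat.ofHom (MvPolynomial.constantCoeff :
      MvPolynomial (ChartVar 1 i) (ULift.{u} ℤ) →+* ULift.{u} ℤ)) ≫ chart 1 (ULift.{u} ℤ) i := by
  rw [← ev_toAway, chart, ← Category.assoc, ← Spec.map_comp]
  show Spec.map _ ≫ _ = _
  congr 2
  refine CommRingCat.hom_ext (RingHom.ext fun x => ?_)
  show P1.evalAway i x = P1.evalAway i (toAway 1 (ULift.{u} ℤ) i ((awayEquiv 1 (ULift.{u} ℤ) i).symm x))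
  rw [show toAway 1 (ULift.{u} ℤ) i ((awayEquiv 1 (ULift.{u} ℤ) i).symm x) = x from
    (awayEquiv 1 (ULift.{u} ℤ) i).apply_symm_apply x]

theorem point_toSpec (i : Fin (1 + 1)) :
    P1.point.{u} i ≫ CohB1.ProjSpace.toSpec 1 (ULift.{u} ℤ) = 𝟙 _ :=
  specULiftZIsTerminal.hom_ext _ _

theorem ker_constantCoeff {A : Type u} [CommRing A] (i : Fin (1 + 1)) (j : ChartVar 1 i) :
    RingHom.ker (MvPolynomial.constantCoeff : MvPolynomial (ChartVar 1 i) A →+* A) =
      Ideal.span {MvPolynomial.X j} := by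
  have hv : (Set.univ : Set (ChartVar 1 i)) = {j} := by
    ext x
    simp only [Set.mem_univ, Set.mem_singleton_iff, true_iff]
    obtain ⟨x, hx⟩ := x
    obtain ⟨y, hy⟩ := j
    apply Subtype.ext
    revert hx hy
    fin_cases i <;> fin_cases x <;> fin_cases y <;> simp
  rw [show Ideal.span {(MvPolynomial.X j : MvPolynomial (ChartVar 1 i) A)} =
    Ideal.span (MvPolynomial.X '' Set.univ) by rw [hv, Set.image_singleton]]
  ext P
  rw [RingHom.mem_ker, mem_ideal_span_X_image]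
  refine ⟨fun h d hd => ?_, fun h => by_contra fun h0 => ?_⟩
  · have hd0 : d ≠ 0 := fun e => by
      rw [MvPolynomial.mem_support_iff, e] at hd
      exact hd h
    obtain ⟨k, hk⟩ := Finsupp.ne_iff.1 hd0
    exact ⟨k, Set.mem_univ _, by simpa using hk⟩
  · obtain ⟨k, -, hk⟩ := h 0 (MvPolynomial.mem_support_iff.2 h0)
    exact hk rfl

theorem isClosedImmersion_point (i : Fin (1 + 1)) : IsClosedImmersion (P1.point.{u} i) := by
  haveI : IsSeparated (CohB1.ProjSpace.toSpec 1 (ULift.{u} ℤ)) := inferInstance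
  haveI : IsClosedImmersion (P1.point.{u} i ≫ CohB1.ProjSpace.toSpec 1 (ULift.{u} ℤ)) := by
    rw [point_toSpec]; infer_instance
  exact IsClosedImmersion.of_comp (P1.point.{u} i) (CohB1.ProjSpace.toSpec 1 (ULift.{u} ℤ))

theorem ker_app_congr {X Y : Scheme.{u}} (f : X ⟶ Y) {W : Y.Opens} {V : X.Opens} (h : f ⁻¹ᵁ W = V) :
    RingHom.ker (f.app W).hom = RingHom.ker (f.appLE W V h.ge).hom := by
  subst h
  rw [← Scheme.Hom.app_eq_appLE]

/-- The two points of the projective line over `ℤ` are the zero schemes of the coordinates. -/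
theorem isZeroScheme_point (i j : Fin (1 + 1)) (hj : j ≠ i) :
    haveI := isClosedImmersion_point.{u} i
    Cyc.IsZeroSchemeOf (P1.point.{u} i) (Twist.twist (CohB1.polyGrading 1 (ULift.{u} ℤ)) ((1 : ℕ) : ℤ)) (xsec 1 (ULift.{u} ℤ) j) := by
  haveI := isClosedImmersion_point.{u} i
  have hL : PicF.IsInvertible (Twist.twist (CohB1.polyGrading 1 (ULift.{u} ℤ)) ((1 : ℕ) : ℤ)) :=
    Groth.L16.ProjTwist.isInvertible_twistProjSpace 1 (ULift.{u} ℤ) ((1 : ℕ) : ℤ)
  let R := ULift.{u} ℤ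
  let cc : MvPolynomial (ChartVar 1 i) R →+* R := MvPolynomial.constantCoeff
  let χ := chart 1 R i
  have hχ : χ ⁻¹ᵁ dOpen 1 R i = ⊤ := eq_top_iff.2 fun z _ => (opensRange_chart 1 R i).le ⟨z, rfl⟩
  have hpre : P1.point.{u} i ⁻¹ᵁ dOpen 1 R i = ⊤ := by
    rw [point_eq]
    show Spec.map (CommRingCat.ofHom cc) ⁻¹ᵁ (χ ⁻¹ᵁ dOpen 1 R i) = ⊤
    rw [hχ]
    rfl
  let φ : Γ(CohB1.ProjSpace 1 R, dOpen 1 R i) ⟶ CommRingCat.of (MvPolynomial (ChartVar 1 i) R) :=
    χ.appLE (dOpen 1 R i) ⊤ hχ.ge ≫ (Scheme.ΓSpecIso _).hom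
  have hφ : Function.Bijective φ.hom := by
    have h1 : IsIso (χ.app (dOpen 1 R i)) := χ.isIso_app _ (opensRange_chart 1 R i).ge
    have h2 : Function.Bijective (χ.appLE (dOpen 1 R i) ⊤ hχ.ge).hom := by
      have : IsIso (χ.appLE (dOpen 1 R i) ⊤ hχ.ge) := by
        rw [Scheme.Hom.appLE]
        have : IsIso ((Spec (CommRingCat.of (MvPolynomial (ChartVar 1 i) R))).presheaf.map (homOfLE hχ.ge).op) := by
          rw [Subsingleton.elim (homOfLE hχ.ge) (eqToHom hχ.symm)]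
          infer_instance
        infer_instance
      exact ConcreteCategory.bijective_of_isIso _
    exact (ConcreteCategory.bijective_of_isIso (Scheme.ΓSpecIso (CommRingCat.of (MvPolynomial (ChartVar 1 i) R))).hom).comp h2
  have hcomp : (P1.point.{u} i).appLE (dOpen 1 R i) ⊤ hpre.ge ≫ (Scheme.ΓSpecIso (CommRingCat.of R)).hom =
      φ ≫ CommRingCat.ofHom cc := by
    have h1 : (P1.point.{u} i).appLE (dOpen 1 R i) ⊤ hpre.ge =
        (Spec.map (CommRingCat.ofHom cc) ≫ χ).appLE (dOpen 1 R i) ⊤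
          (fun z _ => hχ.ge trivial) := by
      congr 1
      exact point_eq i
    rw [h1, ← Scheme.Hom.appLE_comp_appLE (Spec.map (CommRingCat.ofHom cc)) χ (dOpen 1 R i) ⊤ ⊤ hχ.ge le_top,
      show (Spec.map (CommRingCat.ofHom cc)).appLE ⊤ ⊤ le_top = (Spec.map (CommRingCat.ofHom cc)).appTop from
        (Scheme.Hom.app_eq_appLE _).symm, Category.assoc, Scheme.ΓSpecIso_naturality]
    rfl
  let a := Groth.L16.ProjTwist.ratio (CohB1.polyGrading 1 (ULift.{u} ℤ)) (Xd 1 R j) (Xd 1 R i)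
  have hra : φ a = MvPolynomial.X ⟨j, hj⟩ := by
    show (Scheme.ΓSpecIso _).hom (χ.appLE (dOpen 1 R i) ⊤ hχ.ge a) = _
    rw [chart_appLE_ratio 1 R i j hχ.ge, ← CommRingCat.comp_apply, Iso.inv_hom_id]
    show cratio 1 R i j = _
    rw [cratio, dif_neg hj]
  have hker : RingHom.ker ((P1.point.{u} i).app (dOpen 1 R i)).hom = Ideal.span {a} := by
    rw [ker_app_congr _ hpre]
    ext b
    have hb : φ b ∈ RingHom.ker cc ↔ (P1.point.{u} i).appLE (dOpen 1 R i) ⊤ hpre.ge b = 0 := by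
      have h1 : (Scheme.ΓSpecIso (CommRingCat.of R)).hom ((P1.point.{u} i).appLE (dOpen 1 R i) ⊤ hpre.ge b) =
          cc (φ b) := congr($hcomp b)
      rw [RingHom.mem_ker, ← h1]
      exact map_eq_zero_iff _ (ConcreteCategory.bijective_of_isIso _).1
    rw [RingHom.mem_ker, ← hb, ker_constantCoeff i ⟨j, hj⟩, ← hra, Ideal.mem_span_singleton,
      Ideal.mem_span_singleton]
    refine ⟨fun ⟨c, hc⟩ => ?_, fun ⟨c, hc⟩ => ⟨φ c, by rw [hc, map_mul]⟩⟩
    obtain ⟨c', rfl⟩ := hφ.2 c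
    exact ⟨c', hφ.1 (by rw [map_mul]; exact hc)⟩
  refine isZeroSchemeOf_of_cover (X := CohB1.ProjSpace 1 R) (P1.point.{u} i) hL _ fun x => ?_
  obtain ⟨k, hk⟩ := exists_mem_basicOpen_X 1 R x
  by_cases hki : k = i
  · subst hki
    exact ⟨_, _, a, isAffineOpen_basicOpen_X 1 R k, hk, isFrame_xsec 1 R k, rs_xsec_eq 1 R k j, hker⟩
  obtain rfl : k = j := by
    revert hki hj
    fin_cases i <;> fin_cases j <;> fin_cases k <;> simp
  refine ⟨_, _, 1, isAffineOpen_basicOpen_X 1 R k, hk, isFrame_xsec 1 R k, (one_smul _ _).symm, ?_⟩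
  rw [Ideal.span_singleton_one, eq_top_iff]
  intro b _
  have hempty : P1.point.{u} i ⁻¹ᵁ dOpen 1 R k = ⊥ := le_bot_iff.1 fun z hz => by
    let W : (Proj (CohB1.polyGrading 1 (ULift.{u} ℤ))).Opens := dOpen 1 R i ⊓ dOpen 1 R k
    have hW1 : W ≤ dOpen 1 R i := inf_le_left
    have hW2 : W ≤ dOpen 1 R k := inf_le_right
    have hu : IsUnit (ro hW1 a) := by
      refine Groth.L18.Frame.isUnit_of_isFrame ((isFrame_xsec 1 R i).mono hW1) ?_
      rw [← rs_smul, ← rs_xsec_eq, rs_rs]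
      have := (isFrame_xsec 1 R k).mono hW2
      rwa [rs_rs] at this
    have hzi : z ∈ P1.point.{u} i ⁻¹ᵁ dOpen 1 R i := hpre.ge trivial
    have h0 : (P1.point.{u} i).app (dOpen 1 R i) a = 0 := by
      rw [← RingHom.mem_ker]
      exact hker.ge (Ideal.mem_span_singleton_self a)
    have h1 : (CohB1.ProjSpace 1 R).presheaf.germ W (P1.point.{u} i z) ⟨hzi, hz⟩ (ro hW1 a) =
        (CohB1.ProjSpace 1 R).presheaf.germ (dOpen 1 R i) (P1.point.{u} i z) hzi a :=
      TopCat.Presheaf.germ_res_apply _ _ _ _ _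
    have h2 := (hu.map ((CohB1.ProjSpace 1 R).presheaf.germ W (P1.point.{u} i z) ⟨hzi, hz⟩).hom).map
      ((P1.point.{u} i).stalkMap z).hom
    change IsUnit ((P1.point.{u} i).stalkMap z
      ((CohB1.ProjSpace 1 R).presheaf.germ W (P1.point.{u} i z) ⟨hzi, hz⟩ (ro hW1 a))) at h2
    erw [h1, Scheme.Hom.germ_stalkMap_apply, h0, map_zero] at h2
    exact not_isUnit_zero h2
  have : ∀ V : (Spec (CommRingCat.of P1.R0.{u})).Opens, V = ⊥ → ∀ c c' : Γ(Spec (CommRingCat.of P1.R0.{u}), V), c = c' := by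
    rintro _ rfl c c'
    exact Subsingleton.elim _ _
  exact this _ hempty _ _

/-- The two sections of the projective line over `X` as zero schemes in a common invertible module. -/
theorem exists_sections (X : Scheme.{u}) : ∃ (L : (CohB1.ProjSpaceOver 1 X).Modules)
    (σ : Fin (1 + 1) → L.presheaf.obj (Opposite.op ⊤)), PicF.IsInvertible L ∧
      ∀ i, IsClosedImmersion (P1.sect X i) ∧ Cyc.IsZeroSchemeOf (P1.sect X i) L (σ i) := by
  let R := ULift.{u} ℤ
  let q : CohB1.ProjSpaceOver 1 X ⟶ CohB1.ProjSpace 1 R :=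
    pullback.fst (CohB1.ProjSpace.toSpec 1 R) (specULiftZIsTerminal.from X)
  let L₀ : (CohB1.ProjSpace 1 R).Modules := Twist.twist (CohB1.polyGrading 1 (ULift.{u} ℤ)) ((1 : ℕ) : ℤ)
  have hL₀ : PicF.IsInvertible L₀ :=
    Groth.L16.ProjTwist.isInvertible_twistProjSpace 1 R ((1 : ℕ) : ℤ)
  refine ⟨(Scheme.Modules.pullback q).obj L₀, fun i => pull q L₀ ⊤ (xsec 1 R (1 - i)),
    Groth.L18.Ample.isInvertible_pullback q hL₀, fun i => ?_⟩
  haveI := isClosedImmersion_point.{u} i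
  have hj : (1 - i : Fin (1 + 1)) ≠ i := by fin_cases i <;> simp
  have hsq : IsPullback (specULiftZIsTerminal.from X) (P1.sect X i) (P1.point.{u} i) q := by
    refine IsPullback.of_bot ?_ ?_ (IsPullback.of_hasPullback (CohB1.ProjSpace.toSpec 1 R) (specULiftZIsTerminal.from X))
    · rw [point_toSpec]
      erw [Groth.L07.BlowLib.sect_toBase]
      exact IsPullback.of_vert_isIso ⟨by simp⟩
    · exact (pullback.lift_fst _ _ _).symm
  refine ⟨?_, isZeroSchemeOf_iso _ _ hsq.flip.isoPullback.hom hsq.flip.isoPullback_hom_fst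
    (Groth.L22.C1.isZeroScheme_base q (P1.point.{u} i) hL₀ _ (isZeroScheme_point i _ hj))⟩
  exact MorphismProperty.of_isPullback hsq inferInstance

end Groth.L22.P1Zero
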