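import Groth.Agent.L22.Cyc.RelDim
import Groth.Agent.L22.Cyc.FieldExt
import Groth.Agent.L23.SchemeFlatAt

/-!
Relative dimension is stable under base change.
-/

universe u

open AlgebraicGeometry CategoryTheory CategoryTheory.Limits

namespace Groth.L22.Cyc

variable {X X' Y Y' : Scheme.{u}} {f : Y ⟶ X} {p : X' ⟶ X} {q : Y' ⟶ Y} {f' : Y' ⟶ X'}

/-- A point which is generic in its fibre of the base change lies over such a point. -/
theorem FibGen.of_baseChange (sq : IsPullback q f' f p) {t : Y'} (h : FibGen f' t) :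
    FibGen f (q t) := by
  obtain ⟨w, z, rfl⟩ : ∃ (w : X') (z : f'.fiber w), f'.fiberι w z = t :=
    ⟨f' t, f'.asFiber t, f'.fiberι_asFiber t⟩
  obtain ⟨pr, -, hpr, hflat⟩ := Groth.L23.exists_fiber_baseChange sq w
  have hq : q (f'.fiberι w z) = f.fiberι (p w) (pr z) := by
    rw [← Scheme.Hom.comp_apply, ← Scheme.Hom.comp_apply, hpr]
  rw [hq]
  refine fibGen_of_maximal fun v hv => ?_
  obtain ⟨v', hv', rfl⟩ := Flat.generalizingMap pr hv
  rw [maximal_of_fibGen h v' hv']

theorem hasRelDim_baseChange [LocallyOfFiniteType f] (sq : IsPullback q f' f p) {r : ℕ}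
    (hr : Cyc.HasRelDim f r) : Cyc.HasRelDim f' r := by
  haveI : LocallyOfFiniteType f' := MorphismProperty.of_isPullback sq ‹LocallyOfFiniteType f›
  refine hasRelDim_of_rtrdeg _ fun t h => ?_
  have hg := h.of_baseChange sq
  obtain ⟨w, z, rfl⟩ : ∃ (w : X') (z : f'.fiber w), f'.fiberι w z = t :=
    ⟨f' t, f'.asFiber t, f'.fiberι_asFiber t⟩
  obtain ⟨pr, hpb, hpr, -⟩ := Groth.L23.exists_fiber_baseChange sq w
  have hq : q (f'.fiberι w z) = f.fiberι (p w) (pr z) := by
    rw [← Scheme.Hom.comp_apply, ← Scheme.Hom.comp_apply, hpr]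
  rw [hq] at hg
  letI : (f.fiber (p w)).Over (Spec (CommRingCat.of (X.residueField (p w)))) :=
    ⟨f.fiberToSpecResidueField (p w)⟩
  letI : (f'.fiber w).Over (Spec (CommRingCat.of (X'.residueField w))) :=
    ⟨f'.fiberToSpecResidueField w⟩
  haveI : LocallyOfFiniteType (f.fiberToSpecResidueField (p w)) :=
    MorphismProperty.pullback_snd f (X.fromSpecResidueField (p w)) inferInstance
  haveI : LocallyOfFiniteType (f'.fiberToSpecResidueField w) :=
    MorphismProperty.pullback_snd f' (X'.fromSpecResidueField w) inferInstance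
  haveI : LocallyOfFiniteType ((f.fiber (p w)) ↘ Spec (CommRingCat.of (X.residueField (p w)))) :=
    ‹LocallyOfFiniteType (f.fiberToSpecResidueField (p w))›
  haveI : LocallyOfFiniteType ((f'.fiber w) ↘ Spec (CommRingCat.of (X'.residueField w))) :=
    ‹LocallyOfFiniteType (f'.fiberToSpecResidueField w)›
  obtain ⟨n, hn, htr⟩ :=
    SchemeDim.exists_dim_closure_eq_trdeg (X.residueField (p w)) (f.fiber (p w)) (pr z)
  have h1 := rtrdeg_eq_of_hasRelDim f hr hg
  rw [rtrdeg_fiberι, htr] at h1
  have h2 := dim_closure_baseChange (X.residueField (p w)) (X'.residueField w)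
    (f.fiberToSpecResidueField (p w)) (p.residueFieldMap w) (f'.fiberToSpecResidueField w) pr hpb
    (maximal_of_fibGen h) hn
  obtain ⟨m, hm, htr'⟩ := SchemeDim.exists_dim_closure_eq_trdeg (X'.residueField w) (f'.fiber w) z
  rw [rtrdeg_fiberι, htr', ← h1]
  rw [h2] at hm
  exact_mod_cast hm.symm

/-- At a generic point of a fibre of a base change, the transcendence degree is unchanged. -/
theorem rtrdeg_baseChange [LocallyOfFiniteType f] (sq : IsPullback q f' f p) {t : Y'}
    (h : FibGen f' t) : rtrdeg f' t = rtrdeg f (q t) := by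
  haveI : LocallyOfFiniteType f' := MorphismProperty.of_isPullback sq ‹LocallyOfFiniteType f›
  obtain ⟨w, z, rfl⟩ : ∃ (w : X') (z : f'.fiber w), f'.fiberι w z = t :=
    ⟨f' t, f'.asFiber t, f'.fiberι_asFiber t⟩
  obtain ⟨pr, hpb, hpr, -⟩ := Groth.L23.exists_fiber_baseChange sq w
  have hq : q (f'.fiberι w z) = f.fiberι (p w) (pr z) := by
    rw [← Scheme.Hom.comp_apply, ← Scheme.Hom.comp_apply, hpr]
  rw [hq]
  letI : (f.fiber (p w)).Over (Spec (CommRingCat.of (X.residueField (p w)))) :=
    ⟨f.fiberToSpecResidueField (p w)⟩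
  letI : (f'.fiber w).Over (Spec (CommRingCat.of (X'.residueField w))) :=
    ⟨f'.fiberToSpecResidueField w⟩
  haveI : LocallyOfFiniteType (f.fiberToSpecResidueField (p w)) :=
    MorphismProperty.pullback_snd f (X.fromSpecResidueField (p w)) inferInstance
  haveI : LocallyOfFiniteType (f'.fiberToSpecResidueField w) :=
    MorphismProperty.pullback_snd f' (X'.fromSpecResidueField w) inferInstance
  haveI : LocallyOfFiniteType ((f.fiber (p w)) ↘ Spec (CommRingCat.of (X.residueField (p w)))) :=
    ‹LocallyOfFiniteType (f.fiberToSpecResidueField (p w))›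
  haveI : LocallyOfFiniteType ((f'.fiber w) ↘ Spec (CommRingCat.of (X'.residueField w))) :=
    ‹LocallyOfFiniteType (f'.fiberToSpecResidueField w)›
  obtain ⟨n, hn, htr⟩ :=
    SchemeDim.exists_dim_closure_eq_trdeg (X.residueField (p w)) (f.fiber (p w)) (pr z)
  have h2 := dim_closure_baseChange (X.residueField (p w)) (X'.residueField w)
    (f.fiberToSpecResidueField (p w)) (p.residueFieldMap w) (f'.fiberToSpecResidueField w) pr hpb
    (maximal_of_fibGen h) hn
  obtain ⟨m, hm, htr'⟩ := SchemeDim.exists_dim_closure_eq_trdeg (X'.residueField w) (f'.fiber w) z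
  rw [rtrdeg_fiberι, rtrdeg_fiberι, htr', htr]
  rw [h2] at hm
  exact_mod_cast hm.symm


end Groth.L22.Cyc
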