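import Groth.Agent.L22.Cyc.OrdDet
import Groth.Prelude.Def_Tame
import Mathlib.RingTheory.Algebraic.Integral
import Mathlib.RingTheory.Norm.Basic

/-!
`CycAlg.ordFrac` of a norm as a length.
-/

universe u v

namespace Groth.L22.OrdDet

variable {R : Type u} [CommRing R] [IsDomain R] [IsNoetherianRing R] [Ring.KrullDimLE 1 R]
  {K : Type v} [Field K] [Algebra R K] [IsFractionRing R K]

theorem ordFrac_div {a b : R} (ha : a ≠ 0) (hb : b ≠ 0) :
    CycAlg.ordFrac R K (algebraMap R K a / algebraMap R K b) =
      ((Ring.ord R a).toNat : ℤ) - ((Ring.ord R b).toNat : ℤ) := by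
  have h : IsNoetherianRing R ∧ Ring.KrullDimLE 1 R ∧ Nontrivial R ∧ IsFractionRing R K :=
    ⟨inferInstance, inferInstance, inferInstance, inferInstance⟩
  have key : ∀ z : R, z ≠ 0 → Ring.ordFrac R (algebraMap R K z) =
      ((Multiplicative.ofAdd ((Ring.ord R z).toNat : ℤ) : Multiplicative ℤ) :
        WithZero (Multiplicative ℤ)) := fun z hz => by
    rw [Ring.ordFrac_eq_ord R hz]
    refine Ring.ordMonoidWithZeroHom_eq_coe R (mem_nonZeroDivisors_of_ne_zero hz) ?_
    rw [ENat.natCast_toNat]
    exact Ring.ord_ne_top (mem_nonZeroDivisors_of_ne_zero hz)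
  rw [CycAlg.ordFrac, dif_pos h, map_div₀, key a ha, key b hb, ← WithZero.coe_div]
  rfl

theorem span_range_eq_top {A B K L : Type u} [CommRing A] [CommRing B] [IsDomain B] [Algebra A B]
    [Module.Finite A B] [Field K] [Field L] [Algebra A K] [Algebra B L] [IsFractionRing B L]
    [Algebra K L] [Algebra A L] [IsScalarTower A B L] [IsScalarTower A K L]
    (hinj : Function.Injective (algebraMap A B)) [IsDomain A] :
    Submodule.span K (Set.range (IsScalarTower.toAlgHom A B L).toLinearMap) = ⊤ := by
  refine eq_top_iff.2 fun z _ => ?_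
  obtain ⟨x, y, hy, rfl⟩ := IsFractionRing.div_surjective (A := B) (K := L) z
  obtain ⟨c, hc, w, hw⟩ := IsAlgebraic.exists_nonzero_dvd (R := A)
    (IsIntegral.isAlgebraic (IsIntegral.of_finite A y)) hy
  have hc' : algebraMap A L c ≠ 0 := by
    rw [IsScalarTower.algebraMap_apply A B L]
    exact (map_ne_zero_iff _ (IsFractionRing.injective B L)).2 ((map_ne_zero_iff _ hinj).2 hc)
  have heq : algebraMap B L x / algebraMap B L y =
      (algebraMap A K c)⁻¹ • algebraMap B L (x * w) := by
    rw [Algebra.smul_def, map_inv₀, ← IsScalarTower.algebraMap_apply A K L,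
      IsScalarTower.algebraMap_apply A B L c, hw, map_mul, map_mul]
    have hyL : algebraMap B L y ≠ 0 := IsFractionRing.to_map_ne_zero_of_mem_nonZeroDivisors hy
    have hwL : algebraMap B L w ≠ 0 := fun h => hc' (by
      rw [IsScalarTower.algebraMap_apply A B L, hw, map_mul, h, mul_zero])
    field_simp
  rw [heq]
  exact Submodule.smul_mem _ _ (Submodule.subset_span ⟨x * w, rfl⟩)

theorem length_eq_ordFrac_norm {A B K L : Type u} [CommRing A] [IsDomain A] [IsNoetherianRing A]
    [IsLocalRing A] [Ring.KrullDimLE 1 A] [CommRing B] [IsDomain B] [Algebra A B]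
    (hinj : Function.Injective (algebraMap A B)) [Module.Finite A B] [Field K] [Field L]
    [Algebra A K] [IsFractionRing A K] [Algebra B L] [IsFractionRing B L] [Algebra K L]
    [Algebra A L] [IsScalarTower A B L] [IsScalarTower A K L] [FiniteDimensional K L]
    (r : B) (hr : r ≠ 0) :
    Module.length A (B ⧸ Ideal.span {r}) < ⊤ ∧
      ((Module.length A (B ⧸ Ideal.span {r})).toNat : ℤ) =
        CycAlg.ordFrac A K (Algebra.norm K (algebraMap B L r)) := by
  obtain ⟨a, b, hb, hab⟩ := IsFractionRing.div_surjective (A := A)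
    (Algebra.norm K (algebraMap B L r))
  have hb0 : b ≠ 0 := nonZeroDivisors.ne_zero hb
  have hr' : algebraMap B L r ≠ 0 := (map_ne_zero_iff _ (IsFractionRing.injective B L)).2 hr
  have ha0 : a ≠ 0 := fun h => by
    rw [h, map_zero, zero_div] at hab
    exact (Algebra.norm_ne_zero_iff.2 hr') hab.symm
  have key := length_coker_eq_ord_det (A := A) (K := K) (IsScalarTower.toAlgHom A B L).toLinearMap
    (IsFractionRing.injective B L) (span_range_eq_top hinj) (LinearMap.mulLeft A r)
    (LinearMap.mulLeft K (algebraMap B L r)) (fun x => (map_mul (algebraMap B L) r x).symm) ha0 hb0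
    (by
      rw [show LinearMap.det (LinearMap.mulLeft K (algebraMap B L r)) =
        Algebra.norm K (algebraMap B L r) from rfl, ← hab, div_mul_cancel₀]
      exact IsFractionRing.to_map_ne_zero_of_mem_nonZeroDivisors hb)
  have he : LinearMap.range (LinearMap.mulLeft A r) = (Ideal.span {r}).restrictScalars A := by
    ext z
    rw [LinearMap.mem_range, Submodule.restrictScalars_mem, Ideal.mem_span_singleton']
    exact ⟨fun ⟨w, hw⟩ => ⟨w, by rw [mul_comm]; exact hw⟩,
      fun ⟨w, hw⟩ => ⟨w, by rw [LinearMap.mulLeft_apply, mul_comm]; exact hw⟩⟩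
  rw [(Submodule.quotEquivOfEq _ _ he).length_eq, (Submodule.Quotient.restrictScalarsEquiv A
    (Ideal.span {r})).length_eq] at key
  have hatop := Ring.ord_ne_top (R := A) (mem_nonZeroDivisors_of_ne_zero ha0)
  rw [← key] at hatop
  obtain ⟨h1, h2⟩ := WithTop.add_ne_top.1 hatop
  refine ⟨h1.lt_top, ?_⟩
  rw [← hab, ordFrac_div ha0 hb0, ← key, ENat.toNat_add h1 h2]
  push_cast
  ring

end Groth.L22.OrdDet
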