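import Groth.Agent.L22.Cyc.Envelope

/-!
Extending rational equivalences from an open subscheme.
-/

universe u

open AlgebraicGeometry CategoryTheory TopologicalSpace

namespace Groth.L22.Cyc

variable {X : Scheme.{u}}

theorem isDimFun_open (U : X.Opens) {δ : X → ℤ} (hδ : Cyc.IsDimFun X δ) :
    Cyc.IsDimFun (U : Scheme.{u}) fun u => δ (U.ι u) := by
  intro a b hab hne
  obtain ⟨h1, h2⟩ := hδ (U.ι a) (U.ι b) (hab.map U.ι.continuous)
    fun h => hne (U.ι.isOpenEmbedding.injective h)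
  refine ⟨h1, fun himm => h2 fun w haw hwb => ?_⟩
  have hwU : w ∈ U := hwb.mem_open U.2 b.2
  obtain ⟨c, rfl⟩ : w ∈ Set.range U.ι := by rw [Scheme.Opens.range_ι]; exact hwU
  rcases himm c (U.ι.isOpenEmbedding.isInducing.specializes_iff.1 haw)
    (U.ι.isOpenEmbedding.isInducing.specializes_iff.1 hwb) with h | h
  · exact Or.inl (congrArg U.ι h)
  · exact Or.inr (congrArg U.ι h)

theorem isLocallyNoetherian_open [IsLocallyNoetherian X] (U : X.Opens) :
    IsLocallyNoetherian (U : Scheme.{u}) := isLocallyNoetherian_of_isOpenImmersion U.ι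

theorem divFun_open [IsLocallyNoetherian X] (U : X.Opens) {δ : X → ℤ} (hδ : Cyc.IsDimFun X δ)
    (η : (U : Scheme.{u})) (g : X.residueField (U.ι η)) (hg : g ≠ 0) (u : (U : Scheme.{u})) :
    Cyc.divFun (fun w => δ (U.ι w)) η (U.ι.residueFieldMap η g) u =
      Cyc.divFun δ (U.ι η) g (U.ι u) := by
  haveI := isLocallyNoetherian_open U
  by_cases h : η ⤳ u ∧ δ (U.ι u) + 1 = δ (U.ι η)
  · rw [Cyc.divFun, dif_pos h, Cyc.divFun, dif_pos ⟨h.1.map U.ι.continuous, h.2⟩]
    exact ordAt_preimmersion U.ι hδ (isDimFun_open U hδ) h.1 h.2 g hg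
  · rw [Cyc.divFun, dif_neg h, Cyc.divFun,
      dif_neg fun hh => h ⟨U.ι.isOpenEmbedding.isInducing.specializes_iff.1 hh.1, hh.2⟩]

/-- A rational equivalence on an open extends to the whole scheme up to a cycle off the open. -/
theorem exists_supported_on_complement [IsLocallyNoetherian X] {δ : X → ℤ}
    (hδ : Cyc.IsDimFun X δ) (U : X.Opens) (k : ℤ) (α β : AlgebraicCycle X ℤ)
    (hα : α ∈ Cyc.Zk X δ k) (hβ : β ∈ Cyc.Zk X δ k)
    (αU βU : AlgebraicCycle (U : Scheme.{u}) ℤ) (hαU : ∀ u, αU u = α (U.ι u))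
    (hβU : ∀ u, βU u = β (U.ι u))
    (h : Cyc.RatEquiv (fun u : (U : Scheme.{u}) => δ (U.ι u)) k αU βU) :
    ∃ γ : AlgebraicCycle X ℤ, γ ∈ Cyc.Zk X δ k ∧ (∀ x : X, x ∈ U → γ x = 0) ∧
      Cyc.RatEquiv δ k α (β + γ) := by
  classical
  obtain ⟨ι, ξ, f, hξ, hf, hlf, hsum⟩ := h
  let η : ι → X := fun i => U.ι (ξ i)
  choose g hg using fun i => (FibreDim.residueFieldMap_bijective U.ι (ξ i)).2 (f i)
  have hg0 : ∀ i, g i ≠ 0 := fun i h0 => hf i (by rw [← hg i, h0, map_zero])
  let D : X → ℤ := fun x => ∑ᶠ i, Cyc.divFun δ (η i) (g i) x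
  have hmem : ∀ V : X.Opens, IsAffineOpen V → {i | η i ∈ V}.Finite := by
    intro V hV
    haveI : IsNoetherianRing Γ(X, V) := IsLocallyNoetherian.component_noetherian ⟨V, hV⟩
    haveI : NoetherianSpace (V : Set X) := noetherianSpace_of_isAffineOpen V hV
    have hc : IsCompact (((V : Set X) ∩ U : Set X)) := by
      have h1 : IsCompact (Subtype.val ⁻¹' (U : Set X) : Set (V : Set X)) :=
        NoetherianSpace.isCompact _
      have h2 := h1.image continuous_subtype_val
      rwa [Subtype.image_preimage_coe] at h2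
    have hc' : IsCompact (U.ι ⁻¹' (V : Set X)) := by
      rw [U.ι.isOpenEmbedding.isInducing.isCompact_iff, Set.image_preimage_eq_inter_range,
        Scheme.Opens.range_ι]
      exact hc
    choose W hW hxW hfin using hlf
    obtain ⟨T, hT⟩ := hc'.elim_finite_subcover W hW (fun x _ => Set.mem_iUnion.2 ⟨x, hxW x⟩)
    refine (T.finite_toSet.biUnion fun x _ => hfin x).subset fun i hi => ?_
    obtain ⟨x, hx, hxi⟩ := Set.mem_iUnion₂.1 (hT (show ξ i ∈ U.ι ⁻¹' (V : Set X) from hi))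
    exact Set.mem_biUnion hx ⟨ξ i, subset_closure rfl, hxi⟩
  have hzero : ∀ (V : X.Opens), ∀ i, η i ∉ V → ∀ x ∈ V, Cyc.divFun δ (η i) (g i) x = 0 :=
    fun V i hi x hx => dif_neg fun hh => hi (hh.1.mem_open V.2 hx)
  have hDfin : ∀ W : X.Opens, IsAffineOpen W → (Function.support D ∩ W).Finite := by
    intro W hW
    refine ((hmem W hW).biUnion fun i _ =>
      finite_support_divFun_inter hδ (η i) (g i) (hg0 i) hW).subset fun x hx => ?_
    obtain ⟨i, hi⟩ : ∃ i, Cyc.divFun δ (η i) (g i) x ≠ 0 := by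
      by_contra hc
      push Not at hc
      exact hx.1 (finsum_eq_zero_of_forall_eq_zero hc)
    exact Set.mem_biUnion (x := i) (by by_contra hiI; exact hi (hzero W i hiI x hx.2)) ⟨hi, hx.2⟩
  let Dc := cycleOfFiniteAffine D hDfin
  have hval : ∀ x, (α - β - Dc) x = α x - β x - D x := fun x => by
    rw [Function.locallyFinsuppWithin.coe_sub, Pi.sub_apply, Function.locallyFinsuppWithin.coe_sub,
      Pi.sub_apply]
    rfl
  refine ⟨α - β - Dc, fun x hx => ?_, fun x hx => ?_, ι, η, g, hξ, hg0, fun x => ?_, fun x => ?_⟩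
  · have hD0 : D x = 0 := finsum_eq_zero_of_forall_eq_zero fun i =>
      dif_neg fun hh => hx (by have := hh.2; rw [show δ (η i) = k + 1 from hξ i] at this; omega)
    rw [hval, hα x hx, hβ x hx, hD0]
    simp
  · obtain ⟨u, rfl⟩ : x ∈ Set.range U.ι := by rw [Scheme.Opens.range_ι]; exact hx
    have h1 := hsum u
    rw [Function.locallyFinsuppWithin.coe_sub, Pi.sub_apply, hαU, hβU] at h1
    rw [hval, h1, sub_eq_zero]
    exact finsum_congr fun i => by rw [← hg i]; exact divFun_open U hδ (ξ i) (g i) (hg0 i) u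
  · obtain ⟨V, hV, hxV, -⟩ := exists_isAffineOpen_mem_and_subset (x := x) (U := ⊤) trivial
    refine ⟨V, V.2, hxV, (hmem V hV).subset fun i ⟨w, hw, hwV⟩ => ?_⟩
    exact (specializes_iff_mem_closure.2 hw).mem_open V.2 hwV
  · rw [Function.locallyFinsuppWithin.coe_sub, Pi.sub_apply, Function.locallyFinsuppWithin.coe_add,
      Pi.add_apply, hval]
    show α x - (β x + (α x - β x - D x)) = D x
    ring

end Groth.L22.Cyc
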