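import Groth.Agent.L22.Cyc.PushRat
import Groth.Prelude.Def_W4stkchowintpicEnv

/-!
Envelopes: push-forward of cycles is surjective, and the exact sequence for Chow groups.
-/

universe u

open AlgebraicGeometry CategoryTheory CategoryTheory.Limits TopologicalSpace

namespace Groth.L22.Cyc

variable {X Y : Scheme.{u}}

/-- A cycle from a function whose support is finite on every affine open. -/
noncomputable def cycleOfFiniteAffine (F : X → ℤ)
    (h : ∀ W : X.Opens, IsAffineOpen W → (Function.support F ∩ W).Finite) : AlgebraicCycle X ℤ where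
  toFun := F
  supportWithinDomain' := fun _ _ => trivial
  supportLocallyFiniteWithinDomain' := fun z _ => by
    obtain ⟨W, hW, hzW, -⟩ := exists_isAffineOpen_mem_and_subset (x := z) (U := ⊤) trivial
    exact ⟨W, W.2.mem_nhds hzW, (h W hW).subset fun y hy => ⟨hy.2, hy.1⟩⟩

@[simp] theorem cycleOfFiniteAffine_apply (F : X → ℤ)
    (h : ∀ W : X.Opens, IsAffineOpen W → (Function.support F ∩ W).Finite) :
    ⇑(cycleOfFiniteAffine F h) = F := rfl

/-- A cycle whose support lies in the image of a section of the support of a cycle. -/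
theorem finite_support_section (f : Y ⟶ X) (sec : X → Y) (α : AlgebraicCycle X ℤ)
    (F : Y → ℤ) (hF : ∀ y, F y ≠ 0 → α (f y) ≠ 0 ∧ y = sec (f y)) (W : Y.Opens)
    (hW : IsAffineOpen W) : (Function.support F ∩ W).Finite := by
  refine ((α.locallyFiniteSupport.finite_inter_support_of_isCompact
    (hW.isCompact.image f.continuous)).image sec).subset fun y hy => ?_
  exact ⟨f y, ⟨⟨y, hy.2, rfl⟩, (hF y hy.1).1⟩, (hF y hy.1).2.symm⟩

theorem residueDegree_of_surjective (f : Y ⟶ X) (y : Y)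
    (h : Function.Surjective (f.residueFieldMap y).hom) : f.residueDegree y = 1 :=
  residueDegree_eq_one f y ⟨RingHom.injective _, h⟩

theorem map_surjective_of_completelyDecomposed [IsLocallyNoetherian X] (f : Y ⟶ X) [IsProper f]
    (hcd : Cyc.IsCompletelyDecomposed f) {δY : Y → ℤ} {δ : X → ℤ}
    (hδ : Cyc.DeltaCompat f δY δ) (k : ℤ) (α : AlgebraicCycle X ℤ) (hα : α ∈ Cyc.Zk X δ k) :
    ∃ β : AlgebraicCycle Y ℤ, β ∈ Cyc.Zk Y δY k ∧ AlgebraicCycle.map f δY δ β = α := by
  classical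
  choose sec hsec hsur using hcd
  let F : Y → ℤ := fun y => if sec (f y) = y then α (f y) else 0
  have hF : ∀ y, F y ≠ 0 → α (f y) ≠ 0 ∧ y = sec (f y) := fun y hy => by
    by_cases h : sec (f y) = y
    · exact ⟨by simpa [F, h] using hy, h.symm⟩
    · exact absurd (if_neg h) hy
  refine ⟨cycleOfFiniteAffine F (finite_support_section f sec α F hF), fun y hy => ?_, ?_⟩
  · by_contra h
    obtain ⟨h1, h2⟩ := hF y h
    have hd : f.residueDegree y ≠ 0 := by
      rw [residueDegree_of_surjective f y (h2 ▸ hsur (f y))]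
      exact one_ne_zero
    refine h1 (hα _ fun e => hy ?_)
    rw [deltaCompat_shift_of_residueDegree f hδ hd, e]
  · refine DFunLike.ext _ _ fun x => ?_
    show (∑ᶠ y ∈ f ⁻¹' {x}, F y * ((AlgebraicCycle.mapCoeff f δY δ y : ℕ) : ℤ)) = α x
    rw [finsum_mem_inter_support_eq' _ (f ⁻¹' {x}) {sec x} ?_, finsum_mem_singleton,
      mapCoeff_eq f hδ, residueDegree_of_surjective f _ (hsur x)]
    · simp [F, hsec]
    · intro y hy
      rw [Function.mem_support] at hy
      obtain ⟨-, h2⟩ := hF y (left_ne_zero_of_mul hy)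
      exact ⟨fun h => h2.trans (congrArg sec h), fun h => by
        rw [Set.mem_preimage, show y = sec x from h, hsec]; rfl⟩

/-- A point of the self product over a point and the chosen rational point of its fibre. -/
theorem exists_point_over (f : Y ⟶ X) (y y₀ : Y) (h : f y = f y₀)
    (hs : Function.Surjective (f.residueFieldMap y₀).hom) :
    ∃ z : ↥(pullback f f), pullback.fst f f z = y ∧ pullback.snd f f z = y₀ ∧
      (pullback.fst f f).residueDegree z = 1 ∧
      (pullback.snd f f).residueDegree z = f.residueDegree y := by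
  haveI : IsIso (f.residueFieldMap y₀) :=
    (ConcreteCategory.isIso_iff_bijective _).2 ⟨RingHom.injective _, hs⟩
  let σ : Spec (Y.residueField y) ⟶ Y :=
    Spec.map (inv (f.residueFieldMap y₀) ≫ (X.residueFieldCongr h.symm).hom ≫ f.residueFieldMap y) ≫
      Y.fromSpecResidueField y₀
  have hw : Y.fromSpecResidueField y ≫ f = σ ≫ f := by
    simp only [σ, Spec.map_comp, Category.assoc]
    rw [← Scheme.Hom.SpecMap_residueFieldMap_fromSpecResidueField f y₀,
      ← Category.assoc (Spec.map (inv (f.residueFieldMap y₀))), ← Spec.map_comp, IsIso.hom_inv_id,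
      Spec.map_id, Category.id_comp, Scheme.residueFieldCongr_fromSpecResidueField,
      Scheme.Hom.SpecMap_residueFieldMap_fromSpecResidueField]
  let l := pullback.lift (Y.fromSpecResidueField y) σ hw
  let s : ↥(Spec (Y.residueField y)) := default
  have hl1 : l ≫ pullback.fst f f = Y.fromSpecResidueField y := pullback.lift_fst _ _ _
  have hl2 : l ≫ pullback.snd f f = σ := pullback.lift_snd _ _ _
  have e1 : pullback.fst f f (l s) = y := by
    rw [← Scheme.Hom.comp_apply, hl1, Scheme.fromSpecResidueField_apply]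
  have e2 : pullback.snd f f (l s) = y₀ := by
    rw [← Scheme.Hom.comp_apply, hl2]
    simp only [σ, Scheme.Hom.comp_apply, Scheme.fromSpecResidueField_apply]
  have d1 : (pullback.fst f f).residueDegree (l s) = 1 := by
    have h' := residueDegree_congr _ hl1 s
    rw [residueDegree_comp,
      residueDegree_eq_one (Y.fromSpecResidueField y) s (FibreDim.residueFieldMap_bijective _ _)]
      at h'
    exact Nat.eq_one_of_mul_eq_one_right h'
  refine ⟨l s, e1, e2, d1, ?_⟩
  have h' := residueDegree_congr _ (pullback.condition (f := f) (g := f)) (l s)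
  rw [residueDegree_comp, residueDegree_comp, d1, e1, e2, mul_one,
    residueDegree_of_surjective f y₀ hs, one_mul] at h'
  exact h'.symm

theorem finsum_fibre_swap {ι : Type*} (F : ι → Y → ℤ) (m : Y → ℤ) {T : Set Y} (I : Finset ι)
    (hI : ∀ i, i ∉ I → ∀ y ∈ T, F i y = 0) (hfin : ∀ i, (Function.support (F i) ∩ T).Finite) :
    ∑ᶠ y ∈ T, (∑ᶠ i, F i y) * m y = ∑ i ∈ I, ∑ᶠ y ∈ T, F i y * m y := by
  classical
  let S : Set Y := ⋃ i ∈ I, Function.support (F i) ∩ T
  have hS : S.Finite := I.finite_toSet.biUnion fun i _ => hfin i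
  have hST : S ⊆ T := Set.iUnion₂_subset fun i _ => Set.inter_subset_right
  have key : ∀ G : Y → ℤ, (∀ y ∈ T, G y ≠ 0 → y ∈ S) →
      ∑ᶠ y ∈ T, G y * m y = ∑ y ∈ hS.toFinset, G y * m y := fun G hG => by
    rw [← finsum_mem_eq_finite_toFinset_sum _ hS]
    exact finsum_mem_inter_support_eq' _ _ _ fun y hy =>
      ⟨fun h => hG y h (left_ne_zero_of_mul hy), fun h => hST h⟩
  have hsum : ∀ y ∈ T, ∑ᶠ i, F i y = ∑ i ∈ I, F i y := fun y hy =>
    finsum_eq_sum_of_support_subset _ fun i hi => by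
      by_contra h
      exact hi (hI i h y hy)
  rw [key _ fun y hy h0 => ?_, Finset.sum_congr rfl fun y hy => by
    rw [hsum y (hST (hS.mem_toFinset.1 hy)), Finset.sum_mul], Finset.sum_comm]
  · exact Finset.sum_congr rfl fun i hi => (key _ fun y hy h0 => Set.mem_biUnion hi ⟨h0, hy⟩).symm
  · rw [hsum y hy] at h0
    obtain ⟨i, hi, hne⟩ := Finset.exists_ne_zero_of_sum_ne_zero h0
    exact Set.mem_biUnion hi ⟨hne, hy⟩

set_option maxHeartbeats 1000000 in
theorem exists_ratEquiv_map_sub_map [IsLocallyNoetherian X] [IsLocallyNoetherian Y] (f : Y ⟶ X)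
    [IsProper f] (hcd : Cyc.IsCompletelyDecomposed f) {δY : Y → ℤ} {δ : X → ℤ}
    (hX : Cyc.IsDimFun X δ) (hY : Cyc.IsDimFun Y δY)
    (hδ : Cyc.DeltaCompat f δY δ) {δ2 : ↥(pullback f f) → ℤ}
    (hδ2 : Cyc.DeltaCompat (pullback.fst f f) δ2 δY) (k : ℤ) (β : AlgebraicCycle Y ℤ)
    (hβ : β ∈ Cyc.Zk Y δY k) (h0 : Cyc.RatEquivZero δ k (AlgebraicCycle.map f δY δ β)) :
    ∃ γ : AlgebraicCycle (pullback f f) ℤ, γ ∈ Cyc.Zk (pullback f f) δ2 k ∧
      Cyc.RatEquiv δY k β (AlgebraicCycle.map (pullback.fst f f) δ2 δY γ -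
        AlgebraicCycle.map (pullback.snd f f) δ2 δY γ) := by
  classical
  choose sec hsec hsur using hcd
  obtain ⟨ι, ξ, g, hξ, hg, hlf, hsum⟩ := h0
  let η : ι → Y := fun i => sec (ξ i)
  let g' : ∀ i, Y.residueField (η i) := fun i =>
    f.residueFieldMap (η i) ((X.residueFieldCongr (hsec (ξ i)).symm).hom (g i))
  have hg' : ∀ i, g' i ≠ 0 := fun i => (map_ne_zero _).2 (residueFieldCongr_ne_zero _ (hg i))
  have hη : ∀ i, δY (η i) = k + 1 := fun i => by
    rw [deltaCompat_shift_of_residueDegree f hδ (y := η i)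
      (by rw [residueDegree_of_surjective f _ (hsur (ξ i))]; exact one_ne_zero), hsec, hξ]
  let D : Y → ℤ := fun y => ∑ᶠ i, Cyc.divFun δY (η i) (g' i) y
  have hcpt : ∀ C : Set Y, IsCompact C → ∃ I : Finset ι, ∀ i, i ∉ I →
      ∀ y ∈ C, Cyc.divFun δY (η i) (g' i) y = 0 := by
    intro C hC
    choose U hU hxU hfin using hlf
    obtain ⟨T, hT⟩ := (hC.image f.continuous).elim_finite_subcover U hU
      (fun x _ => Set.mem_iUnion.2 ⟨x, hxU x⟩)
    refine ⟨(T.finite_toSet.biUnion fun x _ => hfin x).toFinset, fun i hi y hy => dif_neg fun hh => hi ?_⟩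
    obtain ⟨x, hx, hyx⟩ := Set.mem_iUnion₂.1 (hT ⟨y, hy, rfl⟩)
    rw [Set.Finite.mem_toFinset]
    refine Set.mem_biUnion hx ⟨f y, ?_, hyx⟩
    rw [← hsec (ξ i)]
    exact specializes_iff_mem_closure.1 (hh.1.map f.continuous)
  have hDsupp : ∀ W : Y.Opens, IsAffineOpen W → (Function.support D ∩ W).Finite := by
    intro W hW
    obtain ⟨I, hI⟩ := hcpt W hW.isCompact
    refine (I.finite_toSet.biUnion fun i _ =>
      finite_support_divFun_inter hY (η i) (g' i) (hg' i) hW).subset fun y hy => ?_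
    obtain ⟨i, hi⟩ : ∃ i, Cyc.divFun δY (η i) (g' i) y ≠ 0 := by
      by_contra hc
      push Not at hc
      exact hy.1 (finsum_eq_zero_of_forall_eq_zero hc)
    exact Set.mem_biUnion (x := i) (by by_contra hiI; exact hi (hI i hiI y hy.2)) ⟨hi, hy.2⟩
  let Dc := cycleOfFiniteAffine D hDsupp
  let β' : AlgebraicCycle Y ℤ := β - Dc
  have hβ' : ∀ y, β' y = β y - D y := fun y => by
    show (β - Dc) y = _
    rw [Function.locallyFinsuppWithin.coe_sub, Pi.sub_apply]
    rfl
  have hDk : ∀ y, δY y ≠ k → D y = 0 := fun y hy => finsum_eq_zero_of_forall_eq_zero fun i =>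
    dif_neg fun hh => hy (by have := hh.2; rw [hη i] at this; omega)
  have hβ'k : ∀ y, δY y ≠ k → β' y = 0 := fun y hy => by rw [hβ', hβ y hy, hDk y hy, sub_zero]
  -- the push-forward of `β'` vanishes
  have hpush : ∀ x, ∑ᶠ y ∈ f ⁻¹' {x}, β' y * ((f.residueDegree y : ℕ) : ℤ) = 0 := by
    intro x
    have hC := f.isCompact_preimage_singleton x
    obtain ⟨I, hI⟩ := hcpt _ hC
    have hfin : ∀ γ : AlgebraicCycle Y ℤ,
        (f ⁻¹' {x} ∩ Function.support fun y => γ y * ((f.residueDegree y : ℕ) : ℤ)).Finite := fun γ =>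
      (γ.locallyFiniteSupport.finite_inter_support_of_isCompact hC).subset
        fun y hy => ⟨hy.1, left_ne_zero_of_mul hy.2⟩
    have hβx := hsum x
    change (∑ᶠ y ∈ f ⁻¹' {x}, β y * ((AlgebraicCycle.mapCoeff f δY δ y : ℕ) : ℤ)) = _ at hβx
    have hDx : ∑ᶠ y ∈ f ⁻¹' {x}, D y * ((f.residueDegree y : ℕ) : ℤ) =
        ∑ᶠ i, Cyc.divFun δ (ξ i) (g i) x := by
      rw [finsum_fibre_swap (fun i y => Cyc.divFun δY (η i) (g' i) y) _ I hI fun i =>
        finite_support_divFun_inter_compact hY (η i) (g' i) (hg' i) hC]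
      have key : ∀ i, ∑ᶠ y ∈ f ⁻¹' {x}, Cyc.divFun δY (η i) (g' i) y * ((f.residueDegree y : ℕ) : ℤ) =
          Cyc.divFun δ (ξ i) (g i) x := fun i => by
        have h := map_divFun f hY hX hδ (η i) (g' i) (hg' i) x
        rw [if_pos (by rw [hη i, hsec, hξ i])] at h
        rw [show Cyc.normGen f (η i) (g' i) = (X.residueFieldCongr (hsec (ξ i)).symm).hom (g i) by
          letI := (f.residueFieldMap (η i)).hom.toAlgebra
          show Algebra.norm _ (algebraMap _ _ _) = _
          rw [Algebra.norm_algebraMap]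
          have h1 : Module.finrank (X.residueField (f (η i))) (Y.residueField (η i)) = 1 :=
            residueDegree_of_surjective f _ (hsur (ξ i))
          rw [h1, pow_one], divFun_congr] at h
        rw [← h]
        exact finsum_mem_congr rfl fun y _ => by rw [mapCoeff_eq f hδ]
      rw [Finset.sum_congr rfl fun i _ => key i]
      refine (finsum_eq_sum_of_support_subset _ fun i hi => ?_).symm
      by_contra hiI
      exact hi ((key i).symm.trans (finsum_mem_of_eqOn_zero fun y hy => by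
        rw [hI i hiI y hy, zero_mul]; rfl))
    rw [← hDx] at hβx
    have h1 : ∀ y, β' y * ((f.residueDegree y : ℕ) : ℤ) =
        β y * ((f.residueDegree y : ℕ) : ℤ) + (-(D y * ((f.residueDegree y : ℕ) : ℤ))) := fun y => by
      rw [hβ']; ring
    have hD' : (f ⁻¹' {x} ∩ Function.support
        fun y => -(D y * ((f.residueDegree y : ℕ) : ℤ))).Finite :=
      (hfin Dc).subset fun y hy => ⟨hy.1, neg_ne_zero.1 hy.2⟩
    rw [finsum_mem_congr rfl fun y _ => h1 y, finsum_mem_add_distrib' (hfin β) hD',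
      show ∑ᶠ y ∈ f ⁻¹' {x}, -(D y * ((f.residueDegree y : ℕ) : ℤ)) =
        -∑ᶠ y ∈ f ⁻¹' {x}, D y * ((f.residueDegree y : ℕ) : ℤ) by
        rw [finsum_mem_def, finsum_mem_def, ← finsum_neg_distrib]
        exact finsum_congr fun y => by by_cases hy : y ∈ f ⁻¹' {x} <;> simp [hy],
      show ∑ᶠ y ∈ f ⁻¹' {x}, β y * ((f.residueDegree y : ℕ) : ℤ) =
        ∑ᶠ y ∈ f ⁻¹' {x}, D y * ((f.residueDegree y : ℕ) : ℤ) from
        (finsum_mem_congr rfl fun y _ => by rw [mapCoeff_eq f hδ]).trans hβx, add_neg_cancel]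
  -- the cycle on the product
  choose τ hτ1 hτ2 hτd1 hτd2 using fun y : Y =>
    exists_point_over f y (sec (f y)) (hsec (f y)).symm (hsur (f y))
  let q₁ := pullback.fst f f
  let q₂ := pullback.snd f f
  let G : ↥(pullback f f) → ℤ := fun z => if τ (q₁ z) = z then β' (q₁ z) else 0
  have hG : ∀ z, G z ≠ 0 → β' (q₁ z) ≠ 0 ∧ z = τ (q₁ z) := fun z hz => by
    by_cases h : τ (q₁ z) = z
    · exact ⟨by simpa [G, h] using hz, h.symm⟩
    · exact absurd (if_neg h) hz
  have hGτ : ∀ y, G (τ y) = β' y := fun y => by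
    show (if τ (q₁ (τ y)) = τ y then β' (q₁ (τ y)) else 0) = β' y
    rw [show q₁ (τ y) = y from hτ1 y, if_pos rfl]
  have hδτ : ∀ y, δ2 (τ y) = δY y := fun y => by
    have h := deltaCompat_shift_of_residueDegree q₁ hδ2 (y := τ y)
      (by rw [hτd1]; exact one_ne_zero)
    rwa [show q₁ (τ y) = y from hτ1 y] at h
  let γ := cycleOfFiniteAffine G (finite_support_section q₁ τ β' G hG)
  refine ⟨γ, fun z hz => ?_, ?_⟩
  · by_contra h
    obtain ⟨h1, h2⟩ := hG z h
    refine h1 (hβ'k _ fun e => hz ?_)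
    rw [h2, hδτ, e]
  have hfst : AlgebraicCycle.map q₁ δ2 δY γ = β' := by
    refine DFunLike.ext _ _ fun y => ?_
    show (∑ᶠ z ∈ q₁ ⁻¹' {y}, G z * ((AlgebraicCycle.mapCoeff q₁ δ2 δY z : ℕ) : ℤ)) = β' y
    rw [finsum_mem_inter_support_eq' _ (q₁ ⁻¹' {y}) {τ y} ?_, finsum_mem_singleton,
      mapCoeff_eq q₁ hδ2, hτd1, hGτ]
    · simp
    · intro z hz
      rw [Function.mem_support] at hz
      obtain ⟨-, h2⟩ := hG z (left_ne_zero_of_mul hz)
      exact ⟨fun h => h2.trans (congrArg τ h), fun h => by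
        rw [Set.mem_preimage, show z = τ y from h, show q₁ (τ y) = y from hτ1 y]; rfl⟩
  have hsnd : AlgebraicCycle.map q₂ δ2 δY γ = 0 := by
    refine DFunLike.ext _ _ fun y₁ => ?_
    show (∑ᶠ z ∈ q₂ ⁻¹' {y₁}, G z * ((AlgebraicCycle.mapCoeff q₂ δ2 δY z : ℕ) : ℤ)) = 0
    by_cases hy₁ : sec (f y₁) = y₁
    swap
    · refine finsum_mem_of_eqOn_zero fun z hz => ?_
      by_contra hne
      obtain ⟨-, h2⟩ := hG z (left_ne_zero_of_mul hne)
      have h3 : sec (f (q₁ z)) = y₁ := by
        rw [← hτ2 (q₁ z), ← h2]; exact hz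
      exact hy₁ (by rw [← h3, hsec])
    rw [← hpush (f y₁), finsum_mem_inter_support_eq' _ (q₂ ⁻¹' {y₁}) (τ '' (f ⁻¹' {f y₁})) ?_,
      finsum_mem_image (fun a _ b _ e => (hτ1 a).symm.trans ((congrArg q₁ e).trans (hτ1 b)))]
    · refine finsum_mem_congr rfl fun y hy => ?_
      rw [hGτ]
      by_cases hb : β' y = 0
      · rw [hb, zero_mul, zero_mul]
      congr 2
      rw [AlgebraicCycle.mapCoeff, hτd2]
      split_ifs with hw
      · rfl
      · by_contra hd
        refine hw ?_
        rw [hδτ, deltaCompat_shift_of_residueDegree f hδ (fun e => hd e.symm)]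
        show δ (f y) = δY (q₂ (τ y))
        rw [show q₂ (τ y) = sec (f y) from hτ2 y, deltaCompat_shift_of_residueDegree f hδ
          (by rw [residueDegree_of_surjective f _ (hsur (f y))]; exact one_ne_zero), hsec]
    · intro z hz
      rw [Function.mem_support] at hz
      obtain ⟨-, h2⟩ := hG z (left_ne_zero_of_mul hz)
      constructor
      · intro h
        refine ⟨q₁ z, ?_, h2.symm⟩
        show f (q₁ z) = f y₁
        rw [← show q₂ z = y₁ from h, ← Scheme.Hom.comp_apply, ← Scheme.Hom.comp_apply,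
          pullback.condition]
      · rintro ⟨y, hy, rfl⟩
        show q₂ (τ y) = y₁
        rw [show q₂ (τ y) = sec (f y) from hτ2 y, show f y = f y₁ from hy, hy₁]
  refine ⟨ι, η, g', hη, hg', fun y => ?_, fun y => ?_⟩
  · obtain ⟨U, hU, hyU, hUfin⟩ := hlf (f y)
    refine ⟨f ⁻¹' U, hU.preimage f.continuous, hyU, hUfin.subset fun i ⟨w, hw, hwU⟩ => ?_⟩
    refine ⟨f w, ?_, hwU⟩
    rw [← hsec (ξ i), ← Set.image_singleton]
    exact image_closure_subset_closure_image f.continuous ⟨w, hw, rfl⟩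
  · rw [hfst, hsnd, sub_zero, Function.locallyFinsuppWithin.coe_sub, Pi.sub_apply, hβ']
    show β y - (β y - D y) = D y
    ring

end Groth.L22.Cyc
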