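import Groth.Agent.L22.Cyc.RelDim
import Groth.Agent.L18.UnivCatenary
import Groth.Agent.L18.CatenarySpace
import Groth.Agent.S9684

/-!
Schemes locally of finite type over a base with a dimension function inherit one.
-/

set_option autoImplicit false
set_option linter.style.haveILetI false
set_option backward.isDefEq.respectTransparency false

universe u

open CategoryTheory CategoryTheory.Limits AlgebraicGeometry

namespace Groth.L22.Cyc

theorem exists_rtrdeg {X Y : Scheme.{u}} (f : X ⟶ Y) [LocallyOfFiniteType f] (x : X) :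
    ∃ n : ℕ, rtrdeg f x = (n : Cardinal.{u}) := by
  obtain ⟨y, z, rfl⟩ : ∃ (y : Y) (z : f.fiber y), f.fiberι y z = x :=
    ⟨f x, f.asFiber x, f.fiberι_asFiber x⟩
  letI : (f.fiber y).Over (Spec (CommRingCat.of (Y.residueField y))) :=
    ⟨f.fiberToSpecResidueField y⟩
  haveI : LocallyOfFiniteType ((f.fiber y) ↘ Spec (CommRingCat.of (Y.residueField y))) :=
    MorphismProperty.pullback_snd f (Y.fromSpecResidueField y) inferInstance
  obtain ⟨n, -, htr⟩ := SchemeDim.exists_dim_closure_eq_trdeg (Y.residueField y) (f.fiber y) z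
  exact ⟨n, (rtrdeg_fiberι f y z).trans htr⟩

/-- The induced dimension function. -/
theorem exists_setup {X Y : Scheme.{u}} (f : X ⟶ Y) [LocallyOfFiniteType f] {δ : Y → ℤ}
    (hY : Cyc.IsSetup Y δ) : ∃ δX : X → ℤ, Cyc.IsSetup X δX ∧ Cyc.DeltaCompat f δX δ := by
  haveI := hY.1
  haveI : IsLocallyNoetherian X := LocallyOfFiniteType.isLocallyNoetherian f
  choose n hn using exists_rtrdeg f
  have hc : Cyc.DeltaCompat f (fun x => δ (f x) + (n x : ℤ)) δ := fun x => ⟨n x, hn x, rfl⟩
  refine ⟨fun x => δ (f x) + (n x : ℤ), ⟨inferInstance, fun x => ?_, Groth.Agent.S9684.result f δ hY _ hc⟩, hc⟩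
  refine Groth.L18.Cat.isUniversallyCatenary_stalk (fun Z g hg => ?_) x
  haveI := hg
  exact Groth.L18.Cat.isCatenarySpace_of_stalks (g ≫ f) hY.2.1

end Groth.L22.Cyc
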