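import Groth.Agent.L22.Cyc.Mult
import Mathlib.AlgebraicGeometry.AffineTransitionLimit
import Mathlib.AlgebraicGeometry.Noetherian

/-!
Cycles on a limit of schemes with affine transition maps come from a finite stage.
-/

universe u

open AlgebraicGeometry CategoryTheory Limits TopologicalSpace

namespace Groth.L22.Cyc

variable {J : Type u} [Category.{u} J] [IsCofiltered J] {D : J ⥤ Scheme.{u}} {c : Cone D}

theorem finite_support {X : Scheme.{u}} [CompactSpace X] (α : AlgebraicCycle X ℤ) :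
    {x | α x ≠ 0}.Finite := by
  have := LocallyFiniteSupport.finite_inter_support_of_isCompact
    (Function.locallyFinsupp.locallyFiniteSupport α) isCompact_univ
  simpa [Function.support] using this

omit [IsCofiltered J] in
theorem exists_forall_hom [IsCofiltered J] {ι : Type*} {i : J} {P : ∀ j, (j ⟶ i) → ι → Prop}
    (hP : ∀ {j k} (g : k ⟶ j) (f : j ⟶ i) (s : ι), P j f s → P k (g ≫ f) s) (S : Finset ι)
    (h : ∀ s ∈ S, ∃ j f, P j f s) : ∃ j f, ∀ s ∈ S, P j f s := by
  classical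
  induction S using Finset.induction_on with
  | empty => exact ⟨i, 𝟙 i, by simp⟩
  | insert a S _ ih =>
    obtain ⟨j₁, f₁, h₁⟩ := h a (Finset.mem_insert_self _ _)
    obtain ⟨j₂, f₂, h₂⟩ := ih fun s hs => h s (Finset.mem_insert_of_mem hs)
    obtain ⟨k, g₁, g₂, e⟩ := IsCofiltered.cospan f₁ f₂
    refine ⟨k, g₁ ≫ f₁, fun s hs => ?_⟩
    rcases Finset.mem_insert.1 hs with rfl | hs
    · exact hP g₁ f₁ _ h₁
    · rw [e]; exact hP g₂ f₂ _ (h₂ s hs)

theorem exists_forall_obj {ι : Type*} {P : J → ι → Prop}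
    (hP : ∀ {j k} (_ : k ⟶ j) (s : ι), P j s → P k s) (S : Finset ι)
    (h : ∀ s ∈ S, ∃ j, P j s) : ∃ j, ∀ s ∈ S, P j s := by
  classical
  induction S using Finset.induction_on with
  | empty =>
    obtain ⟨j⟩ := IsCofiltered.nonempty (C := J)
    exact ⟨j, by simp⟩
  | insert a S _ ih =>
    obtain ⟨j₁, h₁⟩ := h a (Finset.mem_insert_self _ _)
    obtain ⟨j₂, h₂⟩ := ih fun s hs => h s (Finset.mem_insert_of_mem hs)
    refine ⟨IsCofiltered.min j₁ j₂, fun s hs => ?_⟩
    rcases Finset.mem_insert.1 hs with rfl | hs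
    · exact hP (IsCofiltered.minToLeft j₁ j₂) _ h₁
    · exact hP (IsCofiltered.minToRight j₁ j₂) _ (h₂ s hs)

variable (hc : IsLimit c) [∀ {i j : J} (f : i ⟶ j), IsAffineHom (D.map f)]
  [∀ i, CompactSpace (D.obj i)]

include hc in
/-- A point outside the image of a flat projection is outside the image of a finite stage. -/
theorem exists_notMem_range {i : J} [Flat (c.π.app i)] {s : D.obj i}
    (h : s ∉ Set.range (c.π.app i)) : ∃ (j : J) (f : j ⟶ i), s ∉ Set.range (D.map f) := by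
  by_contra! H
  obtain ⟨z, hz⟩ := exists_mem_of_isClosed_of_nonempty' D c hc
    (fun j f => D.map f ⁻¹' closure {s})
    (fun j f => isClosed_closure.preimage (D.map f).continuous)
    (fun j f => by
      obtain ⟨w, hw⟩ := H j f
      exact ⟨w, (show D.map f w ∈ closure {s} from hw ▸ subset_closure (Set.mem_singleton _))⟩)
    (fun j f => (isClosed_closure.preimage (D.map f).continuous).isCompact)
    (fun j k g f x hx => by simpa [Functor.map_comp] using hx)
  obtain ⟨z', -, hz'⟩ := Flat.generalizingMap (c.π.app i)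
    (specializes_iff_mem_closure.2 (by simpa using hz i (𝟙 i)))
  exact h ⟨z', hz'⟩

/-- The projection of a cone, with source `c.pt`. -/
abbrev proj (c : Cone D) (i : J) : c.pt ⟶ D.obj i := c.π.app i

theorem fibIdeal_congr {X Y : Scheme.{u}} (f : X ⟶ Y) {f' : X ⟶ Y} (h : f = f') (x : X) :
    fibIdeal f x = fibIdeal f' x := by subst h; rfl

theorem fibIdeal_comp_le {X Y Z : Scheme.{u}} (f : X ⟶ Y) (g : Y ⟶ Z) (x : X) :
    fibIdeal (f ≫ g) x ≤ fibIdeal f x := by
  rw [fibIdeal_comp]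
  exact Ideal.map_mono (fibIdeal_le g (f x))

omit [IsCofiltered J] [∀ {i j : J} (f : i ⟶ j), IsAffineHom (D.map f)]
  [∀ i, CompactSpace (D.obj i)] in
theorem fibIdeal_π_le {i j : J} (f : j ⟶ i) (x : c.pt) :
    fibIdeal (proj c i) x ≤ fibIdeal (proj c j) x :=
  (fibIdeal_congr _ (c.w f).symm x).trans_le (fibIdeal_comp_le (proj c j) (D.map f) x)

/-- Stage `i` sees the point `x` of the limit: the fibre of the projection through `x` lies in
the closure of `x` and is reduced at `x`. -/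
def Good (c : Cone D) (i : J) (x : c.pt) : Prop :=
  IsLocalRing.maximalIdeal (c.pt.presheaf.stalk x) ≤ fibIdeal (proj c i) x ∧
    ∀ y, proj c i y = proj c i x → x ⤳ y

omit [IsCofiltered J] [∀ {i j : J} (f : i ⟶ j), IsAffineHom (D.map f)]
  [∀ i, CompactSpace (D.obj i)] in
theorem Good.mono {i j : J} (f : j ⟶ i) {x : c.pt} (h : Good c i x) : Good c j x := by
  refine ⟨h.1.trans (fibIdeal_π_le f x), fun y hy => h.2 y ?_⟩
  rw [← show proj c _ ≫ D.map f = proj c _ from c.w f, Scheme.Hom.comp_apply, Scheme.Hom.comp_apply, hy]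

omit [∀ i, CompactSpace (D.obj i)] in
include hc in
set_option backward.isDefEq.respectTransparency false in
theorem exists_appLE_eq {i : J} {W : (D.obj i).Opens} (hW : IsAffineOpen W)
    (r : Γ(c.pt, proj c i ⁻¹ᵁ W)) :
    ∃ (j : J) (f : j ⟶ i) (h : proj c i ⁻¹ᵁ W ≤ proj c j ⁻¹ᵁ D.map f ⁻¹ᵁ W)
      (s : Γ(D.obj j, D.map f ⁻¹ᵁ W)), r = (proj c j).appLE _ _ h s := by
  have (j : _) : IsAffine ((opensDiagram D i W).op.obj j).unop := hW.preimage _
  have (j : _) : IsAffine ((opensDiagram D i W).obj j) := hW.preimage _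
  obtain ⟨⟨j⟩, s, hs⟩ := (Types.jointly_surjective_of_isColimit (isColimitOfPreserves
    (Scheme.Γ ⋙ forget _) (isLimitOpensCone D c hc i W).op) ((proj c i ⁻¹ᵁ W).topIso.inv r))
  obtain ⟨s, rfl⟩ := (D.map j.hom ⁻¹ᵁ W).topIso.symm.commRingCatIsoToRingEquiv.surjective s
  have h : proj c j.left ⁻¹ᵁ D.map j.hom ⁻¹ᵁ W = proj c i ⁻¹ᵁ W := congr($(c.w j.hom) ⁻¹ᵁ W)
  refine ⟨j.left, j.hom, h.ge, s, ?_⟩
  convert!
    show r = ((Scheme.Opens.topIso _).inv ≫ ((opensCone D c i W).π.app j).appTop ≫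
        (Scheme.Opens.topIso _).hom) s from
      (proj c i ⁻¹ᵁ W).topIso.commRingCatIsoToRingEquiv.symm_apply_eq.mp hs.symm using 3
  simp [Scheme.Hom.app_eq_appLE, Scheme.Hom.resLE_appLE]

include hc in
theorem exists_good [IsLocallyNoetherian c.pt] (x : c.pt) : ∃ i, Good c i x := by
  haveI : CompactSpace c.pt := Scheme.compactSpace_of_isLimit _ _ hc
  haveI : IsNoetherian c.pt := {}
  obtain ⟨i, V, -, hV⟩ := exists_preimage_eq D c hc
    (⟨(closure {x})ᶜ, isClosed_closure.isOpen_compl⟩ : c.pt.Opens)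
    (NoetherianSpace.isCompact _)
  have hA : ∀ y, proj c i y = proj c i x → x ⤳ y := fun y hy => by
    by_contra hxy
    have h1 : y ∈ proj c i ⁻¹ᵁ V := by
      rw [hV]; exact fun h => hxy (specializes_iff_mem_closure.2 h)
    have h2 : x ∈ proj c i ⁻¹ᵁ V := by
      change proj c i x ∈ V
      rw [← hy]; exact h1
    rw [hV] at h2
    exact h2 (subset_closure rfl)
  obtain ⟨_, ⟨W, hW, rfl⟩, hxW, -⟩ := (D.obj i).isBasis_affineOpens.exists_subset_of_mem_open
    (Set.mem_univ (proj c i x)) isOpen_univ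
  change (D.obj i).Opens at W
  haveI : IsAffineHom (proj c i) := isAffineHom_π_app D c hc i
  have hU : IsAffineOpen (proj c i ⁻¹ᵁ W) := hW.preimage _
  haveI : IsNoetherianRing Γ(c.pt, proj c i ⁻¹ᵁ W) :=
    IsLocallyNoetherian.component_noetherian ⟨_, hU⟩
  have hxU : x ∈ proj c i ⁻¹ᵁ W := hxW
  let := TopCat.Presheaf.algebra_section_stalk c.pt.presheaf ⟨x, hxU⟩
  haveI := hU.isLocalization_stalk ⟨x, hxU⟩
  let p : Ideal Γ(c.pt, proj c i ⁻¹ᵁ W) := (hU.primeIdealOf ⟨x, hxU⟩).asIdeal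
  obtain ⟨G, hG⟩ := (inferInstance : IsNoetherianRing Γ(c.pt, proj c i ⁻¹ᵁ W)).noetherian p
  have hmax : IsLocalRing.maximalIdeal (c.pt.presheaf.stalk x) =
      p.map (algebraMap _ (c.pt.presheaf.stalk x)) :=
    (IsLocalization.AtPrime.map_eq_maximalIdeal p (c.pt.presheaf.stalk x)).symm
  obtain ⟨j, f, hj⟩ := exists_forall_hom (i := i)
    (P := fun j _ g => algebraMap _ (c.pt.presheaf.stalk x) g ∈ fibIdeal (proj c j) x)
    (fun g _ _ h => fibIdeal_π_le g x h) G (fun g hg => by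
      obtain ⟨j, f, hle, b, rfl⟩ := exists_appLE_eq hc hW g
      refine ⟨j, f, ?_⟩
      have hmem : algebraMap _ (c.pt.presheaf.stalk x)
          ((proj c j).appLE _ _ hle b) ∈ IsLocalRing.maximalIdeal (c.pt.presheaf.stalk x) := by
        rw [hmax]
        exact Ideal.mem_map_of_mem _ (hG ▸ Submodule.subset_span hg)
      have heq : algebraMap _ (c.pt.presheaf.stalk x) ((proj c j).appLE _ _ hle b) =
          ((proj c j).stalkMap x).hom ((D.obj j).presheaf.germ _ _ (hle hxU) b) := by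
        show c.pt.presheaf.germ _ x hxU _ = _
        rw [Scheme.Hom.germ_stalkMap_apply, Scheme.Hom.appLE, CommRingCat.comp_apply,
          TopCat.Presheaf.germ_res_apply]
      rw [heq] at hmem ⊢
      refine Ideal.mem_map_of_mem _ ?_
      rw [IsLocalRing.mem_maximalIdeal, mem_nonunits_iff] at hmem ⊢
      exact fun hu => hmem (hu.map _))
  refine ⟨j, ?_, fun y hy => hA y ?_⟩
  · rw [hmax, ← hG]
    exact (Ideal.map_span _ _).trans_le (Ideal.span_le.2 (by rintro _ ⟨g, hg, rfl⟩; exact hj g hg))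
  · rw [← show proj c _ ≫ D.map f = proj c _ from c.w f, Scheme.Hom.comp_apply, Scheme.Hom.comp_apply, hy]

omit [IsCofiltered J] [∀ {i j : J} (f : i ⟶ j), IsAffineHom (D.map f)]
  [∀ i, CompactSpace (D.obj i)] in
theorem Good.fibGen {i : J} {x : c.pt} (h : Good c i x) : FibGen (proj c i) x :=
  fun y hy hyx => (hyx.antisymm (h.2 y hy)).eq

omit [IsCofiltered J] [∀ {i j : J} (f : i ⟶ j), IsAffineHom (D.map f)]
  [∀ i, CompactSpace (D.obj i)] in
theorem Good.mult_eq_one {i : J} {x : c.pt} (h : Good c i x) : mult (proj c i) x = 1 := by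
  haveI : IsSimpleModule (c.pt.presheaf.stalk x)
      (c.pt.presheaf.stalk x ⧸ fibIdeal (proj c i) x) :=
    isSimpleModule_iff_isCoatom.2 ((le_antisymm h.1 (fibIdeal_le _ _)) ▸
      Ideal.isMaximal_def.1 (IsLocalRing.maximalIdeal.isMaximal _))
  exact Module.length_eq_one _ _

end Groth.L22.Cyc
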