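import Groth.Agent.L22.Cyc.OrdGen
import Groth.Agent.L22.QuotLength
import Mathlib.Data.ENat.BigOperators
import Groth.Agent.L22.Cyc.FiniteDeg

/-!
Flat pullback of principal divisors.
-/

universe u

open AlgebraicGeometry CategoryTheory
open scoped TensorProduct

namespace Groth.L22.Cyc

open Groth.L22.QuotLength (supp' locLen term)

section Algebra

variable {A B : Type u} [CommRing A] [CommRing B] [Algebra A B]

theorem length_quot_range_lsmul (I : Ideal A) (a : A) :
    Module.length A ((A ⧸ I) ⧸ LinearMap.range (LinearMap.lsmul A (A ⧸ I) a)) =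
      Module.length A (A ⧸ (I ⊔ Ideal.span {a})) := by
  let f : A →ₗ[A] (A ⧸ I) ⧸ LinearMap.range (LinearMap.lsmul A (A ⧸ I) a) :=
    (Submodule.mkQ _).comp (Algebra.linearMap A (A ⧸ I))
  have hf : Function.Surjective f :=
    (Submodule.mkQ_surjective _).comp Ideal.Quotient.mk_surjective
  have hk : LinearMap.ker f = I ⊔ Ideal.span {a} := by
    apply le_antisymm
    · intro r hr
      rw [LinearMap.mem_ker] at hr
      obtain ⟨w, hw⟩ := (Submodule.Quotient.mk_eq_zero _).1 hr
      obtain ⟨w, rfl⟩ := Ideal.Quotient.mk_surjective w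
      have h1 : r - a * w ∈ I := Ideal.Quotient.eq.1 (show Ideal.Quotient.mk I r = Ideal.Quotient.mk I (a * w) from hw.symm.trans (by rw [LinearMap.lsmul_apply, Algebra.smul_def, map_mul]; rfl))
      have := Submodule.add_mem_sup (S := I) h1
        (Ideal.mul_mem_right w _ (Ideal.mem_span_singleton_self a))
      rwa [sub_add_cancel] at this
    · refine sup_le (fun r hr => ?_) ((Ideal.span_singleton_le_iff_mem _).2 ?_)
      · rw [LinearMap.mem_ker]
        show Submodule.Quotient.mk (Ideal.Quotient.mk I r) = 0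
        rw [Ideal.Quotient.eq_zero_iff_mem.2 hr]
        exact Submodule.Quotient.mk_zero _
      · rw [LinearMap.mem_ker]
        refine (Submodule.Quotient.mk_eq_zero _).2 ⟨1, ?_⟩
        show a • (1 : A ⧸ I) = Ideal.Quotient.mk I a
        rw [Algebra.smul_def, mul_one]
        rfl
  rw [← (f.quotKerEquivOfSurjective hf).length_eq, (Submodule.quotEquivOfEq _ _ hk).length_eq]

theorem ord_quotient_eq_length (I : Ideal A) (a : A) :
    Ring.ord (A ⧸ I) (Ideal.Quotient.mk I a) = Module.length A (A ⧸ (I ⊔ Ideal.span {a})) := by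
  rw [← length_quot_range_lsmul, Ring.ord]
  have h : LinearMap.range (LinearMap.lsmul A (A ⧸ I) a) =
      (Ideal.span {Ideal.Quotient.mk I a}).restrictScalars A := by
    ext z
    rw [LinearMap.mem_range, Submodule.restrictScalars_mem, Ideal.mem_span_singleton']
    constructor
    · rintro ⟨w, rfl⟩
      exact ⟨w, by rw [LinearMap.lsmul_apply, Algebra.smul_def, mul_comm]; rfl⟩
    · rintro ⟨w, rfl⟩
      exact ⟨w, by rw [LinearMap.lsmul_apply, Algebra.smul_def, mul_comm]; rfl⟩
  rw [(Submodule.quotEquivOfEq _ _ h).length_eq, (Submodule.Quotient.restrictScalarsEquiv A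
    (Ideal.span {Ideal.Quotient.mk I a})).length_eq]
  exact (Module.length_eq_of_surjective (R := A ⧸ I) (S := A) Ideal.Quotient.mk_surjective).symm

theorem smul_injective_quotient_map [Module.Flat A B] (P : Ideal A) (a : A)
    (ha : Function.Injective (LinearMap.lsmul A (A ⧸ P) a)) :
    Function.Injective (LinearMap.lsmul B (B ⧸ P.map (algebraMap A B)) (algebraMap A B a)) := by
  let e : (B ⧸ P.map (algebraMap A B)) ≃ₗ[B] B ⊗[A] (A ⧸ P) :=
    (Algebra.TensorProduct.quotIdealMapEquivTensorQuot B P).toLinearEquiv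
  have h1 : Function.Injective ((LinearMap.lsmul A (A ⧸ P) a).lTensor B) :=
    Module.Flat.lTensor_preserves_injective_linearMap _ ha
  have h2 : ∀ z : B ⊗[A] (A ⧸ P),
      (LinearMap.lsmul A (A ⧸ P) a).lTensor B z = algebraMap A B a • z := fun z => by
    rw [algebraMap_smul]
    induction z with
    | zero => simp
    | tmul b m => simp
    | add u v hu hv => rw [map_add, hu, hv, smul_add]
  intro u v huv
  refine e.injective (h1 ?_)
  rw [h2, h2, ← map_smul e, ← map_smul e]
  exact congrArg e huv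

theorem locLen_quotient_map (I : Ideal B) (Q : PrimeSpectrum B) (T : Type u) [CommRing T]
    [Algebra B T] [IsLocalization.AtPrime T Q.asIdeal] :
    locLen (B ⧸ I) Q = Module.length T (T ⧸ I.map (algebraMap B T)) := by
  let L := Localization.AtPrime Q.asIdeal
  let φ : L →ₗ[L] LocalizedModule Q.asIdeal.primeCompl (B ⧸ I) :=
    LinearMap.toSpanSingleton _ _ (LocalizedModule.mk (S := Q.asIdeal.primeCompl) (1 : B ⧸ I) 1)
  have hval : ∀ (r : B) (s : Q.asIdeal.primeCompl),
      φ (Localization.mk r s) = LocalizedModule.mk (Ideal.Quotient.mk I r) s := fun r s => by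
    simp only [φ, LinearMap.toSpanSingleton_apply]
    rw [LocalizedModule.mk_smul_mk, mul_one]
    congr 1
    rw [Algebra.smul_def, mul_one]
    rfl
  have hsurj : Function.Surjective φ := fun z => by
    induction z using LocalizedModule.induction_on with
    | _ m s =>
      obtain ⟨r, rfl⟩ := Ideal.Quotient.mk_surjective m
      exact ⟨_, hval r s⟩
  have hker : LinearMap.ker φ = I.map (algebraMap B L) := by
    ext z
    induction z using Localization.induction_on with
    | _ w =>
      obtain ⟨r, s⟩ := w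
      rw [LinearMap.mem_ker, hval, Localization.mk_eq_mk',
        IsLocalization.mk'_mem_map_algebraMap_iff,
        ← LocalizedModule.zero_mk s, LocalizedModule.mk_eq]
      constructor
      · rintro ⟨u, hu⟩
        refine ⟨u * s, mul_mem u.2 s.2, Ideal.Quotient.eq_zero_iff_mem.1 ?_⟩
        simp only [Submonoid.smul_def, smul_zero, smul_smul] at hu
        rw [map_mul, map_mul]
        simpa [Algebra.smul_def, mul_assoc, mul_comm, mul_left_comm] using hu
      · rintro ⟨u, hu, hur⟩
        refine ⟨⟨u, hu⟩, ?_⟩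
        have : u • (Ideal.Quotient.mk I r) = 0 := Ideal.Quotient.eq_zero_iff_mem.2 hur
        simp only [Submonoid.smul_def, smul_zero, smul_comm (u : B) (s : B), this]
  rw [locLen, ← (φ.quotKerEquivOfSurjective hsurj).length_eq,
    (Submodule.quotEquivOfEq _ _ hker).length_eq]
  let e : L ≃ₐ[B] T := IsLocalization.algEquiv Q.asIdeal.primeCompl _ _
  let e' : (L ⧸ I.map (algebraMap B L)) ≃+* (T ⧸ I.map (algebraMap B T)) :=
    Ideal.quotientEquiv _ _ e.toRingEquiv (by
      rw [Ideal.map_map]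
      congr 1
      exact RingHom.ext fun b => (e.commutes b).symm)
  rw [Module.length_eq_of_surjective (R := L ⧸ I.map (algebraMap B L)) (S := L)
      Ideal.Quotient.mk_surjective,
    Module.length_eq_of_surjective (R := T ⧸ I.map (algebraMap B T)) (S := T)
      Ideal.Quotient.mk_surjective]
  exact Groth.L22.Cyc.length_self_of_ringEquiv e'

omit [Algebra A B] in
theorem ord_congr {J J' : Ideal B} (h : J = J') (b : B) :
    Ring.ord (B ⧸ J) (Ideal.Quotient.mk J b) = Ring.ord (B ⧸ J') (Ideal.Quotient.mk J' b) := by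
  subst h; rfl

end Algebra

section Geometry

variable {X X' : Scheme.{u}} (p : X' ⟶ X)

theorem residueFieldCongr_specMap {x ξ ξ' : X} (e : ξ = ξ') (h : ξ ⤳ x) (h' : ξ' ⤳ x)
    (a : X.presheaf.stalk x) :
    (X.residueFieldCongr e).hom (Cyc.specMap x ξ h a) = Cyc.specMap x ξ' h' a := by
  subst e
  simp

theorem residueFieldMap_congr_specMap {x' t : X'} {ξ : X} (ht : t ⤳ x') (e : p t = ξ)
    (hξ : ξ ⤳ p x') (a : X.presheaf.stalk (p x')) :
    p.residueFieldMap t ((X.residueFieldCongr e.symm).hom (Cyc.specMap (p x') ξ hξ a)) =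
      Cyc.specMap x' t ht ((p.stalkMap x').hom a) := by
  rw [residueFieldCongr_specMap e.symm hξ (ht.map p.continuous) a]
  exact residueFieldMap_specMap p ht (ht.map p.continuous) a

/-- The shift bounds the dimension function everywhere. -/
theorem le_shift [IsLocallyNoetherian X'] {δ : X → ℤ} {δ' : X' → ℤ} (hδ' : Cyc.IsDimFun X' δ') {c : ℤ}
    (hc : ∀ x, FibGen p x → δ' x = δ (p x) + c) (x' : X') : δ' x' ≤ δ (p x') + c := by
  obtain ⟨y, hy, hyx, hg⟩ := exists_fibGen p x'
  have h := hc y hg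
  rw [hy] at h
  by_cases he : y = x'
  · rw [← he]; exact (le_of_eq h).trans (by rw [he])
  · have := (hδ' y x' hyx he).1
    omega

theorem fibGen_of_eq_shift [IsLocallyNoetherian X'] {δ : X → ℤ} {δ' : X' → ℤ} (hδ' : Cyc.IsDimFun X' δ') {c : ℤ}
    (hc : ∀ x, FibGen p x → δ' x = δ (p x) + c) {x' : X'} (h : δ' x' = δ (p x') + c) :
    FibGen p x' := fun y hy hyx => by
  by_contra hne
  have h1 := (hδ' y x' hyx hne).1
  have h2 := le_shift p hδ' hc y
  rw [hy] at h2
  omega

theorem locLen_eq_mult {x' t : X'} {ξ : X} (ht : t ⤳ x') (e : p t = ξ) (hξ : ξ ⤳ p x')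
    (Q : PrimeSpectrum (X'.presheaf.stalk x'))
    (hQ : Q.asIdeal = RingHom.ker (Cyc.specMap x' t ht)) :
    locLen (X'.presheaf.stalk x' ⧸
      (RingHom.ker (Cyc.specMap (p x') ξ hξ)).map (p.stalkMap x').hom) Q = mult p t := by
  subst e
  obtain ⟨Q, hQp⟩ := Q
  dsimp only at hQ
  subst hQ
  letI := (X'.presheaf.stalkSpecializes ht).hom.toAlgebra
  haveI : IsLocalization.AtPrime (X'.presheaf.stalk t)
      (PrimeSpectrum.asIdeal ⟨RingHom.ker (Cyc.specMap x' t ht), hQp⟩) :=
    isLocalization_stalkSpecializes ht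
  rw [locLen_quotient_map _ _ (X'.presheaf.stalk t), mult]
  have key : ((RingHom.ker (Cyc.specMap (p x') (p t) hξ)).map (p.stalkMap x').hom).map
      (algebraMap (X'.presheaf.stalk x') (X'.presheaf.stalk t)) = fibIdeal p t := by
    rw [fibIdeal, ← map_ker_specMap hξ, Ideal.map_map, Ideal.map_map]
    congr 1
    exact (congrArg CommRingCat.Hom.hom (p.stalkSpecializes_stalkMap t x' ht)).symm
  rw [key]

/-- The prime of a generalization in the local ring. -/
noncomputable def primeOf {x t : X} (h : t ⤳ x) : PrimeSpectrum (X.presheaf.stalk x) :=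
  ⟨RingHom.ker (Cyc.specMap x t h), RingHom.ker_isPrime _⟩

theorem fromSpecStalk_primeOf {x t : X} (h : t ⤳ x) : X.fromSpecStalk x (primeOf h) = t := by
  refine Eq.trans ?_ (Groth.L22.LocQuotDim.fromSpecStalk_ker_specMap x t h
    ⟨⊥, Ideal.isPrime_bot⟩)
  exact congrArg (X.fromSpecStalk x) (PrimeSpectrum.ext rfl)

theorem eq_primeOf {x : X} (Q : PrimeSpectrum (X.presheaf.stalk x)) {t : X}
    (h : X.fromSpecStalk x Q = t) (ht : t ⤳ x) : Q = primeOf ht :=
  (X.fromSpecStalk x).isEmbedding.injective (h.trans (fromSpecStalk_primeOf ht).symm)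

theorem mem_zeroLocus_iff {x' : X'} {ξ : X} (hξ : ξ ⤳ p x')
    (Q : PrimeSpectrum (X'.presheaf.stalk x')) :
    (RingHom.ker (Cyc.specMap (p x') ξ hξ)).map (p.stalkMap x').hom ≤ Q.asIdeal ↔
      ξ ⤳ p (X'.fromSpecStalk x' Q) := by
  rw [apply_fromSpecStalk, Ideal.map_le_iff_le_comap]
  constructor
  · intro h
    refine (specializes_of_eq (fromSpecStalk_primeOf hξ).symm).trans ?_
    exact ((PrimeSpectrum.le_iff_specializes (primeOf hξ) _).1 h).map (X.fromSpecStalk _).continuous
  · intro h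
    have h1 := (specializes_of_eq (fromSpecStalk_primeOf hξ)).trans h
    exact (PrimeSpectrum.le_iff_specializes (primeOf hξ) _).2
      ((X.fromSpecStalk _).isEmbedding.isInducing.specializes_iff.1 h1)

open Classical in
/-- The order of `a` at `x'` along the closure of `t`. -/
noncomputable def ordT (x' : X') (a : X'.presheaf.stalk x') (t : X') : ℕ∞ :=
  if h : t ⤳ x' then Ring.ord (Cyc.LocQuot x' t h) (Ideal.Quotient.mk _ a) else 0

variable [IsLocallyNoetherian X] [IsLocallyNoetherian X'] [Flat p] {δ : X → ℤ} {δ' : X' → ℤ}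
  {c : ℤ}

/-- The generalizations of `x'` which are generic in the fibre over `ξ`. -/
def compAt (ξ : X) (x' : X') : Set X' := {t | FibGen p t ∧ p t = ξ ∧ t ⤳ x'}

theorem ord_mul_mult (hδ : Cyc.IsDimFun X δ) (hδ' : Cyc.IsDimFun X' δ')
    (hc : ∀ x, FibGen p x → δ' x = δ (p x) + c) {ξ : X} {x' : X'} (hg : FibGen p x')
    (hξ : ξ ⤳ p x') (hx : δ (p x') + 1 = δ ξ) :
    (compAt p ξ x').Finite ∧ ∀ a : X.presheaf.stalk (p x'), Cyc.specMap (p x') ξ hξ a ≠ 0 →
      Ring.ord (Cyc.LocQuot (p x') ξ hξ) (Ideal.Quotient.mk _ a) * mult p x' =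
        ∑ᶠ t ∈ compAt p ξ x', ordT x' ((p.stalkMap x').hom a) t * mult p t := by
  let A := X.presheaf.stalk (p x')
  let B := X'.presheaf.stalk x'
  letI : Algebra A B := (p.stalkMap x').hom.toAlgebra
  haveI : Module.Flat A B := Flat.stalkMap p x'
  haveI : IsLocalHom (algebraMap A B) := p.toLRSHom.prop x'
  let P : Ideal A := RingHom.ker (Cyc.specMap (p x') ξ hξ)
  let I : Ideal B := P.map (algebraMap A B)
  have hshift := hc x' hg
  have hs : ∀ Q : PrimeSpectrum B, Q ∈ Module.support B (B ⧸ I) ↔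
      ξ ⤳ p (X'.fromSpecStalk x' Q) := fun Q => by
    rw [Module.support_eq_zeroLocus, Ideal.annihilator_quotient]
    exact mem_zeroLocus_iff p hξ Q
  have hle : ∀ Q ∈ Module.support B (B ⧸ I), δ' (X'.fromSpecStalk x' Q) ≤ δ' x' + 1 := by
    intro Q hQ
    have h1 := le_shift p hδ' hc (X'.fromSpecStalk x' Q)
    have h2 := (hs Q).1 hQ
    by_cases h3 : ξ = p (X'.fromSpecStalk x' Q)
    · rw [← h3] at h1; omega
    · have := (hδ _ _ h2 h3).1; omega
  have hclosed : X'.fromSpecStalk x' (IsLocalRing.closedPoint B) = x' :=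
    Scheme.fromSpecStalk_closedPoint
  have hinj := (X'.fromSpecStalk x').isEmbedding.injective
  have hlt : ∀ Q Q' : PrimeSpectrum B, Q < Q' →
      δ' (X'.fromSpecStalk x' Q') < δ' (X'.fromSpecStalk x' Q) := fun Q Q' h =>
    (hδ' _ _ (((PrimeSpectrum.le_iff_specializes _ _).1 h.le).map (X'.fromSpecStalk x').continuous)
      (hinj.ne h.ne)).1
  have hge : ∀ Q : PrimeSpectrum B, δ' x' ≤ δ' (X'.fromSpecStalk x' Q) := fun Q => by
    rcases (show Q ≤ IsLocalRing.closedPoint B from
      IsLocalRing.le_maximalIdeal Q.2.ne_top).lt_or_eq with h | h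
    · have := hlt _ _ h; rw [hclosed] at this; omega
    · rw [h, hclosed]
  have h1 : Module.supportDim B (B ⧸ I) ≤ 1 := by
    refine iSup_le fun s => ?_
    by_contra hlen
    push Not at hlen
    have h2 : 2 ≤ s.length := by
      by_contra h2
      push Not at h2
      have h3 : (s.length : WithBot ℕ∞) ≤ 1 := by
        rw [show (1 : WithBot ℕ∞) = ((1 : ℕ) : WithBot ℕ∞) from rfl]
        exact_mod_cast (show s.length ≤ 1 by omega)
      exact absurd hlen (not_lt.2 h3)
    have a01 : (s ⟨0, by omega⟩).1 < (s ⟨1, by omega⟩).1 := s.strictMono (Fin.mk_lt_mk.2 (by omega))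
    have a12 : (s ⟨1, by omega⟩).1 < (s ⟨2, by omega⟩).1 := s.strictMono (Fin.mk_lt_mk.2 (by omega))
    have b1 := hlt _ _ a01
    have b2 := hlt _ _ a12
    have b3 := hge (s ⟨2, by omega⟩).1
    have b4 := hle _ (s ⟨0, by omega⟩).2
    omega
  have hne : ∀ {t : X'} (ht : t ⤳ x'), p t = ξ → t ≠ x' := by
    rintro t ht e rfl
    rw [e] at hx
    omega
  have hbij : Set.BijOn (fun Q => X'.fromSpecStalk x' Q) (supp' (R := B) (B ⧸ I))
      (compAt p ξ x') := by
    refine ⟨fun Q hQ => ?_, hinj.injOn, fun t ht => ?_⟩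
    · have b1 := hlt Q (IsLocalRing.closedPoint B)
        (lt_of_le_of_ne ((PrimeSpectrum.asIdeal_le_asIdeal Q (IsLocalRing.closedPoint B)).1
          (IsLocalRing.le_maximalIdeal Q.2.ne_top))
          fun h => hQ.2 (congrArg PrimeSpectrum.asIdeal h))
      rw [hclosed] at b1
      have b2 := hle Q hQ.1
      have hz : p (X'.fromSpecStalk x' Q) = ξ := by
        by_contra h3
        have b3 := (hδ _ _ ((hs Q).1 hQ.1) (Ne.symm h3)).1
        have b4 := le_shift p hδ' hc (X'.fromSpecStalk x' Q)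
        omega
      refine ⟨fibGen_of_eq_shift p hδ' hc (show δ' (X'.fromSpecStalk x' Q) = δ (p (X'.fromSpecStalk x' Q)) + c by rw [hz]; omega), hz, ?_⟩
      exact specializes_fromSpecStalk x' Q
    · obtain ⟨Q, hQ⟩ := exists_prime_of_specializes ht.2.2
      refine ⟨Q, ⟨(hs Q).2 ?_, fun h => ?_⟩, hQ⟩
      · exact specializes_of_eq (ht.2.1.symm.trans (congrArg p hQ.symm))
      · exact hne ht.2.2 ht.2.1 (hQ.symm.trans
          ((congrArg (X'.fromSpecStalk x') (PrimeSpectrum.ext h)).trans hclosed))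
  refine ⟨hbij.image_eq ▸ (Groth.L22.QuotLength.finite_supp' _ h1).image _, fun a ha => ?_⟩
  have h0 : ∀ Q ∈ Module.support B (B ⧸ I), algebraMap A B a ∈ Q.asIdeal →
      Q.asIdeal = IsLocalRing.maximalIdeal B := by
    intro Q hQ haQ
    by_contra hne
    obtain ⟨-, hz, htx⟩ := hbij.mapsTo (x := Q) ⟨hQ, hne⟩
    have hQeq := eq_primeOf Q rfl htx
    rw [hQeq] at haQ
    change Cyc.specMap x' _ htx ((p.stalkMap x').hom a) = 0 at haQ
    rw [← residueFieldMap_congr_specMap p htx hz hξ a] at haQ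
    exact ha ((map_eq_zero _).1 ((map_eq_zero _).1 haQ))
  have hreg : Function.Injective (LinearMap.lsmul A (A ⧸ P) a) := by
    haveI : P.IsPrime := RingHom.ker_isPrime _
    intro u v huv
    simp only [LinearMap.lsmul_apply, Algebra.smul_def] at huv
    exact mul_left_cancel₀ (fun h => ha (Ideal.Quotient.eq_zero_iff_mem.1 h)) huv
  have hker := LinearMap.ker_eq_bot.2 (smul_injective_quotient_map (B := B) P a hreg)
  have hq := Groth.L22.QuotLength.length_quot_eq (R := B) (B ⧸ I) (algebraMap A B a) h1 h0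
  rw [hker, Module.length_bot, zero_add, length_quot_range_lsmul,
    show I ⊔ Ideal.span {algebraMap A B a} = (P ⊔ Ideal.span {a}).map (algebraMap A B) by
      rw [Ideal.map_sup, Ideal.map_span, Set.image_singleton],
    length_quotient_map, ← ord_quotient_eq_length] at hq
  refine hq.trans (finsum_mem_eq_of_bijOn _ hbij fun Q hQ => ?_)
  obtain ⟨-, hz, htx⟩ := hbij.mapsTo hQ
  have hQeq := eq_primeOf Q rfl htx
  rw [Groth.L22.QuotLength.term, ordT, dif_pos htx, ← locLen_eq_mult p htx hz hξ Q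
    (congrArg PrimeSpectrum.asIdeal hQeq)]
  congr 1
  exact ord_congr (congrArg PrimeSpectrum.asIdeal hQeq) _

theorem specMap_ne_zero_of_eq {x' t : X'} {ξ : X} (ht : t ⤳ x') (e : p t = ξ) (hξ : ξ ⤳ p x')
    {a : X.presheaf.stalk (p x')} (ha : Cyc.specMap (p x') ξ hξ a ≠ 0) :
    Cyc.specMap x' t ht ((p.stalkMap x').hom a) ≠ 0 := by
  rw [← residueFieldMap_congr_specMap p ht e hξ a]
  exact (map_ne_zero _).2 ((map_ne_zero _).2 ha)

/-- `f^*(div g) = Σ multiplicity · div (g|component)`. -/
theorem pullFun_divFun (hδ : Cyc.IsDimFun X δ) (hδ' : Cyc.IsDimFun X' δ')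
    (hc : ∀ x, FibGen p x → δ' x = δ (p x) + c) (ξ : X) (g : X.residueField ξ) (hg : g ≠ 0)
    (x' : X') :
    Cyc.pullFun p δ' δ c (Cyc.divFun δ ξ g) x' =
      ∑ᶠ t : {t : X' // FibGen p t ∧ p t = ξ}, ((mult p t.1).toNat : ℤ) *
        Cyc.divFun δ' t.1 (p.residueFieldMap t.1 ((X.residueFieldCongr t.2.2.symm).hom g)) x' := by
  rw [pullFun_eq' p hc]
  dsimp only
  by_cases hA : FibGen p x' ∧ ξ ⤳ p x' ∧ δ (p x') + 1 = δ ξ
  · obtain ⟨hgx, hξ, hx⟩ := hA
    obtain ⟨hfin, hord⟩ := ord_mul_mult p hδ hδ' hc hgx hξ hx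
    obtain ⟨a, b, hb, rfl⟩ := exists_specMap_div_gen (p x') ξ hξ g
    have ha : Cyc.specMap (p x') ξ hξ a ≠ 0 := fun h => hg (by rw [h, zero_div])
    let W : X.presheaf.stalk (p x') → X' → ℤ := fun z t =>
      ((ordT x' ((p.stalkMap x').hom z) t).toNat : ℤ) * ((mult p t).toNat : ℤ)
    have hdim : ∀ t : X', FibGen p t → p t = ξ → δ' x' + 1 = δ' t := by
      intro t h e
      have := hc t h
      rw [e] at this
      have := hc x' hgx
      omega
    have key : ∀ z, Cyc.specMap (p x') ξ hξ z ≠ 0 →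
        ((Ring.ord (Cyc.LocQuot (p x') ξ hξ) (Ideal.Quotient.mk _ z)).toNat : ℤ) *
          ((mult p x').toNat : ℤ) = ∑ t ∈ hfin.toFinset, W z t := by
      intro z hz
      have h := congrArg ENat.toNat (hord z hz)
      rw [finsum_mem_eq_finite_toFinset_sum _ hfin, ENat.toNat_mul, ENat.toNat_sum] at h
      · rw [← Nat.cast_mul, h, Nat.cast_sum]
        exact Finset.sum_congr rfl fun t _ => by simp [W, ENat.toNat_mul]
      · intro t ht
        rw [Set.Finite.mem_toFinset] at ht
        refine WithTop.mul_ne_top ?_ ((fibGen_iff p t).1 ht.1)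
        rw [ordT, dif_pos ht.2.2]
        exact ord_locQuot_ne_top hδ' (hdim t ht.1 ht.2.1)
          (specMap_ne_zero_of_eq p ht.2.2 ht.2.1 hξ hz)
    have hterm : ∀ t : {t : X' // FibGen p t ∧ p t = ξ}, ((mult p t.1).toNat : ℤ) *
        Cyc.divFun δ' t.1 (p.residueFieldMap t.1 ((X.residueFieldCongr t.2.2.symm).hom
          (Cyc.specMap (p x') ξ hξ a / Cyc.specMap (p x') ξ hξ b))) x' =
        W a t.1 - W b t.1 := by
      rintro ⟨t, hgt, hpt⟩
      by_cases htx : t ⤳ x'
      · rw [Cyc.divFun, dif_pos ⟨htx, hdim t hgt hpt⟩, map_div₀, map_div₀,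
          residueFieldMap_congr_specMap p htx hpt hξ, residueFieldMap_congr_specMap p htx hpt hξ,
          ordAt_div_gen hδ' x' t htx (hdim t hgt hpt) (specMap_ne_zero_of_eq p htx hpt hξ ha)
            (specMap_ne_zero_of_eq p htx hpt hξ hb)]
        simp only [W, ordT, dif_pos htx]
        ring
      · rw [Cyc.divFun, dif_neg fun h => htx h.1]
        simp [W, ordT, dif_neg htx]
    rw [finsum_congr hterm, finsum_subtype_eq_finsum_cond (f := fun t => W a t - W b t) (fun t => FibGen p t ∧ p t = ξ),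
      finsum_cond_eq_sum_of_cond_iff (t := hfin.toFinset) _ (fun {t} ht => ?_),
      Finset.sum_sub_distrib, ← key a ha, ← key b hb, Cyc.divFun, dif_pos ⟨hξ, hx⟩,
      ordAt_div_gen hδ (p x') ξ hξ hx ha hb]
    · ring
    · rw [Set.Finite.mem_toFinset]
      refine ⟨fun h => ⟨h.1, h.2, ?_⟩, fun h => ⟨h.1, h.2.1⟩⟩
      by_contra htx
      exact ht (by simp [W, ordT, dif_neg htx])
  · have hL : Cyc.divFun δ ξ g (p x') * ((mult p x').toNat : ℤ) = 0 := by
      by_cases hgx : FibGen p x'
      · rw [Cyc.divFun, dif_neg fun h => hA ⟨hgx, h.1, h.2⟩, zero_mul]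
      · simp [mult_eq_top hgx]
    rw [hL]
    symm
    refine finsum_eq_zero_of_forall_eq_zero fun t => ?_
    rw [Cyc.divFun]
    split_ifs with h
    · obtain ⟨htx, hdt⟩ := h
      have hξx : ξ ⤳ p x' := (specializes_of_eq t.2.2.symm).trans (htx.map p.continuous)
      have h1 := hc t.1 t.2.1
      rw [t.2.2] at h1
      have h2 := le_shift p hδ' hc x'
      by_cases hx : ξ = p x'
      · subst hx
        have hu : IsUnit ((X.presheaf.stalkSpecializes hξx).hom
            (1 : X.presheaf.stalk (p x'))) := by simp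
        obtain ⟨a, rfl⟩ := X.residue_surjective (p x') g
        have ha : IsUnit a := (isUnit_iff_residue_ne_zero _ a).2 hg
        have hga : (X.residue (p x')).hom a = Cyc.specMap (p x') (p x') (specializes_refl _) a := by
          rw [specMap_eq_residue, TopCat.Presheaf.stalkSpecializes_refl]
          rfl
        change (_ : ℤ) * Cyc.ordAt x' t.1 htx (p.residueFieldMap t.1
          ((X.residueFieldCongr t.2.2.symm).hom ((X.residue (p x')).hom a))) = 0
        rw [hga, residueFieldMap_congr_specMap p htx t.2.2 _ a,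
          ordAt_of_isUnit hδ' x' t.1 htx hdt (ha.map _), mul_zero]
      · have h3 := (hδ ξ (p x') hξx hx).1
        exact absurd ⟨fibGen_of_eq_shift p hδ' hc (by omega), hξx, by omega⟩ hA
    · exact mul_zero _

end Geometry

end Groth.L22.Cyc
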