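import Groth.Agent.L22.Cyc.OrdFrac
import Groth.Agent.L26.FF.Degree
import Groth.Agent.L26.FF.IntClosure
import Mathlib.RingTheory.LocalRing.Length
import Mathlib.RingTheory.IntegralClosure.IntegrallyClosed

/-!
The order of a rational function at a one-dimensional local ring of a function field of one
variable is the weighted sum of its orders at the places over the local ring.
-/

universe u

open WithZero IsLocalRing

namespace Groth.L22.Cyc

open FunFld Groth.Agent.FF

variable {K O L : Type u} [Field K] [CommRing O] [Field L] [Algebra O L] [Algebra K L]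

/-- The places whose valuation ring contains the image of `O`. -/
def PlacesOver (K O L : Type u) [Field K] [CommRing O] [Field L] [Algebra O L] [Algebra K L] :
    Set (Place K L) :=
  {P | ∀ a : O, P.1 (algebraMap O L a) ≤ 1}

variable [IsDomain O] [IsLocalRing O] [Ring.KrullDimLE 1 O] [IsFractionRing O L]

theorem val_lt_one_of_mem_maximalIdeal {P : Place K L} (hP : P ∈ PlacesOver K O L) {t : O}
    (ht : t ∈ maximalIdeal O) : P.1 (algebraMap O L t) < 1 := by
  let f : O →+* P.O := (algebraMap O L).codRestrict P.O fun a => hP a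
  let q : Ideal O := (maximalIdeal P.O).comap f
  have hq : q.IsPrime := Ideal.IsPrime.comap _
  have hmem : ∀ a, a ∈ q ↔ P.1 (algebraMap O L a) < 1 := fun a =>
    (IsLocalRing.residue_eq_zero_iff (f a)).symm.trans (residue_eq_zero P (f a))
  have hne : q ≠ ⊥ := by
    intro hbot
    obtain ⟨z, hz0, hz⟩ := exists_val_eq P (-1)
    obtain ⟨a, b, hb, rfl⟩ := IsFractionRing.div_surjective (A := O) z
    have h1 : ∀ c : O, c ≠ 0 → P.1 (algebraMap O L c) = 1 := fun c hc =>
      le_antisymm (hP c) (not_lt.1 fun h => hc ((Ideal.mem_bot).1 (hbot ▸ (hmem c).2 h)))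
    have ha : a ≠ 0 := fun h => hz0 (by rw [h, map_zero, zero_div])
    rw [map_div₀, h1 a ha, h1 b (nonZeroDivisors.ne_zero hb), div_one] at hz
    exact (exp_lt_one'.2 (show (-1 : ℤ) < 0 by norm_num)).ne hz.symm
  rcases Ring.krullDimLE_one_iff.1 inferInstance q hq with h1 | h1
  · exact absurd (by simpa [IsDomain.minimalPrimes_eq_singleton_bot] using h1) hne
  · exact (hmem t).1 ((IsLocalRing.eq_maximalIdeal h1).symm ▸ ht)

theorem mem_integralClosure_iff [Algebra K O] [IsScalarTower K O L] (hK : IsFF K L) (z : L) :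
    z ∈ integralClosure O L ↔ ∀ P ∈ PlacesOver K O L, P.1 z ≤ 1 := by
  constructor
  · intro hz P hP
    let f : O →+* P.O := (algebraMap O L).codRestrict P.O fun a => hP a
    have h1 : IsIntegral P.O z := by
      obtain ⟨p, hp, hp'⟩ := hz
      refine ⟨p.map f, hp.map f, ?_⟩
      rw [Polynomial.eval₂_map, show (algebraMap P.O L).comp f = algebraMap O L from rfl]
      exact hp'
    obtain ⟨y, rfl⟩ := IsIntegrallyClosed.isIntegral_iff.1 h1
    exact y.2
  · intro h
    by_contra hz
    let S : Subring L := (integralClosure O L).toSubring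
    have : IsIntegrallyClosedIn S L :=
      inferInstanceAs (IsIntegrallyClosedIn (integralClosure O L) L)
    obtain ⟨V, hSV, hzV⟩ := S.exists_le_valuationSubring_of_isIntegrallyClosedIn (x := z) hz
    have hOV : ∀ a : O, algebraMap O L a ∈ V := fun a =>
      hSV (isIntegral_algebraMap : IsIntegral O (algebraMap O L a))
    have hkV : ∀ c : K, algebraMap K L c ∈ V := fun c => by
      rw [IsScalarTower.algebraMap_apply K O L]; exact hOV _
    have hz0 : z ≠ 0 := fun h0 => hzV (h0 ▸ zero_mem V)
    have hzi : z⁻¹ ∈ V.nonunits := V.mem_nonunits_iff_or.2 (Or.inr (by rwa [inv_inv]))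
    obtain ⟨Q, hQ1, hQ2⟩ :=
      exists_place_of_valuationSubring V hkV hK ⟨z⁻¹, hzi, inv_ne_zero hz0⟩
    have h1 := hQ2 _ hzi
    rw [map_inv₀] at h1
    exact absurd h1 (not_lt.2 ((one_le_inv₀ (zero_lt_iff.2 (val_ne_zero Q hz0))).2
      (h Q fun a => hQ1 _ (hOV a))))

theorem finite_placesOver [Algebra K O] [IsScalarTower K O L] (hK : IsFF K L) (hO : ¬ IsField O) :
    (PlacesOver K O L).Finite := by
  obtain ⟨t, htm, ht0⟩ := Submodule.exists_mem_ne_zero_of_ne_bot
    (show maximalIdeal O ≠ ⊥ from fun h => hO (IsLocalRing.isField_iff_maximalIdeal_eq.2 h))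
  have htr : Transcendental K (algebraMap O L t) := by
    intro halg
    have halg' : IsAlgebraic K t :=
      (isAlgebraic_algebraMap_iff (IsFractionRing.injective O L)).1 halg
    obtain ⟨c, hc, w, hw⟩ := IsAlgebraic.exists_nonzero_dvd (R := K) halg'
      (mem_nonZeroDivisors_of_ne_zero ht0)
    exact htm (isUnit_of_mul_isUnit_left (hw ▸ (isUnit_iff_ne_zero.2 hc).map (algebraMap K O)))
  exact (finite_zeros hK htr).subset fun P hP => val_lt_one_of_mem_maximalIdeal hP htm

section Count

variable [IsNoetherianRing O] [Algebra K O] [IsScalarTower K O L]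

set_option maxHeartbeats 800000 in
theorem finrank_mul_ord_eq_sum (hK : IsFF K L) (hO : ¬ IsField O)
    [Module.Finite O (integralClosure O L)] [Module.Finite K (ResidueField O)]
    (S : Finset (Place K L)) (hS : ∀ P, P ∈ S ↔ P ∈ PlacesOver K O L)
    (a : O) (ha : a ≠ 0) :
    (Module.finrank K (ResidueField O) : ℤ) * CycAlg.ordFrac O L (algebraMap O L a) =
      ∑ P ∈ S, P.ord (algebraMap O L a) * P.deg := by
  classical
  let B := integralClosure O L
  haveI : IsFractionRing B L := by
    haveI : FaithfulSMul B L :=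
      (faithfulSMul_iff_algebraMap_injective _ _).2 Subtype.val_injective
    refine IsFractionRing.of_field _ _ fun z => ?_
    obtain ⟨c, d, -, h⟩ := IsFractionRing.div_surjective (A := O) z
    exact ⟨algebraMap O B c, algebraMap O B d, h.symm⟩
  have hinj : Function.Injective (algebraMap O B) := fun x y h =>
    IsFractionRing.injective O L (congrArg Subtype.val h)
  let r : B := algebraMap O B a
  have hr : r ≠ 0 := (map_ne_zero_iff _ hinj).2 ha
  obtain ⟨hlt, hord⟩ := Groth.L22.OrdDet.length_eq_ordFrac_norm (A := O) (K := L) (L := L) hinj r hr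
  rw [Algebra.norm_self, MonoidHom.id_apply] at hord
  have hr' : algebraMap B L r = algebraMap O L a := rfl
  rw [hr'] at hord
  rw [← hord]
  have ha' : algebraMap O L a ≠ 0 := (map_ne_zero_iff _ (IsFractionRing.injective O L)).2 ha
  let m : Place K L → ℤ := fun P => min (-P.ord (algebraMap O L a)) 0
  have hm : ∀ P ∈ S, m P = -P.ord (algebraMap O L a) := fun P hP => min_eq_left
    (neg_nonpos.2 ((val_le_one_iff P ha').1 ((hS P).1 hP a)))
  obtain ⟨hfin, hdim⟩ := relQ_ballInf hK S m (fun _ => 0) fun P => min_le_right _ _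
  let V : Submodule K L := ⨅ P ∈ S, ball P 0
  have hV : ∀ {z}, z ∈ V ↔ z ∈ B := fun {z} => by
    rw [mem_integralClosure_iff hK z]
    simp [V, Submodule.mem_iInf, mem_ball, hS]
  let ψ : ↥V →ₗ[K] B ⧸ Ideal.span {r} :=
    { toFun := fun v => Ideal.Quotient.mk _ ⟨v.1, hV.1 v.2⟩
      map_add' := fun _ _ => rfl
      map_smul' := fun _ _ => rfl }
  have hψ : LinearMap.ker ψ = Submodule.comap V.subtype (⨅ P ∈ S, ball P (m P)) := by
    ext ⟨v, hv⟩
    simp only [LinearMap.mem_ker, Submodule.mem_comap, Submodule.mem_iInf, mem_ball, ψ,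
      LinearMap.coe_mk, AddHom.coe_mk, Submodule.subtype_apply]
    rw [Ideal.Quotient.eq_zero_iff_mem, Ideal.mem_span_singleton']
    have hval : ∀ P ∈ S, P.1 (algebraMap O L a) = exp (m P) := fun P hP => by
      rw [hm P hP, val_eq_exp P ha']
    constructor
    · rintro ⟨w, hw⟩ P hP
      have hw' : (w : L) * algebraMap O L a = v := congrArg Subtype.val hw
      rw [← hw', map_mul, hval P hP]
      exact mul_le_of_le_one_left' ((mem_integralClosure_iff hK _).1 w.2 P ((hS P).1 hP))
    · intro h
      have hw : v / algebraMap O L a ∈ B := (mem_integralClosure_iff hK _).2 fun P hP => by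
        rw [map_div₀, hval P ((hS P).2 hP)]
        exact div_le_one_of_le₀ (h P ((hS P).2 hP)) zero_le
      exact ⟨⟨_, hw⟩, Subtype.ext (div_mul_cancel₀ v ha')⟩
  have hsurj : Function.Surjective ψ := fun q => by
    obtain ⟨b, rfl⟩ := Ideal.Quotient.mk_surjective q
    exact ⟨⟨b.1, hV.2 b.2⟩, rfl⟩
  obtain ⟨e⟩ := relQ_equiv ψ hψ
  let e' := e.trans ((LinearEquiv.ofEq _ _ (LinearMap.range_eq_top.2 hsurj)).trans
    Submodule.topEquiv)
  haveI : FiniteDimensional K (B ⧸ Ideal.span {r}) := Module.Finite.equiv e'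
  haveI : IsLocalHom (algebraMap K O) := ⟨fun c hc => isUnit_iff_ne_zero.2 fun h => by
    rw [h, map_zero] at hc; exact not_isUnit_zero hc⟩
  have hlen := IsLocalRing.length_restrictScalars K O (B ⧸ Ideal.span {r})
  rw [← Module.length_eq_of_surjective (M := ResidueField O) (residue_surjective (R := K)),
    Module.length_eq_finrank, Module.length_eq_finrank] at hlen
  have h1 : (Module.finrank K (B ⧸ Ideal.span {r}) : ℤ) =
      (Module.length O (B ⧸ Ideal.span {r})).toNat * Module.finrank K (ResidueField O) := by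
    have := congrArg ENat.toNat hlen
    rw [ENat.toNat_mul, ENat.toNat_coe, ENat.toNat_coe] at this
    exact_mod_cast this
  rw [mul_comm, ← h1, ← e'.finrank_eq, hdim]
  exact Finset.sum_congr rfl fun P hP => by rw [hm P hP]; ring

theorem finrank_mul_ordFrac_eq_sum (hK : IsFF K L) (hO : ¬ IsField O)
    [Module.Finite O (integralClosure O L)] [Module.Finite K (ResidueField O)]
    (S : Finset (Place K L)) (hS : ∀ P, P ∈ S ↔ P ∈ PlacesOver K O L)
    (f : L) (hf : f ≠ 0) :
    (Module.finrank K (ResidueField O) : ℤ) * CycAlg.ordFrac O L f = ∑ P ∈ S, P.ord f * P.deg := by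
  obtain ⟨a, b, hb, rfl⟩ := IsFractionRing.div_surjective (A := O) f
  have hb0 : b ≠ 0 := nonZeroDivisors.ne_zero hb
  have ha0 : a ≠ 0 := fun h => hf (by rw [h, map_zero, zero_div])
  have h1 := finrank_mul_ord_eq_sum hK hO S hS a ha0
  have h2 := finrank_mul_ord_eq_sum hK hO S hS b hb0
  have hid : ∀ c : O, c ≠ 0 → CycAlg.ordFrac O L (algebraMap O L c) =
      ((Ring.ord O c).toNat : ℤ) := fun c hc => by
    have h := Groth.L22.OrdDet.ordFrac_div (R := O) (K := L) hc one_ne_zero
    rw [map_one, div_one, Ring.ord_one] at h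
    simpa using h
  rw [Groth.L22.OrdDet.ordFrac_div ha0 hb0, mul_sub, ← hid a ha0, ← hid b hb0, h1, h2,
    ← Finset.sum_sub_distrib]
  refine Finset.sum_congr rfl fun P _ => ?_
  have ha' : algebraMap O L a ≠ 0 := (map_ne_zero_iff _ (IsFractionRing.injective O L)).2 ha0
  have hb' : algebraMap O L b ≠ 0 := (map_ne_zero_iff _ (IsFractionRing.injective O L)).2 hb0
  rw [div_eq_mul_inv, ord_mul P ha' (inv_ne_zero hb'), ord_inv]
  ring

end Count

end Groth.L22.Cyc
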