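import Groth.Agent.L22.Cyc.ClosedSub
import Groth.Agent.L22.Cyc.CurveDeg
import Groth.Agent.L22.Cyc.PushPull

/-!
Push-forward of a principal divisor along a proper map dropping the dimension is zero.
-/

universe u

open AlgebraicGeometry CategoryTheory TopologicalSpace

attribute [local instance] Curv2.resAlgebra

namespace Groth.L22.Cyc

variable {X Y : Scheme.{u}}

/-- The order on the local ring of an integral scheme is the order along its generic point. -/
theorem ordFrac_eq_ordAt [IsIntegral X] [IsLocallyNoetherian X] (x : X)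
    (h : genericPoint X ⤳ x) [Ring.KrullDimLE 1 (X.presheaf.stalk x)] (F : X.functionField)
    (hF : F ≠ 0) :
    CycAlg.ordFrac (X.presheaf.stalk x) X.functionField F =
      Cyc.ordAt x (genericPoint X) h ((X.residue (genericPoint X)).hom F) := by
  obtain ⟨a, b, hb, rfl⟩ := IsFractionRing.div_surjective (A := X.presheaf.stalk x) F
  have ha : a ≠ 0 := fun h0 => hF (by rw [h0, map_zero, zero_div])
  have hb0 : b ≠ 0 := nonZeroDivisors.ne_zero hb
  rw [Groth.L22.OrdDet.ordFrac_div ha hb0, map_div₀]
  exact (ordAt_div x h ha hb0).symm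

section Curve

variable [IsIntegral X] [IsIntegral Y]

theorem isReduced_fiber_generic (p : X ⟶ Y) : IsReduced (p.fiber (genericPoint Y)) := by
  haveI : ∀ z : ↥(p.fiber (genericPoint Y)),
      _root_.IsReduced ((p.fiber (genericPoint Y)).presheaf.stalk z) := by
    intro z
    obtain ⟨hs, hk⟩ := Groth.L18.stalkMap_fiberι p (genericPoint Y) z
    have hF : ∀ y' : Y, y' = genericPoint Y → IsField (Y.presheaf.stalk y') := by
      rintro _ rfl
      exact Field.toIsField Y.functionField
    have hy := fromSpec_fiber_apply p (genericPoint Y) z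
    rw [IsLocalRing.isField_iff_maximalIdeal_eq.1 (hF _ hy), Ideal.map_bot] at hk
    exact isReduced_of_injective
      (RingEquiv.ofBijective ((p.fiberι (genericPoint Y)).stalkMap z).hom
        ⟨(RingHom.injective_iff_ker_eq_bot _).2 hk, hs⟩).symm.toRingHom
      (RingEquiv.injective _)
  exact isReduced_of_isReduced_stalk _

theorem isIntegral_fiber_generic (p : X ⟶ Y) (hη : p (genericPoint X) = genericPoint Y) :
    IsIntegral (p.fiber (genericPoint Y)) ∧
      ∀ [IrreducibleSpace ↥(p.fiber (genericPoint Y))],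
        p.fiberι (genericPoint Y) (genericPoint ↥(p.fiber (genericPoint Y))) = genericPoint X := by
  obtain ⟨z, hz⟩ : genericPoint X ∈ Set.range (p.fiberι (genericPoint Y)) :=
    (p.range_fiberι _).ge hη
  have hgen : IsGenericPoint z Set.univ := Set.eq_univ_of_forall fun w =>
    specializes_iff_mem_closure.1 ((p.fiberι _).isEmbedding.isInducing.specializes_iff.1
      (hz ▸ genericPoint_specializes' _))
  haveI := isReduced_fiber_generic p
  have h : IsIrreducible (Set.univ : Set ↥(p.fiber (genericPoint Y))) :=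
    hgen ▸ isIrreducible_singleton.closure
  haveI : IrreducibleSpace ↥(p.fiber (genericPoint Y)) :=
    { isPreirreducible_univ := h.2, toNonempty := ⟨z⟩ }
  refine ⟨isIntegral_of_irreducibleSpace_of_isReduced _, fun {_} => ?_⟩
  exact (congrArg _ ((genericPoint_spec _).eq hgen)).trans hz

end Curve

set_option maxHeartbeats 800000 in
theorem sum_generic_fibre_eq_zero [IsIntegral X] [IsIntegral Y] [IsLocallyNoetherian X]
    (p : X ⟶ Y) [IsProper p] {δX : X → ℤ} {δY : Y → ℤ} (hX : Cyc.IsDimFun X δX)
    (hY : Cyc.IsDimFun Y δY) (hδ : Cyc.DeltaCompat p δX δY)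
    (hdom : p (genericPoint X) = genericPoint Y)
    (hn : δX (genericPoint X) = δY (genericPoint Y) + 1)
    (g : X.residueField (genericPoint X)) (hg : g ≠ 0) :
    ∑ᶠ x ∈ p ⁻¹' {genericPoint Y},
      Cyc.divFun δX (genericPoint X) g x * ((p.residueDegree x : ℕ) : ℤ) = 0 := by
  classical
  let y := genericPoint Y
  obtain ⟨hint, hgen⟩ := isIntegral_fiber_generic p hdom
  haveI : IsIntegral (p.fiber y) := hint
  let K := Y.residueField y
  let c : p.fiber y ⟶ Spec (CommRingCat.of K) := p.fiberToSpecResidueField y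
  haveI : IsProper c := MorphismProperty.pullback_snd p (Y.fromSpecResidueField y) ‹IsProper p›
  haveI : IsLocallyNoetherian (p.fiber y) := LocallyOfFiniteType.isLocallyNoetherian c
  letI : (p.fiber y).Over (Spec (CommRingCat.of K)) := ⟨c⟩
  haveI : LocallyOfFiniteType ((p.fiber y) ↘ Spec (CommRingCat.of K)) :=
    inferInstanceAs (LocallyOfFiniteType c)
  let ι := p.fiberι y
  let η := genericPoint ↥(p.fiber y)
  have hιη : ι η = genericPoint X := hgen
  have hpι : ∀ z, p (ι z) = y := fromSpec_fiber_apply p y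
  -- dimension one
  have htr : Algebra.trdeg K ((p.fiber y).residueField η) = 1 := by
    obtain ⟨n, hn1, hn2⟩ := hδ (genericPoint X)
    rw [hdom, hn] at hn2
    have h := rtrdeg_fiberι p y η
    change rtrdeg p (ι η) = _ at h
    rw [hιη] at h
    refine h.symm.trans (hn1.trans ?_)
    rw [show n = 1 by omega, Nat.cast_one]
  obtain ⟨n, hdim, htr', hnU⟩ := SchemeDim.exists_dim_eq_trdeg K (p.fiber y)
  obtain rfl : n = 1 := by exact_mod_cast htr'.symm.trans htr
  rw [Nat.cast_one] at hdim
  -- the points of the fibre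
  have hδC : ∀ z, δY y ≤ δX (ι z) ∧ (p.residueDegree (ι z) = 0 → δY y < δX (ι z)) := fun z => by
    have h := residueDegree_eq_zero_of_lt p hδ (ι z)
    rwa [hpι z] at h
  have hne : ∀ z, z ≠ η → δX (ι z) = δY y ∧ p.residueDegree (ι z) ≠ 0 := fun z hz => by
    have h1 := (hX _ (ι z) (genericPoint_specializes' _)
      fun e => hz (ι.isEmbedding.injective (e.symm.trans hιη.symm))).1
    have h2 := (hδC z).1
    have h3 := (hδC z).2
    rw [hn] at h1
    change δX (ι z) < δY y + 1 at h1
    exact ⟨by omega, fun h0 => by have := h3 h0; omega⟩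
  have hclosed : ∀ z, z ≠ η → IsClosed ({z} : Set ↥(p.fiber y)) := fun z hz => by
    refine closure_subset_iff_isClosed.1 fun w hw => ?_
    by_contra hwz
    have hzw : z ⤳ w := specializes_iff_mem_closure.2 hw
    have h1 := (hX _ _ (hzw.map ι.continuous) fun e => hwz (ι.isEmbedding.injective e).symm).1
    have h2 := (hδC w).1
    rw [(hne z hz).1] at h1
    omega
  have hηnc : ¬ IsClosed ({η} : Set ↥(p.fiber y)) := fun h => by
    haveI : Subsingleton ↥(p.fiber y) := by
      have hu : (Set.univ : Set ↥(p.fiber y)) = {η} := by rw [← genericPoint_closure, h.closure_eq]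
      exact ⟨fun a b => (Set.mem_singleton_iff.1 (hu.le (Set.mem_univ a))).trans
        (Set.mem_singleton_iff.1 (hu.le (Set.mem_univ b))).symm⟩
    obtain ⟨_, ⟨U, hU, rfl⟩, hηU, -⟩ :=
      (p.fiber y).isBasis_affineOpens.exists_subset_of_mem_open (Set.mem_univ η) isOpen_univ
    haveI : Subsingleton (PrimeSpectrum Γ(p.fiber y, U)) :=
      hU.fromSpec.isOpenEmbedding.injective.subsingleton
    have h0 : ringKrullDim Γ(p.fiber y, U) ≤ 0 := Order.krullDim_nonpos_of_subsingleton
    rw [← SchemeDim.topologicalKrullDim_affineOpen hU] at h0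
    erw [hnU U ⟨η, hηU⟩] at h0
    exact absurd (by exact_mod_cast h0 : (1 : ℕ) ≤ 0) (by omega)
  have hdimC : Cyc.IsDimFun (p.fiber y) fun z => δX (ι z) := by
    intro a b hab hne'
    have hbη : b ≠ η := fun e => by
      refine hne' ?_
      rw [e] at hab ⊢
      exact (hab.antisymm (genericPoint_specializes' a)).eq
    have haη : a = η := by
      by_contra ha
      exact hne' ((hclosed a ha).closure_eq.le (specializes_iff_mem_closure.1 hab)).symm
    have e1 : δX (ι a) = δY y + 1 := by rw [haη, hιη, hn]
    exact ⟨by beta_reduce; rw [e1, (hne b hbη).1]; omega,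
      fun _ => by beta_reduce; rw [e1, (hne b hbη).1]⟩
  -- the rational function on the fibre
  obtain ⟨F, hF⟩ := residue_generic_bijective (X := p.fiber y) |>.2
    (ι.residueFieldMap η ((X.residueFieldCongr hιη.symm).hom g))
  have hg' : (X.residueFieldCongr hιη.symm).hom g ≠ 0 := residueFieldCongr_ne_zero _ hg
  have hF0 : F ≠ 0 := fun h0 => by
    rw [h0, map_zero] at hF
    exact (map_ne_zero _).2 hg' hF.symm
  have key := finsum_residueDegree_mul_ordFrac_eq_zero K c hdim F hF0
  have hrange : p ⁻¹' {y} = Set.range ι := (p.range_fiberι y).symm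
  rw [show p ⁻¹' {genericPoint Y} = Set.range ι from hrange,
    finsum_mem_range ι.isEmbedding.injective, ← key]
  refine finsum_congr fun z => ?_
  rw [finsum_eq_if]
  have hdeg : c.residueDegree z = p.residueDegree (ι z) := by
    have h := residueDegree_congr _ (p.fiber_fac y) z
    rw [residueDegree_comp, residueDegree_comp,
      residueDegree_eq_one ι _ (FibreDim.residueFieldMap_bijective ι z),
      residueDegree_eq_one (Y.fromSpecResidueField y) _ (FibreDim.residueFieldMap_bijective _ _),
      one_mul, mul_one] at h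
    exact h.symm
  by_cases hz : z = η
  · rw [if_neg (hz ▸ hηnc), hz, hιη, Cyc.divFun, dif_neg (fun h => by omega), zero_mul]
  rw [if_pos (hclosed z hz), hdeg]
  have hd : δX (ι z) + 1 = δX (ι η) := by rw [(hne z hz).1, hιη, hn]
  haveI := krullDimLE_one_stalk hdimC z hd
  rw [ordFrac_eq_ordAt z (genericPoint_specializes' z) F hF0, hF,
    ordAt_preimmersion ι hX hdimC _ hd _ hg', ← divFun_congr (δ := δX) hιη.symm g, Cyc.divFun,
    dif_pos ⟨(genericPoint_specializes' z).map ι.continuous, hd⟩, mul_comm]

theorem map_divFun_eq_zero [IsIntegral X] [IsIntegral Y] [IsLocallyNoetherian X]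
    (p : X ⟶ Y) [IsProper p] {δX : X → ℤ} {δY : Y → ℤ} (hX : Cyc.IsDimFun X δX)
    (hY : Cyc.IsDimFun Y δY) (hδ : Cyc.DeltaCompat p δX δY)
    (hdom : p (genericPoint X) = genericPoint Y)
    (hn : δX (genericPoint X) ≠ δY (genericPoint Y))
    (g : X.residueField (genericPoint X)) (hg : g ≠ 0) (y : Y) :
    ∑ᶠ x ∈ p ⁻¹' {y}, Cyc.divFun δX (genericPoint X) g x *
      ((AlgebraicCycle.mapCoeff p δX δY x : ℕ) : ℤ) = 0 := by
  by_contra h
  have h' := h
  obtain ⟨x, hx, hne⟩ := exists_ne_zero_of_finsum_mem_ne_zero h'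
  rw [mapCoeff_eq p hδ] at hne
  have hd : p.residueDegree x ≠ 0 := fun h0 => hne (by simp [h0])
  have hcond : δX x + 1 = δX (genericPoint X) := by
    by_contra hc
    exact hne (by rw [Cyc.divFun, dif_neg fun hh => hc hh.2, zero_mul])
  have h1 := deltaCompat_shift_of_residueDegree p hδ hd
  have h2 : δY (genericPoint Y) < δX (genericPoint X) := by
    have := (residueDegree_eq_zero_of_lt p hδ (genericPoint X)).1
    rw [hdom] at this
    omega
  have hyg : genericPoint Y = y := by
    by_contra hyne
    have := (hY _ y (genericPoint_specializes' y) hyne).1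
    rw [show p x = y from hx] at h1
    omega
  subst hyg
  rw [show p x = genericPoint Y from hx] at h1
  refine h ?_
  rw [finsum_mem_congr rfl fun x _ => by rw [mapCoeff_eq p hδ]]
  exact sum_generic_fibre_eq_zero p hX hY hδ hdom (by omega) g hg

end Groth.L22.Cyc
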