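import Groth.Agent.L22.Cyc.Limit
import Groth.Agent.L22.Cyc.DivSupport

/-!
Rational functions on a limit of schemes come from a finite stage.
-/

universe u

open AlgebraicGeometry CategoryTheory Limits TopologicalSpace

namespace Groth.L22.Cyc

theorem range_residueFieldMap_comp_le {X Y Z : Scheme.{u}} {f : X ⟶ Y} {g : Y ⟶ Z} {h : X ⟶ Z}
    (e : h = f ≫ g) (x : X) :
    (h.residueFieldMap x).hom.fieldRange ≤ (f.residueFieldMap x).hom.fieldRange := by
  subst e
  rintro _ ⟨a, rfl⟩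
  exact ⟨g.residueFieldMap (f x) a, by rw [Scheme.residueFieldMap_comp]; rfl⟩

variable {J : Type u} [Category.{u} J] [IsCofiltered J] {D : J ⥤ Scheme.{u}} {c : Cone D}
variable (hc : IsLimit c) [∀ {i j : J} (f : i ⟶ j), IsAffineHom (D.map f)]
  [∀ i, CompactSpace (D.obj i)]

/-- The elements of `κ(x)` coming from stage `j`. -/
noncomputable abbrev fromStage (c : Cone D) (j : J) (x : c.pt) : Subfield (c.pt.residueField x) :=
  ((proj c j).residueFieldMap x).hom.fieldRange

omit [IsCofiltered J] [∀ {i j : J} (f : i ⟶ j), IsAffineHom (D.map f)]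
  [∀ i, CompactSpace (D.obj i)] in
theorem fromStage_mono {j k : J} (g : k ⟶ j) (x : c.pt) : fromStage c j x ≤ fromStage c k x :=
  range_residueFieldMap_comp_le (c.w g).symm x

include hc in
theorem exists_mem_fromStage (i : J) (x : c.pt) (f : c.pt.residueField x) :
    ∃ j, f ∈ fromStage c j x := by
  obtain ⟨_, ⟨W, hW, rfl⟩, hxW, -⟩ := (D.obj i).isBasis_affineOpens.exists_subset_of_mem_open
    (Set.mem_univ (proj c i x)) isOpen_univ
  change (D.obj i).Opens at W
  haveI : IsAffineHom (proj c i) := isAffineHom_π_app D c hc i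
  have hU : IsAffineOpen (proj c i ⁻¹ᵁ W) := hW.preimage _
  have hxU : x ∈ proj c i ⁻¹ᵁ W := hxW
  have key : ∀ r : Γ(c.pt, proj c i ⁻¹ᵁ W),
      ∃ j, (c.pt.residue x).hom ((c.pt.presheaf.germ _ x hxU).hom r) ∈ fromStage c j x := by
    intro r
    obtain ⟨j, g, hle, b, rfl⟩ := exists_appLE_eq hc hW r
    refine ⟨j, (((D.obj j).residue (proj c j x)).hom
      (((D.obj j).presheaf.germ _ _ (hle hxU)).hom b)), ?_⟩
    show ((D.obj j).residue (proj c j x) ≫ (proj c j).residueFieldMap x).hom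
      (((D.obj j).presheaf.germ _ _ (hle hxU)).hom b) = _
    rw [Scheme.residue_residueFieldMap, CommRingCat.comp_apply]
    congr 1
    rw [Scheme.Hom.germ_stalkMap_apply, Scheme.Hom.appLE, CommRingCat.comp_apply,
      TopCat.Presheaf.germ_res_apply]
  let := c.pt.presheaf.algebra_section_stalk (⟨x, hxU⟩ : proj c i ⁻¹ᵁ W)
  haveI : IsLocalization.AtPrime (c.pt.presheaf.stalk x) (hU.primeIdealOf ⟨x, hxU⟩).asIdeal :=
    hU.isLocalization_stalk ⟨x, hxU⟩
  obtain ⟨s, rfl⟩ := c.pt.residue_surjective x f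
  obtain ⟨⟨a, b⟩, hab⟩ := IsLocalization.surj (hU.primeIdealOf ⟨x, hxU⟩).asIdeal.primeCompl s
  obtain ⟨j₁, h₁⟩ := key a
  obtain ⟨j₂, h₂⟩ := key b.1
  refine ⟨IsCofiltered.min j₁ j₂, ?_⟩
  have hb : IsUnit ((c.pt.presheaf.germ _ x hxU).hom b.1) :=
    IsLocalization.map_units (c.pt.presheaf.stalk x) b
  have hab' : s * (c.pt.presheaf.germ _ x hxU).hom b.1 = (c.pt.presheaf.germ _ x hxU).hom a := hab
  have hs : (c.pt.residue x).hom s = (c.pt.residue x).hom ((c.pt.presheaf.germ _ x hxU).hom a) /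
      (c.pt.residue x).hom ((c.pt.presheaf.germ _ x hxU).hom b.1) := by
    rw [eq_div_iff (hb.map _).ne_zero, ← map_mul, hab']
  change (c.pt.residue x).hom s ∈ _
  rw [hs]
  exact div_mem (fromStage_mono (IsCofiltered.minToLeft j₁ j₂) x h₁)
    (fromStage_mono (IsCofiltered.minToRight j₁ j₂) x h₂)

omit [IsCofiltered J] [∀ {i j : J} (f : i ⟶ j), IsAffineHom (D.map f)]
  [∀ i, CompactSpace (D.obj i)] in
/-- Over a good stage a divisor pulls back to the divisor of the pulled back function. -/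
theorem pullFun_divFun_good [IsLocallyNoetherian c.pt] {j : J} [IsLocallyNoetherian (D.obj j)]
    [Flat (c.π.app j)] {δ : D.obj j → ℤ} {δ' : c.pt → ℤ} (hδ : Cyc.IsDimFun (D.obj j) δ)
    (hδ' : Cyc.IsDimFun c.pt δ') (hsh : ∀ x, FibGen (proj c j) x → δ' x = δ (proj c j x) + 0)
    {x : c.pt} (hx : Good c j x) (g : (D.obj j).residueField (proj c j x)) (hg : g ≠ 0) (z : c.pt) :
    Cyc.pullFun (proj c j) δ' δ 0 (Cyc.divFun δ (proj c j x) g) z =
      Cyc.divFun δ' x ((proj c j).residueFieldMap x g) z := by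
  haveI : Flat (proj c j) := ‹_›
  rw [pullFun_divFun (proj c j) hδ hδ' hsh _ g hg z]
  rw [finsum_eq_single _ (⟨x, hx.fibGen, rfl⟩ :
    {t : c.pt // FibGen (proj c j) t ∧ proj c j t = proj c j x})
    (fun t ht => absurd (Subtype.ext (t.2.1 x t.2.2.symm (hx.2 t.1 t.2.2)).symm) ht)]
  rw [hx.mult_eq_one]
  simp

end Groth.L22.Cyc
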