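import Groth.Agent.L22.QuotLength
import Mathlib.LinearAlgebra.Matrix.Transvection
import Mathlib.LinearAlgebra.Quotient.Pi
import Mathlib.LinearAlgebra.Matrix.ToLin
import Mathlib.LinearAlgebra.Basis.VectorSpace
import Mathlib.LinearAlgebra.Determinant
import Mathlib.RingTheory.Localization.Integer

/-!
Over a one-dimensional Noetherian local domain the length of the cokernel of an injective
endomorphism of a lattice is the order of its determinant.
-/

universe u v

namespace Groth.L22.OrdDet

open Matrix

section Lattice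

variable {A : Type u} [CommRing A] {M : Type v} [AddCommGroup M] [Module A M]

theorem length_quotient_of_le {P Q : Submodule A M} (h : P ≤ Q) :
    Module.length A (M ⧸ P) =
      Module.length A (Q ⧸ P.submoduleOf Q) + Module.length A (M ⧸ Q) := by
  refine Module.length_eq_add_of_exact (Submodule.mapQ (P.submoduleOf Q) P Q.subtype (by
      intro x hx; exact hx)) (Submodule.factor h) ?_ (Submodule.factor_surjective h) ?_
  · rw [injective_iff_map_eq_zero]
    intro x hx
    obtain ⟨x, rfl⟩ := Submodule.Quotient.mk_surjective _ x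
    rw [Submodule.mapQ_apply, Submodule.Quotient.mk_eq_zero] at hx
    exact (Submodule.Quotient.mk_eq_zero _).2 hx
  · intro y
    obtain ⟨y, rfl⟩ := Submodule.Quotient.mk_surjective _ y
    constructor
    · intro hy
      exact ⟨Submodule.Quotient.mk ⟨y, (Submodule.Quotient.mk_eq_zero _).1 hy⟩, rfl⟩
    · rintro ⟨x, hx⟩
      obtain ⟨x, rfl⟩ := Submodule.Quotient.mk_surjective _ x
      rw [← hx]
      exact (Submodule.Quotient.mk_eq_zero _).2 x.2

/-- Replacing a lattice by a stable sublattice of finite colength does not change the colength of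
the image of an injective endomorphism. -/
theorem length_coker_eq_of_sublattice (φ : M →ₗ[A] M) (hφ : Function.Injective φ)
    (F : Submodule A M) (hF : ∀ x ∈ F, φ x ∈ F) (hfin : Module.length A (M ⧸ F) ≠ ⊤) :
    Module.length A (M ⧸ LinearMap.range φ) =
      Module.length A (F ⧸ LinearMap.range (φ.restrict hF)) := by
  have hle : F.map φ ≤ LinearMap.range φ := LinearMap.map_le_range
  have hle' : F.map φ ≤ F := by rintro _ ⟨x, hx, rfl⟩; exact hF x hx
  have h1 := length_quotient_of_le hle
  have h2 := length_quotient_of_le hle'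
  have e1 : (M ⧸ F) ≃ₗ[A] (LinearMap.range φ ⧸ (F.map φ).submoduleOf (LinearMap.range φ)) :=
    Submodule.Quotient.equiv F _ (LinearEquiv.ofInjective φ hφ) (by
      ext ⟨z, hz⟩
      constructor
      · rintro ⟨x, hx, he⟩
        exact ⟨x, hx, congrArg Subtype.val he⟩
      · rintro ⟨x, hx, he⟩
        exact ⟨x, hx, Subtype.ext he⟩)
  have e2 : (F.map φ).submoduleOf F = LinearMap.range (φ.restrict hF) := by
    ext ⟨z, hz⟩
    constructor
    · rintro ⟨x, hx, he⟩
      exact ⟨⟨x, hx⟩, Subtype.ext he⟩
    · rintro ⟨⟨x, hx⟩, he⟩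
      exact ⟨x, hx, congrArg Subtype.val he⟩
  rw [← e1.length_eq] at h1
  rw [(Submodule.quotEquivOfEq _ _ e2).length_eq] at h2
  have h3 := h1.symm.trans h2
  rw [add_comm (Module.length A (M ⧸ F))] at h3
  exact WithTop.add_right_cancel hfin h3

theorem length_coker_comp {φ ψ : M →ₗ[A] M} (hφ : Function.Injective φ) :
    Module.length A (M ⧸ LinearMap.range (φ ∘ₗ ψ)) =
      Module.length A (M ⧸ LinearMap.range φ) + Module.length A (M ⧸ LinearMap.range ψ) := by
  have hle : LinearMap.range (φ ∘ₗ ψ) ≤ LinearMap.range φ := LinearMap.range_comp_le_range ψ φ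
  have e1 : (M ⧸ LinearMap.range ψ) ≃ₗ[A]
      (LinearMap.range φ ⧸ (LinearMap.range (φ ∘ₗ ψ)).submoduleOf (LinearMap.range φ)) :=
    Submodule.Quotient.equiv _ _ (LinearEquiv.ofInjective φ hφ) (by
      ext ⟨z, hz⟩
      constructor
      · rintro ⟨_, ⟨x, rfl⟩, he⟩
        exact ⟨x, congrArg Subtype.val he⟩
      · rintro ⟨x, he⟩
        exact ⟨ψ x, ⟨x, rfl⟩, Subtype.ext he⟩)
  rw [length_quotient_of_le hle, ← e1.length_eq, add_comm]

end Lattice

section Mat

variable {A : Type u} [CommRing A] [IsDomain A] [IsNoetherianRing A] [IsLocalRing A]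
  [Ring.KrullDimLE 1 A] {n : Type u} [Fintype n] [DecidableEq n]

/-- The colength of the column space. -/
noncomputable def colen (N : Matrix n n A) : ℕ∞ :=
  Module.length A ((n → A) ⧸ LinearMap.range (toLin' N))

omit [IsNoetherianRing A] [IsLocalRing A] [Ring.KrullDimLE 1 A] in
theorem toLin'_injective {N : Matrix n n A} (hN : N.det ≠ 0) : Function.Injective (toLin' N) := by
  rw [injective_iff_map_eq_zero]
  intro v hv
  by_contra hne
  exact hN (Matrix.exists_mulVec_eq_zero_iff.1 ⟨v, hne, hv⟩)

omit [IsNoetherianRing A] [IsLocalRing A] [Ring.KrullDimLE 1 A] in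
theorem colen_mul (N N' : Matrix n n A) (hN : N.det ≠ 0) :
    colen (N * N') = colen N + colen N' := by
  rw [colen, toLin'_mul]
  exact length_coker_comp (toLin'_injective hN)

omit [IsDomain A] [IsNoetherianRing A] [IsLocalRing A] [Ring.KrullDimLE 1 A] in
theorem colen_diagonal (d : n → A) : colen (diagonal d) = ∑ i, Ring.ord A (d i) := by
  have h : LinearMap.range (toLin' (diagonal d)) =
      Submodule.pi Set.univ fun i => Ideal.span {d i} := by
    ext z
    simp only [LinearMap.mem_range, toLin'_apply, Submodule.mem_pi, Set.mem_univ, true_implies,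
      Ideal.mem_span_singleton']
    constructor
    · rintro ⟨w, rfl⟩ i
      exact ⟨w i, by rw [mulVec_diagonal, mul_comm]⟩
    · intro hz
      choose w hw using hz
      exact ⟨w, funext fun i => by rw [mulVec_diagonal, mul_comm, hw]⟩
  rw [colen, (Submodule.quotEquivOfEq _ _ h).length_eq, (Submodule.quotientPi _).length_eq,
    Module.length_pi_of_fintype]
  rfl

/-- The matrices whose colength is the order of the determinant. -/
def Good (N : Matrix n n A) : Prop := N.det ≠ 0 ∧ colen N = Ring.ord A N.det

theorem ord_prod (d : n → A) (hd : ∀ i, d i ≠ 0) (s : Finset n) :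
    Ring.ord A (∏ i ∈ s, d i) = ∑ i ∈ s, Ring.ord A (d i) := by
  induction s using Finset.induction_on with
  | empty => simp [Ring.ord_one]
  | insert i s hi ih =>
    rw [Finset.prod_insert hi, Finset.sum_insert hi,
      Ring.ord_mul A (mem_nonZeroDivisors_of_ne_zero (Finset.prod_ne_zero_iff.2 fun j _ => hd j)), ih]

theorem good_diagonal (d : n → A) (hd : ∀ i, d i ≠ 0) : Good (diagonal d) := by
  refine ⟨?_, ?_⟩
  · rw [det_diagonal]
    exact Finset.prod_ne_zero_iff.2 fun i _ => hd i
  · rw [colen_diagonal, det_diagonal, ord_prod d hd]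

omit [IsNoetherianRing A] [IsLocalRing A] [Ring.KrullDimLE 1 A] in
theorem good_transvection {i j : n} (hij : i ≠ j) (a : A) : Good (transvection i j a) := by
  refine ⟨by rw [det_transvection_of_ne i j hij]; exact one_ne_zero, ?_⟩
  have h : LinearMap.range (toLin' (transvection i j a)) = ⊤ := by
    refine LinearMap.range_eq_top.2 fun z => ⟨toLin' (transvection i j (-a)) z, ?_⟩
    rw [← LinearMap.comp_apply, ← toLin'_mul, transvection_mul_transvection_same i j hij,
      add_neg_cancel, transvection_zero, toLin'_one]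
    rfl
  haveI : Subsingleton ((n → A) ⧸ LinearMap.range (toLin' (transvection i j a))) :=
    Submodule.Quotient.subsingleton_iff.2 h
  rw [colen, Module.length_eq_zero, det_transvection_of_ne i j hij, Ring.ord_one]

theorem Good.mul {N N' : Matrix n n A} (h : Good N) (h' : Good N') : Good (N * N') := by
  refine ⟨by rw [det_mul]; exact mul_ne_zero h.1 h'.1, ?_⟩
  rw [colen_mul N N' h.1, h.2, h'.2, det_mul, Ring.ord_mul A (mem_nonZeroDivisors_of_ne_zero h'.1)]

theorem good_smul_one {c : A} (hc : c ≠ 0) : Good (c • (1 : Matrix n n A)) := by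
  rw [smul_one_eq_diagonal]
  exact good_diagonal _ fun _ => hc

theorem Good.smul {N : Matrix n n A} (h : Good N) {c : A} (hc : c ≠ 0) : Good (c • N) := by
  simpa using (good_smul_one (n := n) hc).mul h

variable (A) in
theorem exists_good_smul_map (g : Matrix n n (FractionRing A)) (hg : g.det ≠ 0) :
    ∃ (c : A) (N : Matrix n n A), c ≠ 0 ∧ Good N ∧
      algebraMap A (FractionRing A) c • g = N.map (algebraMap A (FractionRing A)) := by
  let K := FractionRing A
  refine diagonal_transvection_induction_of_det_ne_zero (fun g => ∃ (c : A) (N : Matrix n n A),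
    c ≠ 0 ∧ Good N ∧ algebraMap A K c • g = N.map (algebraMap A K)) g hg ?_ ?_ ?_
  · intro D hD
    obtain ⟨b, hb⟩ := IsLocalization.exist_integer_multiples_of_finite (nonZeroDivisors A) D
    choose a ha using hb
    rw [det_diagonal] at hD
    refine ⟨b, diagonal a, nonZeroDivisors.ne_zero b.2, good_diagonal a fun i h => ?_, ?_⟩
    · have := ha i
      rw [h, map_zero, Algebra.smul_def, eq_comm, mul_eq_zero] at this
      exact this.elim (IsFractionRing.to_map_ne_zero_of_mem_nonZeroDivisors b.2)
        (Finset.prod_ne_zero_iff.1 hD i (Finset.mem_univ i))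
    · rw [diagonal_map (map_zero _), ← diagonal_smul]
      congr 1
      funext i
      show algebraMap A K b.1 * D i = algebraMap A K (a i)
      rw [ha i, Algebra.smul_def]
  · rintro ⟨i, j, hij, s⟩
    obtain ⟨a, b, hb, rfl⟩ := IsFractionRing.div_surjective (A := A) (K := K) s
    have hb0 : b ≠ 0 := nonZeroDivisors.ne_zero hb
    -- `b • T(a/b) = D_j(b) (1 + a E_ij) D'_j` with `D'_j = b (D_j(b))⁻¹`
    let d : n → A := fun k => if k = j then b else 1
    let d' : n → A := fun k => if k = j then 1 else b
    refine ⟨b, diagonal d * transvection i j a * diagonal d', hb0,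
      ((good_diagonal d fun k => ?_).mul (good_transvection hij a)).mul
        (good_diagonal d' fun k => ?_), ?_⟩
    · simp only [d]; split_ifs; exacts [hb0, one_ne_zero]
    · simp only [d']; split_ifs; exacts [one_ne_zero, hb0]
    · ext p q
      simp only [TransvectionStruct.toMatrix_mk, Matrix.smul_apply, Matrix.map_apply,
        Matrix.mul_diagonal, Matrix.diagonal_mul, transvection, Matrix.add_apply, smul_eq_mul,
        map_mul, map_add, Matrix.one_apply, Matrix.single_apply, d, d']
      have hbK : algebraMap A K b ≠ 0 := IsFractionRing.to_map_ne_zero_of_mem_nonZeroDivisors hb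
      rcases eq_or_ne p q with hpq | hpq
      · subst hpq
        have : ¬ (i = p ∧ j = p) := fun h => hij (h.1.trans h.2.symm)
        rw [if_pos rfl, if_pos rfl, if_neg this, if_neg this]
        split_ifs <;> simp
      · rw [if_neg hpq, if_neg hpq]
        by_cases h : i = p ∧ j = q
        · obtain ⟨rfl, rfl⟩ := h
          simp [hij, mul_div_cancel₀ _ hbK]
        · rw [if_neg h, if_neg h]; simp
  · intro g g' _ _ ⟨c, N, hc, hN, he⟩ ⟨c', N', hc', hN', he'⟩
    refine ⟨c * c', N * N', mul_ne_zero hc hc', hN.mul hN', ?_⟩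
    rw [Matrix.map_mul, ← he, ← he', Matrix.smul_mul, Matrix.mul_smul, smul_smul, map_mul]

/-- The colength of a nonsingular square matrix is the order of its determinant. -/
theorem colen_eq_ord_det (N : Matrix n n A) (hN : N.det ≠ 0) : colen N = Ring.ord A N.det := by
  let K := FractionRing A
  have hinj : Function.Injective (algebraMap A K) := IsFractionRing.injective A K
  have hdet : (N.map (algebraMap A K)).det ≠ 0 := by
    show ((algebraMap A K).mapMatrix N).det ≠ 0
    rw [← RingHom.map_det]
    exact (map_ne_zero_iff _ hinj).2 hN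
  obtain ⟨c, N', hc, hN', he⟩ := exists_good_smul_map A _ hdet
  have heq : c • N = N' := Matrix.map_injective hinj (by
    show (c • N).map (algebraMap A K) = N'.map (algebraMap A K)
    rw [← he]
    ext p q
    simp [K])
  have h1 := colen_mul (c • (1 : Matrix n n A)) N (good_smul_one hc).1
  have hd : (c • N).det = (c • (1 : Matrix n n A)).det * N.det := by
    rw [← det_mul, Matrix.smul_mul, Matrix.one_mul]
  rw [Matrix.smul_mul, Matrix.one_mul, heq, hN'.2, ← heq, hd,
    Ring.ord_mul A (mem_nonZeroDivisors_of_ne_zero hN), (good_smul_one hc).2] at h1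
  exact (WithTop.add_left_cancel (Ring.ord_ne_top
    (mem_nonZeroDivisors_of_ne_zero (good_smul_one (n := n) hc).1)) h1).symm

end Mat

section Endo

variable {A : Type u} [CommRing A] [IsDomain A] [IsNoetherianRing A] [IsLocalRing A]
  [Ring.KrullDimLE 1 A] {K : Type u} [Field K] [Algebra A K] [IsFractionRing A K]
  {V : Type u} [AddCommGroup V] [Module K V] [Module A V] [IsScalarTower A K V]

/-- A finitely generated module contained in a submodule up to torsion. -/
theorem length_quotient_ne_top {M : Type u} [AddCommGroup M] [Module A M] [Module.Finite A M]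
    (F : Submodule A M) (h : ∀ x : M, ∃ c : A, c ≠ 0 ∧ c • x ∈ F) :
    Module.length A (M ⧸ F) ≠ ⊤ := by
  refine Groth.L22.QuotLength.length_ne_top_of_support _ fun p hp => ?_
  by_contra hne
  have hbot : p.asIdeal = ⊥ :=
    ((Ring.krullDimLE_one_iff.1 inferInstance p.asIdeal p.2).resolve_right fun hmax => hne
      (IsLocalRing.eq_maximalIdeal hmax)) |>
        fun hmin => by simpa [IsDomain.minimalPrimes_eq_singleton_bot] using hmin
  refine Module.notMem_support_iff'.2 (fun m => ?_) hp
  obtain ⟨m, rfl⟩ := Submodule.Quotient.mk_surjective _ m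
  obtain ⟨c, hc, hcm⟩ := h m
  exact ⟨c, by rw [hbot]; simpa using hc, (Submodule.Quotient.mk_eq_zero _).2 hcm⟩

/-- Length of the cokernel of an injective endomorphism of a lattice. -/
theorem length_coker_eq_ord_det [FiniteDimensional K V] {M : Type u} [AddCommGroup M] [Module A M]
    [Module.Finite A M] (ι : M →ₗ[A] V) (hι : Function.Injective ι)
    (hspan : Submodule.span K (Set.range ι) = ⊤) (φ : M →ₗ[A] M) (ψ : V →ₗ[K] V)
    (hcomp : ∀ x, ψ (ι x) = ι (φ x)) {a b : A} (ha : a ≠ 0) (hb : b ≠ 0)
    (hdet : LinearMap.det ψ * algebraMap A K b = algebraMap A K a) :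
    Module.length A (M ⧸ LinearMap.range φ) + Ring.ord A b = Ring.ord A a := by
  classical
  have hψ : LinearMap.det ψ ≠ 0 := fun h => by
    rw [h, zero_mul, eq_comm] at hdet
    exact ha ((map_eq_zero_iff _ (IsFractionRing.injective A K)).1 hdet)
  have hψinj : Function.Injective ψ :=
    (LinearMap.equivOfDetNeZero ψ hψ).injective
  have hφ : Function.Injective φ := fun x y h => hι (hψinj (by rw [hcomp, hcomp, h]))
  let bas := Module.Basis.ofSpan hspan.ge
  haveI : Fintype _ := FiniteDimensional.fintypeBasisIndex bas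
  have hmem : ∀ i, ∃ m, ι m = bas i := fun i =>
    Module.Basis.ofSpan_subset hspan.ge ⟨i, rfl⟩
  choose e he using hmem
  let N : Matrix _ _ K := LinearMap.toMatrix bas bas ψ
  obtain ⟨s, hs⟩ := IsLocalization.exist_integer_multiples_of_finite (nonZeroDivisors A)
    (fun p : _ × _ => N p.1 p.2)
  choose N₀ hN₀ using hs
  let NA : Matrix _ _ A := Matrix.of fun i j => N₀ (i, j)
  have hs0 : (s : A) ≠ 0 := nonZeroDivisors.ne_zero s.2
  let E : (↑((linearIndepOn_empty K id).extend (Set.empty_subset (Set.range ι))) → A) →ₗ[A] M :=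
    Fintype.linearCombination A e
  have hιE : ∀ v, ι (E v) = ∑ i, algebraMap A K (v i) • bas i := fun v => by
    simp [E, Fintype.linearCombination_apply, he]
  have hE : Function.Injective E := by
    rw [injective_iff_map_eq_zero]
    intro v hv
    have := congrArg ι hv
    rw [hιE, map_zero] at this
    funext i
    exact (map_eq_zero_iff _ (IsFractionRing.injective A K)).1
      (Fintype.linearIndependent_iff.1 bas.linearIndependent _ this i)
  -- on the free lattice the scaled endomorphism is given by the integral matrix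
  have hstab : ∀ v, ((s : A) • φ) (E v) = E (toLin' NA v) := fun v => by
    apply hι
    rw [LinearMap.smul_apply, map_smul, ← hcomp, hιE, hιE, map_sum, Finset.smul_sum]
    simp only [map_smul, toLin'_apply, mulVec, dotProduct, map_sum, map_mul, Finset.sum_smul]
    rw [Finset.sum_comm]
    refine Finset.sum_congr rfl fun j _ => ?_
    conv_lhs => rw [← bas.sum_repr (ψ (bas j))]
    rw [Finset.smul_sum, Finset.smul_sum]
    refine Finset.sum_congr rfl fun i _ => ?_
    rw [← LinearMap.toMatrix_apply, algebra_compatible_smul K (s : A), smul_smul, smul_smul]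
    congr 1
    show _ = algebraMap A K (N₀ (i, j)) * _
    rw [hN₀ (i, j), Algebra.smul_def]
    ring
  have hF : ∀ x ∈ LinearMap.range E, ((s : A) • φ) x ∈ LinearMap.range E := by
    rintro _ ⟨v, rfl⟩
    exact ⟨_, (hstab v).symm⟩
  have hfin : Module.length A (M ⧸ LinearMap.range E) ≠ ⊤ := by
    refine length_quotient_ne_top _ fun x => ?_
    obtain ⟨c, hc⟩ := IsLocalization.exist_integer_multiples_of_finite (nonZeroDivisors A)
      (fun i => bas.repr (ι x) i)
    choose v hv using hc
    refine ⟨c, nonZeroDivisors.ne_zero c.2, v, hι ?_⟩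
    rw [hιE, map_smul]
    conv_rhs => rw [← bas.sum_repr (ι x), Finset.smul_sum]
    refine Finset.sum_congr rfl fun i _ => ?_
    rw [hv i, Algebra.smul_def, ← smul_smul, algebraMap_smul]
  have hsφ : Function.Injective ((s : A) • φ) := by
    intro x y h
    refine hφ (hι ?_)
    have := congrArg ι h
    rw [LinearMap.smul_apply, LinearMap.smul_apply, map_smul, map_smul,
      algebra_compatible_smul K (s : A), algebra_compatible_smul K (s : A)] at this
    exact smul_right_injective V ((map_ne_zero_iff _ (IsFractionRing.injective A K)).2 hs0) this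
  have hNA : NA.map (algebraMap A K) = algebraMap A K s • N := by
    ext i j
    show algebraMap A K (N₀ (i, j)) = algebraMap A K s * N i j
    rw [hN₀ (i, j), Algebra.smul_def]
  have hdetNA : algebraMap A K NA.det =
      algebraMap A K ((s : A) ^ Fintype.card
        ↑((linearIndepOn_empty K id).extend (Set.empty_subset (Set.range ι)))) * LinearMap.det ψ := by
    rw [RingHom.map_det, RingHom.mapMatrix_apply, hNA, det_smul, LinearMap.det_toMatrix, map_pow]
  have hdetne : NA.det ≠ 0 := fun h => by
    rw [h, map_zero, eq_comm, mul_eq_zero] at hdetNA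
    exact hdetNA.elim (fun h' => pow_ne_zero _ hs0
      ((map_eq_zero_iff _ (IsFractionRing.injective A K)).1 h')) hψ
  -- `s • φ`
  have h1 := length_coker_eq_of_sublattice ((s : A) • φ) hsφ _ hF hfin
  have e : LinearMap.range E ≃ₗ[A] _ := (LinearEquiv.ofInjective E hE).symm
  have h2 : Module.length A (LinearMap.range E ⧸ LinearMap.range (((s : A) • φ).restrict hF)) =
      colen NA := by
    refine (Submodule.Quotient.equiv _ _ (LinearEquiv.ofInjective E hE) ?_).length_eq.symm
    ext ⟨z, hz⟩
    constructor
    · rintro ⟨_, ⟨w, rfl⟩, hw⟩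
      exact ⟨⟨E w, ⟨w, rfl⟩⟩, Subtype.ext ((hstab w).trans (congrArg Subtype.val hw))⟩
    · rintro ⟨⟨_, w, rfl⟩, hw⟩
      exact ⟨_, ⟨w, rfl⟩, Subtype.ext ((hstab w).symm.trans (congrArg Subtype.val hw))⟩
  rw [h2, colen_eq_ord_det NA hdetne] at h1
  -- `s • id`
  let σ : M →ₗ[A] M := (s : A) • LinearMap.id
  have hσ : Function.Injective σ := fun x y h => hφ (hsφ (by
    show (s : A) • φ (φ x) = (s : A) • φ (φ y)
    have h' : (s : A) • x = (s : A) • y := h
    rw [← map_smul, ← map_smul, ← map_smul, ← map_smul, h']))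
  have hσF : ∀ x ∈ LinearMap.range E, σ x ∈ LinearMap.range E := fun x hx =>
    Submodule.smul_mem _ _ hx
  have k1 := length_coker_eq_of_sublattice σ hσ _ hσF hfin
  have k2 : Module.length A (LinearMap.range E ⧸ LinearMap.range (σ.restrict hσF)) =
      colen (Matrix.diagonal fun _ : ↑((linearIndepOn_empty K id).extend
        (Set.empty_subset (Set.range ι))) => (s : A)) := by
    refine (Submodule.Quotient.equiv _ _ (LinearEquiv.ofInjective E hE) ?_).length_eq.symm
    have hd : ∀ w : ↑((linearIndepOn_empty K id).extend (Set.empty_subset (Set.range ι))) → A,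
        toLin' (Matrix.diagonal fun _ => (s : A)) w = (s : A) • w := fun w => by
      ext i; simp [toLin'_apply, mulVec_diagonal]
    ext ⟨z, hz⟩
    constructor
    · rintro ⟨_, ⟨w, rfl⟩, hw⟩
      refine ⟨⟨E w, ⟨w, rfl⟩⟩, Subtype.ext ?_⟩
      have := congrArg Subtype.val hw
      rw [hd] at this
      show (s : A) • E w = z
      rw [← map_smul]; exact this
    · rintro ⟨⟨_, w, rfl⟩, hw⟩
      refine ⟨_, ⟨w, rfl⟩, Subtype.ext ?_⟩
      rw [hd]
      show E ((s : A) • w) = z
      rw [map_smul]; exact congrArg Subtype.val hw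
  rw [k2, colen_diagonal, Finset.sum_const, Finset.card_univ] at k1
  have h3 : Module.length A (M ⧸ LinearMap.range ((s : A) • φ)) =
      Module.length A (M ⧸ LinearMap.range σ) + Module.length A (M ⧸ LinearMap.range φ) := by
    rw [show ((s : A) • φ) = σ ∘ₗ φ by ext; simp [σ]]
    exact length_coker_comp hσ
  rw [h1, k1, ← Ring.ord_pow (mem_nonZeroDivisors_of_ne_zero hs0)] at h3
  have hmul : NA.det * b = (s : A) ^ Fintype.card
      ↑((linearIndepOn_empty K id).extend (Set.empty_subset (Set.range ι))) * a :=
    IsFractionRing.injective A K (by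
    rw [map_mul, map_mul, hdetNA, mul_assoc, hdet])
  have h4 := congrArg (Ring.ord A) hmul
  rw [Ring.ord_mul A (mem_nonZeroDivisors_of_ne_zero hb),
    Ring.ord_mul A (mem_nonZeroDivisors_of_ne_zero ha), h3, add_assoc] at h4
  exact WithTop.add_left_cancel
    (Ring.ord_ne_top (mem_nonZeroDivisors_of_ne_zero (pow_ne_zero _ hs0))) h4

end Endo

end Groth.L22.OrdDet
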