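import Groth.Agent.L22.Cyc.P1Graph
import Groth.Agent.L22.C1.GysinRel

/-!
A cycle rationally equivalent to zero is a sum of differences of fibres at `0` and `∞`.
-/

set_option autoImplicit false
set_option linter.style.haveILetI false
set_option linter.unusedSectionVars false
set_option maxSynthPendingDepth 3
set_option backward.isDefEq.respectTransparency.types false
set_option backward.isDefEq.respectTransparency false

universe u

open CategoryTheory CategoryTheory.Limits AlgebraicGeometry TopologicalSpace IsLocalRing Groth.L16.ProjSpace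

noncomputable section

namespace Groth.L22.P1Graph

theorem subschemeFun_iso_comp {A A' B : Scheme.{u}} (e : A ≅ A') (a : A' ⟶ B) (δ : B → ℤ) (k : ℤ) :
    Cyc.subschemeFun δ k (e.hom ≫ a) = Cyc.subschemeFun δ k a := by
  funext b
  unfold Cyc.subschemeFun
  split_ifs with h
  swap
  · rfl
  refine finsum_mem_eq_of_bijOn (fun z => e.hom z) ⟨fun z hz => hz, e.hom.homeomorph.injective.injOn, fun z hz => ?_⟩
    fun z _ => ?_
  · obtain ⟨w, rfl⟩ := e.hom.homeomorph.surjective z
    exact ⟨w, hz, rfl⟩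
  · have hb : Function.Bijective (e.hom.stalkMap z).hom := ConcreteCategory.bijective_of_isIso (e.hom.stalkMap z)
    rw [Groth.L22.Cyc.length_self_of_ringEquiv (RingEquiv.ofBijective _ hb)]

theorem subschemeFun_comp_closed {A B X : Scheme.{u}} (a : A ⟶ B) (c : B ⟶ X) [IsClosedImmersion c]
    (δ : X → ℤ) (k : ℤ) :
    (∀ b, Cyc.subschemeFun δ k (a ≫ c) (c b) = Cyc.subschemeFun (fun b => δ (c b)) k a b) ∧
      ∀ x, x ∉ Set.range c → Cyc.subschemeFun δ k (a ≫ c) x = 0 := by
  refine ⟨fun b => ?_, fun x hx => ?_⟩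
  · unfold Cyc.subschemeFun
    rw [show {z : A | (a ≫ c) z = c b} = {z | a z = b} from Set.ext fun z =>
      ⟨fun h => c.isClosedEmbedding.injective h, fun h => congrArg c h⟩]
  · unfold Cyc.subschemeFun
    rw [show {z : A | (a ≫ c) z = x} = ∅ from Set.eq_empty_of_forall_notMem fun z h => hx ⟨a z, h⟩,
      finsum_mem_empty, ite_self]

theorem isPullback_sect {X X' : Scheme.{u}} (g : X' ⟶ X) (i : Fin (1 + 1)) :
    IsPullback g (P1.sect X' i) (P1.sect X i) (P1.toP1 g) := by
  have hbase : ∀ {Y : Scheme.{u}}, P1.sect Y i ≫ CohB1.ProjSpaceOver.toBase 1 Y = 𝟙 Y :=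
    fun {Y} => pullback.lift_snd _ _ _
  have h2 : IsPullback (P1.toP1 g) (CohB1.ProjSpaceOver.toBase 1 X') (CohB1.ProjSpaceOver.toBase 1 X) g := by
    refine IsPullback.of_right (v₁₂ := CohB1.ProjSpaceOver.toBase 1 X) ?_ (pullback.lift_snd _ _ _)
      (IsPullback.of_hasPullback (CohB1.ProjSpace.toSpec 1 (ULift.{u} ℤ)) (specULiftZIsTerminal.from X))
    rw [show P1.toP1 g ≫ pullback.fst _ _ = pullback.fst _ _ from (pullback.lift_fst _ _ _).trans (Category.comp_id _),
      specULiftZIsTerminal.hom_ext (g ≫ specULiftZIsTerminal.from X) (specULiftZIsTerminal.from X')]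
    exact IsPullback.of_hasPullback _ _
  refine IsPullback.of_bot ?_ (Groth.L07.BlowLib.sect_toP1 g i).symm h2
  rw [hbase, hbase]
  exact IsPullback.of_vert_isIso ⟨by simp⟩

theorem subschemeFun_toP1 {X X' A : Scheme.{u}} (g : X' ⟶ X) [IsClosedImmersion g] (a : A ⟶ CohB1.ProjSpaceOver 1 X')
    (i : Fin (1 + 1)) (δ : X → ℤ) (k : ℤ) :
    Cyc.subschemeFun δ k (pullback.snd (a ≫ P1.toP1 g) (P1.sect X i)) =
      Cyc.subschemeFun δ k (pullback.snd a (P1.sect X' i) ≫ g) := by
  have h : IsPullback (pullback.fst a (P1.sect X' i)) (pullback.snd a (P1.sect X' i) ≫ g)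
      (a ≫ P1.toP1 g) (P1.sect X i) :=
    (IsPullback.of_hasPullback a (P1.sect X' i)).paste_vert (isPullback_sect g i).flip
  rw [← h.isoPullback_hom_snd]
  exact (subschemeFun_iso_comp h.isoPullback _ δ k).symm

theorem exists_unit_fun {X : Scheme.{u}} [IsIntegral X] (g : X.residueField (genericPoint X)) (hg : g ≠ 0) :
    ∃ (U : X.Opens) (hU : genericPoint X ∈ U) (f : Γ(X, U)), IsUnit f ∧
      X.evaluation U (genericPoint X) hU f = g := by
  obtain ⟨r, rfl⟩ := X.residue_surjective _ g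
  obtain ⟨U, hU, s, rfl⟩ := TopCat.Presheaf.exists_germ_eq (F := X.presheaf) (x := genericPoint X) r
  have hs : genericPoint X ∈ X.basicOpen s := by
    rw [Scheme.mem_basicOpen _ _ _ hU]
    exact (Groth.L22.Cyc.isUnit_iff_residue_ne_zero _ _).2 hg
  refine ⟨X.basicOpen s, hs, X.presheaf.map (homOfLE (X.basicOpen_le s)).op s,
    RingedSpace.isUnit_res_basicOpen _ s, ?_⟩
  show X.residue _ (X.presheaf.germ _ _ hs _) = _
  rw [TopCat.Presheaf.germ_res_apply]

variable {X : Scheme.{u}} {δ : X → ℤ} (hX : Cyc.IsSetup X δ) {δP : ↥(CohB1.ProjSpaceOver 1 X) → ℤ}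
  (hP : Cyc.DeltaCompat (CohB1.ProjSpaceOver.toBase 1 X) δP δ) (k : ℤ)

include hX hP in
theorem exists_member (ξ : X) (f : X.residueField ξ) (hξ : δ ξ = k + 1) (hf : f ≠ 0) :
    ∃ (W : Scheme.{u}) (ι : W ⟶ CohB1.ProjSpaceOver 1 X) (_ : IsIntegral W) (_ : IsClosedImmersion ι),
      (δP (ι (genericPoint W)) = k + 1 ∧ ι (genericPoint W) ∉ Set.range ⇑(P1.sect X 0) ∧
        ι (genericPoint W) ∉ Set.range ⇑(P1.sect X 1)) ∧
      (∀ w, ξ ⤳ CohB1.ProjSpaceOver.toBase 1 X (ι w)) ∧
      ∀ x, Cyc.divFun δ ξ f x = Cyc.subschemeFun δ k (pullback.snd ι (P1.sect X 0)) x -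
        Cyc.subschemeFun δ k (pullback.snd ι (P1.sect X 1)) x := by
  haveI := hX.1
  obtain ⟨Z, hZi, c, hc, rfl⟩ : ∃ (Z : Scheme.{u}) (_ : IsIntegral Z) (c : Z ⟶ X) (_ : IsClosedImmersion c),
      c (genericPoint Z) = ξ :=
    ⟨Groth.L22.Cyc.clSub ξ, inferInstance, Groth.L22.Cyc.clι ξ, inferInstance, Groth.L22.Cyc.clι_genericPoint ξ⟩
  haveI : IsLocallyNoetherian Z := LocallyOfFiniteType.isLocallyNoetherian c
  have hsZ := Groth.L22.C1.isSetup_closedImmersion c hX
  have hg : c.residueFieldMap (genericPoint Z) f ≠ 0 := (map_ne_zero _).2 hf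
  obtain ⟨U, hU, s, hs, hse⟩ := exists_unit_fun _ hg
  let γ := P1.graph Z U s
  let p' := CohB1.ProjSpaceOver.toBase 1 Z
  haveI : IsProper p' := Groth.L16.ProjSpace.isProper_toBase 1 Z
  haveI : Nonempty U := ⟨⟨_, hU⟩⟩
  haveI : IsIntegral (↑U : Scheme.{u}) := isIntegral_of_isOpenImmersion U.ι
  haveI : IsImmersion γ := by
    haveI : IsImmersion (γ ≫ p') := by rw [graph_toBase]; infer_instance
    exact IsImmersion.of_comp γ p'
  haveI : QuasiCompact γ := by
    haveI : QuasiCompact (γ ≫ p') := by rw [graph_toBase]; infer_instance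
    exact QuasiCompact.of_comp γ p'
  let u₀ : ↥(↑U : Scheme.{u}) := ⟨genericPoint Z, hU⟩
  let w₀ : γ.image := γ.toImage u₀
  have hspec : ∀ z : γ.image, w₀ ⤳ z := fun z => by
    refine γ.imageι.isClosedEmbedding.isInducing.specializes_iff.1 ?_
    rw [show γ.imageι w₀ = γ u₀ by rw [← Scheme.Hom.comp_apply, Scheme.Hom.toImage_imageι]]
    refine specializes_iff_mem_closure.2 (closure_minimal ?_ isClosed_closure
      ((show Set.range γ.imageι = closure (Set.range γ) from by
        rw [Scheme.IdealSheafData.range_subschemeι, Scheme.Hom.support_ker]).le ⟨z, rfl⟩))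
    rintro _ ⟨v, rfl⟩
    exact specializes_iff_mem_closure.1 ((U.ι.isOpenEmbedding.isInducing.specializes_iff.1
      (genericPoint_specializes _) : u₀ ⤳ v).map γ.continuous)
  have hgen : IsGenericPoint w₀ Set.univ := Set.eq_univ_of_forall fun z => specializes_iff_mem_closure.1 (hspec z)
  haveI : IrreducibleSpace ↥γ.image :=
    { isPreirreducible_univ := (hgen ▸ isIrreducible_singleton.closure :
        IsIrreducible (Set.univ : Set ↥γ.image)).2
      toNonempty := ⟨w₀⟩ }
  haveI : IsReduced γ.image := Groth.L20.Chevalley.isReduced_image γ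
  haveI : IsIntegral γ.image := isIntegral_of_irreducibleSpace_of_isReduced _
  haveI : IsClosedImmersion (P1.toP1 c) :=
    MorphismProperty.pullbackMap (P := @IsClosedImmersion) (inferInstanceAs (IsClosedImmersion (𝟙 _)))
      ‹IsClosedImmersion c› (Category.id_comp _).symm (specULiftZIsTerminal.hom_ext _ _)
  let ι := γ.imageι ≫ P1.toP1 c
  haveI : IsClosedImmersion ι := inferInstance
  have hbase : ∀ w, CohB1.ProjSpaceOver.toBase 1 X (ι w) = c (p' (γ.imageι w)) := fun w => by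
    show (P1.toP1 c ≫ CohB1.ProjSpaceOver.toBase 1 X) (γ.imageι w) = (p' ≫ c) (γ.imageι w)
    rw [show P1.toP1 c ≫ CohB1.ProjSpaceOver.toBase 1 X = p' ≫ c from pullback.lift_snd _ _ _]
  have hι : ι w₀ = P1.toP1 c (γ u₀) := by
    show P1.toP1 c (γ.imageι (γ.toImage u₀)) = _
    rw [← Scheme.Hom.comp_apply γ.toImage, Scheme.Hom.toImage_imageι]
  have hw₀ : genericPoint ↥γ.image = w₀ := (genericPoint_spec _).eq hgen
  refine ⟨γ.image, ι, inferInstance, inferInstance, ?_, fun w => ?_, fun x => ?_⟩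
  · rw [hw₀]
    have hq : q X (ι w₀) = q Z (γ u₀) := by
      rw [hι, ← Scheme.Hom.comp_apply,
        show P1.toP1 c ≫ q X = q Z from (pullback.lift_fst _ _ _).trans (Category.comp_id _)]
    have hch : ι w₀ ∈ chartOpen X 0 := by
      show q X (ι w₀) ∈ dOpen 1 (ULift.{u} ℤ) 0
      rw [hq]
      exact graph_mem_chart U s u₀
    refine ⟨?_, ?_, notMem_range_sect X 1 0 rfl hch⟩
    · let j : (↑U : Scheme.{u}) ⟶ CohB1.ProjSpaceOver 1 X := γ ≫ P1.toP1 c
      have hj : j ≫ CohB1.ProjSpaceOver.toBase 1 X = U.ι ≫ c := by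
        rw [Category.assoc, show P1.toP1 c ≫ CohB1.ProjSpaceOver.toBase 1 X = p' ≫ c from pullback.lift_snd _ _ _,
          ← Category.assoc, graph_toBase]
      haveI : IsPreimmersion j := inferInstance
      have h1 := Groth.L22.Bundle.deltaCompat_comp j (CohB1.ProjSpaceOver.toBase 1 X) hP u₀
      obtain ⟨m, hm, hd⟩ := h1
      have h2 : Groth.L22.Cyc.rtrdeg (j ≫ CohB1.ProjSpaceOver.toBase 1 X) u₀ = 0 := by
        rw [Groth.L22.Cyc.rtrdeg_congr _ hj, Groth.L22.Bundle.rtrdeg_eq_zero]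
      have : m = 0 := Nat.cast_injective (R := Cardinal.{u}) (hm.symm.trans (h2.trans Nat.cast_zero.symm))
      change δP (j u₀) = δ ((j ≫ CohB1.ProjSpaceOver.toBase 1 X) u₀) + m at hd
      rw [hι, show P1.toP1 c (γ u₀) = j u₀ from rfl, hd, this, hj,
        show (U.ι ≫ c) u₀ = c (genericPoint Z) from rfl, hξ]
      simp
    · rintro ⟨x, hx⟩
      obtain ⟨z, hz⟩ : γ u₀ ∈ Set.range (P1.sect Z 0) := by
        obtain ⟨z, hz1, hz2⟩ := Scheme.exists_preimage_of_isPullback (isPullback_sect c 0) x (γ u₀) (hx.trans hι)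
        exact ⟨z, hz2⟩
      have h0 := (sect_spec Z 0).2.1.le ⟨z, hz⟩
      have h0 : Groth.L22.C1.mk (L Z) ((L Z).presheaf.germ ⊤ (P1.graph Z U s u₀) trivial (coord Z 1)) = 0 := h0
      rw [germ_coord_one Z (graph_mem_chart U s u₀), germ_coord Z 0 (graph_mem_chart U s u₀),
        Groth.L22.C1.mk_smul_eq_zero_iff (isInvertible_L Z) (Groth.L22.C1.isGen_germ (isFrame_coord Z 0) _)] at h0
      have h3 := graph_residueFieldMap U s u₀
      rw [h0, map_zero, eq_comm, map_eq_zero, map_eq_zero] at h3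
      exact (hs.map _).ne_zero h3
  · rw [hbase]
    exact (genericPoint_specializes _).map c.continuous
  · have hd : ∀ z, Cyc.divFun δ (c (genericPoint Z)) f (c z) =
        Cyc.subschemeFun (fun z => δ (c z)) k (pullback.snd γ.imageι (P1.sect Z 0)) z -
          Cyc.subschemeFun (fun z => δ (c z)) k (pullback.snd γ.imageι (P1.sect Z 1)) z := fun z => by
      rw [← Groth.L22.Cyc.divFun_closedImmersion c hX.2.2 _ f hf z, ← hse,
        divFun_eq U s _ hsZ (k + 1) hξ hU hs z, add_sub_cancel_right]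
      rfl
    rw [show ι = γ.imageι ≫ P1.toP1 c from rfl, subschemeFun_toP1, subschemeFun_toP1]
    by_cases hx : x ∈ Set.range c
    · obtain ⟨z, rfl⟩ := hx
      rw [hd, (subschemeFun_comp_closed _ c δ k).1, (subschemeFun_comp_closed _ c δ k).1]
    · rw [Groth.L22.Cyc.divFun_eq_zero_of_notMem_range c _ f hx, (subschemeFun_comp_closed _ c δ k).2 x hx,
        (subschemeFun_comp_closed _ c δ k).2 x hx, sub_zero]

end Groth.L22.P1Graph
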