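import Groth.Agent.L22.Cyc.P1Zero
import Groth.Agent.L22.C1.GysinSheaf
import Groth.Agent.L22.C1.Closed
import Groth.Agent.L22.Cyc.PushSheaf
import Groth.Agent.L22.Cyc.PushRat
import Groth.Agent.L22.Bundle.Immersion
import Groth.Agent.S9684

/-!
The fibres at `0` and `∞` of a coherent module on the projective line over `X` are rationally equivalent.
-/

set_option autoImplicit false
set_option linter.style.haveILetI false
set_option maxSynthPendingDepth 3
set_option backward.isDefEq.respectTransparency.types false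
set_option backward.isDefEq.respectTransparency false

universe u

open CategoryTheory CategoryTheory.Limits AlgebraicGeometry TopologicalSpace IsLocalRing

noncomputable section

namespace Groth.L22.P1Rat

open Groth.L22.IntMult (ptPrime specializes_fromSpecStalk mem_support_iff_nontrivial)

/-- The cycle of a coherent module with support of dimension at most `k`. -/
theorem exists_cycle_sheafFun {X : Scheme.{u}} [IsLocallyNoetherian X] {δ : X → ℤ} (hδ : Cyc.IsDimFun X δ)
    {F : X.Modules} (hF : Coh.IsCoh F) (k : ℤ) (hdim : ∀ x : X, Nontrivial (F.presheaf.stalk x) → δ x ≤ k) :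
    ∃ α : AlgebraicCycle X ℤ, ⇑α = Cyc.sheafFun δ k F := by
  refine Groth.L22.C1.exists_cycle _ fun x => ?_
  obtain ⟨_, ⟨V, hV, rfl⟩, hxV, -⟩ :=
    X.isBasis_affineOpens.exists_subset_of_mem_open (Set.mem_univ x) isOpen_univ
  haveI : IsNoetherianRing Γ(X, V) := IsLocallyNoetherian.component_noetherian ⟨V, hV⟩
  haveI : NoetherianSpace ↥V := noetherianSpace_of_isAffineOpen V hV
  haveI : QuasiSober ↥V := V.2.isOpenEmbedding_subtypeVal.quasiSober
  obtain ⟨S, hSf, hSc, hSi, hS⟩ := NoetherianSpace.exists_finite_set_isClosed_irreducible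
    ((Groth.L16.CohSupport.isClosed_support F hF.2).preimage
      (continuous_subtype_val : Continuous fun v : V => (v : X)))
  refine ⟨V, hxV, (hSf.biUnion' (t := fun C hC => ({((hSi C hC).genericPoint : X)} : Set X))
    fun C hC => Set.finite_singleton _).subset ?_⟩
  rintro z ⟨hz, hzV⟩
  obtain ⟨hzk, hnt⟩ := Groth.L22.IntMult.sheafFun_ne_zero hz
  have hz' : (⟨z, hzV⟩ : V) ∈ ⋃₀ S := hS ▸ (show (z : X) ∈ CohB1.support F from not_subsingleton_iff_nontrivial.2 hnt)
  obtain ⟨C, hC, hzC⟩ := hz'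
  have hg := (hSi C hC).isGenericPoint_genericPoint (hSc C hC)
  refine Set.mem_iUnion₂.2 ⟨C, hC, ?_⟩
  have hgT : (((hSi C hC).genericPoint : V) : X) ∈ CohB1.support F := by
    have := hS ▸ Set.mem_sUnion.2 ⟨C, hC, hg.mem⟩
    exact this
  by_contra hne
  have h1 := (hδ _ z ((hg.specializes hzC).map continuous_subtype_val) fun e => hne e.symm).1
  have h2 := hdim _ (not_subsingleton_iff_nontrivial.1 hgT)
  omega

variable {X D : Scheme.{u}} (i : D ⟶ X) [IsClosedImmersion i]

/-- The restriction of a coherent module to a closed subscheme does not vanish on the support. -/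
theorem nontrivial_stalk_pullback [IsLocallyNoetherian X] {F : X.Modules} (hF : Coh.IsCoh F)
    {L : X.Modules} {s : L.presheaf.obj (Opposite.op ⊤)} (hD : Cyc.IsZeroSchemeOf i L s) (d : D)
    (hnt : Nontrivial (F.presheaf.stalk (i d))) :
    Nontrivial (((Scheme.Modules.pullback i).obj F).presheaf.stalk d) := by
  haveI := hnt
  haveI := Groth.L15.Ref.finite_stalk hF (i d)
  obtain ⟨t, f, -, -, hk⟩ := hD.2 d
  refine not_subsingleton_iff_nontrivial.1 fun h => ?_
  have h0 : Module.length (D.presheaf.stalk d) (((Scheme.Modules.pullback i).obj F).presheaf.stalk d) = 0 :=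
    Module.length_eq_zero_iff.2 h
  rw [Groth.L22.C1.length_stalk_pullback_hyper i F d f hk, Module.length_eq_zero_iff,
    Submodule.Quotient.subsingleton_iff] at h0
  have hf : f ∈ maximalIdeal (X.presheaf.stalk (i d)) :=
    (le_maximalIdeal (RingHom.ker_ne_top _)) (hk.ge (Ideal.mem_span_singleton_self f))
  have htop : (⊤ : Submodule (X.presheaf.stalk (i d)) (F.presheaf.stalk (i d))) ≤
      maximalIdeal (X.presheaf.stalk (i d)) • ⊤ := fun v _ => by
    obtain ⟨w, rfl⟩ := h0.ge (Submodule.mem_top : v ∈ ⊤)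
    exact Submodule.smul_mem_smul hf trivial
  exact top_ne_bot (Submodule.eq_bot_of_le_smul_of_le_jacobson_bot _ _ Module.Finite.fg_top htop
    (IsLocalRing.jacobson_eq_maximalIdeal ⊥ bot_ne_top).ge)

/-- Regularity of the coefficient of a section at a point of the zero scheme. -/
theorem injective_of_not_associated [IsLocallyNoetherian X] {δ : X → ℤ} (hδ : Cyc.IsDimFun X δ)
    {F : X.Modules} (hF : Coh.IsCoh F) (k : ℤ) (hdim : ∀ x : X, Nontrivial (F.presheaf.stalk x) → δ x ≤ k + 1)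
    {L : X.Modules} (hL : PicF.IsInvertible L) {s : L.presheaf.obj (Opposite.op ⊤)} (hD : Cyc.IsZeroSchemeOf i L s)
    (hout : ∀ ξ : X, δ ξ = k + 1 → Nontrivial (F.presheaf.stalk ξ) → ξ ∉ Set.range i)
    (d : D) (hd : δ (i d) = k)
    (hass : ¬ IsAssociatedPrime (maximalIdeal (X.presheaf.stalk (i d))) (F.presheaf.stalk (i d)))
    (t : L.presheaf.stalk (i d)) (f : X.presheaf.stalk (i d))
    (ht : Submodule.span (X.presheaf.stalk (i d)) {t} = ⊤)
    (hf : (L.presheaf.germ ⊤ (i d) trivial) s = f • t) :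
    Function.Injective (fun m : F.presheaf.stalk (i d) => f • m) := by
  haveI := Groth.L15.Ref.finite_stalk hF (i d)
  intro m m' hmm
  by_contra hne
  have hz : f ∈ ⋃ p ∈ associatedPrimes (X.presheaf.stalk (i d)) (F.presheaf.stalk (i d)), (p : Set (X.presheaf.stalk (i d))) := by
    rw [biUnion_associatedPrimes_eq_zero_divisors]
    exact ⟨m - m', sub_ne_zero.2 hne, by rw [smul_sub, sub_eq_zero]; exact hmm⟩
  obtain ⟨p, hp, hfp⟩ := Set.mem_iUnion₂.1 hz
  have hpp : p.IsPrime := IsAssociatedPrime.isPrime hp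
  let P : PrimeSpectrum (X.presheaf.stalk (i d)) := ⟨p, hpp⟩
  have hpm : p ≠ maximalIdeal (X.presheaf.stalk (i d)) := fun e => hass (e ▸ hp)
  have hps : P ∈ Module.support (X.presheaf.stalk (i d)) (F.presheaf.stalk (i d)) := by
    rw [Module.mem_support_iff_of_finite]
    have h1 := IsAssociatedPrime.annihilator_le hp
    rwa [Submodule.annihilator_top] at h1
  have hnt := (mem_support_iff_nontrivial hF P).1 hps
  obtain ⟨ξ, hξd⟩ : ∃ ξ, X.fromSpecStalk (i d) P = ξ := ⟨_, rfl⟩
  rw [hξd] at hnt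
  have h : ξ ⤳ i d := hξd ▸ specializes_fromSpecStalk P
  have hξ : δ ξ = k + 1 := by
    have h1 := Groth.L22.C1.delta_lt_of_lt hδ (show P < closedPoint (X.presheaf.stalk (i d)) from
      lt_of_le_of_ne (le_maximalIdeal hpp.ne_top) fun e => hpm (congrArg PrimeSpectrum.asIdeal e))
    rw [Scheme.fromSpecStalk_closedPoint, hd, hξd] at h1
    have := hdim _ hnt
    omega
  refine hout ξ hξ hnt (hD.1.ge ?_)
  show Groth.L22.C1.mk L _ = 0
  rw [← TopCat.Presheaf.germ_stalkSpecializes_apply L.presheaf (U := ⊤) (y := i d) trivial h s, hf,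
    Groth.L15.SecOrd.stalkSpecializes_smul,
    Groth.L22.C1.mk_smul_eq_zero_iff hL (Groth.L22.C1.IsGen.specializes hL h ht)]
  refine (IsLocalRing.residue_eq_zero_iff _).2 ?_
  have h2 : f ∈ (ptPrime h).asIdeal := by
    rw [← Groth.L22.IntMult.eq_ptPrime hξd h]
    exact hfp
  exact h2

section Fibres

variable (X : Scheme.{u}) {δ : X → ℤ} {δP : ↥(CohB1.ProjSpaceOver 1 X) → ℤ}
  (hP : Cyc.DeltaCompat (CohB1.ProjSpaceOver.toBase 1 X) δP δ) (j : Fin (1 + 1))

theorem toBase_sect (x : X) : CohB1.ProjSpaceOver.toBase 1 X (P1.sect X j x) = x := by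
  rw [← Scheme.Hom.comp_apply, Groth.L07.BlowLib.sect_toBase]
  rfl

include hP in
theorem delta_sect [IsClosedImmersion (P1.sect X j)] (x : X) : δP (P1.sect X j x) = δ x := by
  have h1 := Groth.L22.Bundle.deltaCompat_comp (P1.sect X j) (CohB1.ProjSpaceOver.toBase 1 X) hP
  rw [Groth.L07.BlowLib.sect_toBase] at h1
  obtain ⟨n, hn, e⟩ := h1 x
  obtain ⟨n', hn', e'⟩ := Groth.L22.C1.deltaCompat_closedImmersion (𝟙 X) δ x
  have : n = n' := Nat.cast_injective (R := Cardinal.{u}) (hn.symm.trans hn')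
  have e2 : (δ x : ℤ) = δ x + n' := e'
  have e3 : δP (P1.sect X j x) = δ x + n := e
  omega

theorem residueDegree_sect [IsClosedImmersion (P1.sect X j)] (x : X) :
    (CohB1.ProjSpaceOver.toBase 1 X).residueDegree (P1.sect X j x) = 1 := by
  haveI : IsClosedImmersion (P1.sect X j ≫ CohB1.ProjSpaceOver.toBase 1 X) := by
    rw [Groth.L07.BlowLib.sect_toBase]; infer_instance
  refine Groth.L22.Cyc.residueDegree_eq_one _ _ ?_
  have h := Groth.L22.Cyc.residueFieldMap_bijective' (P1.sect X j ≫ CohB1.ProjSpaceOver.toBase 1 X) x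
  rw [Scheme.residueFieldMap_comp] at h
  exact (Function.Bijective.of_comp_iff' (Groth.L22.Cyc.residueFieldMap_bijective' (P1.sect X j) x) _).1 h

include hP in
theorem map_eq_of_support_sect [IsClosedImmersion (P1.sect X j)] [QuasiCompact (CohB1.ProjSpaceOver.toBase 1 X)]
    (γ : AlgebraicCycle (CohB1.ProjSpaceOver 1 X) ℤ) (hγ : ∀ y, y ∉ Set.range (P1.sect X j) → γ y = 0) (x : X) :
    AlgebraicCycle.map (CohB1.ProjSpaceOver.toBase 1 X) δP δ γ x = γ (P1.sect X j x) := by
  set p := CohB1.ProjSpaceOver.toBase 1 X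
  show (∑ᶠ y ∈ p ⁻¹' {x}, γ y * ((AlgebraicCycle.mapCoeff p δP δ y : ℕ) : ℤ)) = _
  have hc : AlgebraicCycle.mapCoeff p δP δ (P1.sect X j x) = 1 := by
    refine (if_pos ?_).trans (residueDegree_sect X j x)
    show δP (P1.sect X j x) = δ (p (P1.sect X j x))
    rw [toBase_sect, delta_sect X hP]
  rw [finsum_mem_eq_sum_of_inter_support_eq _ (t := {P1.sect X j x}), Finset.sum_singleton, hc, Nat.cast_one,
    mul_one]
  ext y
  simp only [Set.mem_inter_iff, Function.mem_support, Finset.coe_singleton, Set.mem_singleton_iff]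
  refine ⟨fun ⟨hy, hne⟩ => ⟨?_, hne⟩, fun ⟨hy, hne⟩ => ⟨?_, hne⟩⟩
  · obtain ⟨z, rfl⟩ : y ∈ Set.range (P1.sect X j) := by_contra fun h => left_ne_zero_of_mul hne (hγ y h)
    rw [← toBase_sect X j z]
    exact congrArg _ hy
  · rw [hy]
    exact toBase_sect X j x

end Fibres

/-- The fibres at `0` and `∞` are rationally equivalent. -/
theorem ratEquiv_fibres (X : Scheme.{u}) (δ : X → ℤ) (hX : Cyc.IsSetup X δ)
    (δP : ↥(CohB1.ProjSpaceOver 1 X) → ℤ) (hP : Cyc.DeltaCompat (CohB1.ProjSpaceOver.toBase 1 X) δP δ) (k : ℤ)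
    (F : (CohB1.ProjSpaceOver 1 X).Modules) (hF : Coh.IsCoh F)
    (hsupp : ∀ p : ↥(CohB1.ProjSpaceOver 1 X), Nontrivial (F.presheaf.stalk p) → δP p ≤ k + 1)
    (h : ∀ (j : Fin (1 + 1)) (x : X),
      Nontrivial (((Scheme.Modules.pullback (P1.sect X j)).obj F).presheaf.stalk x) → δ x ≤ k)
    (hemb : ∀ (j : Fin (1 + 1)) (x : X), δP (P1.sect X j x) = k →
      ¬ IsAssociatedPrime (maximalIdeal ((CohB1.ProjSpaceOver 1 X).presheaf.stalk (P1.sect X j x)))
        (F.presheaf.stalk (P1.sect X j x)))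
    (α β : AlgebraicCycle X ℤ) (hα : ⇑α = Cyc.sheafFun δ k ((Scheme.Modules.pullback (P1.sect X 0)).obj F))
    (hβ : ⇑β = Cyc.sheafFun δ k ((Scheme.Modules.pullback (P1.sect X 1)).obj F)) : Cyc.RatEquiv δ k α β := by
  classical
  haveI := hX.1
  obtain ⟨L, σ, hL, hσ⟩ := Groth.L22.P1Zero.exists_sections X
  set p := CohB1.ProjSpaceOver.toBase 1 X
  haveI : IsProper p := Groth.L16.ProjSpace.isProper_toBase 1 X
  haveI : IsLocallyNoetherian (CohB1.ProjSpaceOver 1 X) := LocallyOfFiniteType.isLocallyNoetherian p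
  have hdP : Cyc.IsDimFun (CohB1.ProjSpaceOver 1 X) δP := Groth.Agent.S9684.result p δ hX δP hP
  obtain ⟨A, hA⟩ := exists_cycle_sheafFun hdP hF (k + 1) hsupp
  have hAk : A ∈ Cyc.Zk _ δP (k + 1) := fun z hz => by rw [hA]; exact if_neg hz
  choose w hw using fun ξ => Groth.L22.C1.exists_isGen hL ξ
  have hw0 : ∀ ξ, Groth.L22.C1.mk L (w ξ) ≠ 0 := fun ξ => Groth.L22.C1.mk_gen_ne_zero hL (hw ξ)
  choose γ hγ using fun j : Fin (1 + 1) => Groth.L22.C1.exists_cycle_c1Cap hdP hL A
    (Cyc.gysinChoice L (σ j) fun ξ => Groth.L22.C1.mk L (w ξ)) (Groth.L22.C1.gysinChoice_ne_zero _ _ hw0)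
  have key : ∀ j, ⇑(AlgebraicCycle.map p δP δ (γ j)) =
      Cyc.sheafFun δ k ((Scheme.Modules.pullback (P1.sect X j)).obj F) := fun j => by
    obtain ⟨hcl, hD⟩ := hσ j
    have hd := delta_sect X hP j
    have hout : ∀ ξ, δP ξ = k + 1 → Nontrivial (F.presheaf.stalk ξ) → ξ ∉ Set.range (P1.sect X j) := by
      rintro ξ hξ hnt ⟨x, rfl⟩
      have := h j x (nontrivial_stalk_pullback (P1.sect X j) hF hD x hnt)
      rw [hd] at hξ
      omega
    funext x
    rw [map_eq_of_support_sect X hP j (γ j) (fun y hy => ?_) x, hγ, hA,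
      Groth.L22.C1.gysin_sheafFun' (P1.sect X j) hdP hL (σ j) hD k F hF hsupp hout
        (fun d hd' => injective_of_not_associated (P1.sect X j) hdP hF k hsupp hL hD hout d hd' (hemb j d hd'))]
    · rw [show (fun d => δP (P1.sect X j d)) = δ from funext hd]
    · rw [hγ]
      refine finsum_eq_zero_of_forall_eq_zero fun ξ => ?_
      rw [Groth.L22.C1.secDivFun_gysin_eq_zero _ _ hdP hL hD _ ξ hy, mul_zero]
  have h1 := Groth.L22.Cyc.ratEquiv_map p hdP hX.2.2 hP k (γ 0) (γ 1)
    (Groth.L22.C1.c1Cap_ratEquiv δP hdP hL k A hAk _ _ (Groth.L22.C1.gysinChoice_ne_zero _ _ hw0)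
      (Groth.L22.C1.gysinChoice_ne_zero _ _ hw0) (γ 0) (γ 1) (hγ 0) (hγ 1))
  rwa [show AlgebraicCycle.map p δP δ (γ 0) = α from DFunLike.coe_injective ((key 0).trans hα.symm),
    show AlgebraicCycle.map p δP δ (γ 1) = β from DFunLike.coe_injective ((key 1).trans hβ.symm)] at h1

end Groth.L22.P1Rat
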