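import Groth.Agent.L22.Cyc.P1Sub
import Groth.Agent.L22.Cyc.PushRat
import Groth.Agent.L22.Cyc.P1Rat
import Groth.Agent.L22.Sp.Subscheme
import Groth.Agent.L20.Chevalley.Birat
import Groth.Agent.L22.C1.Family
import Groth.Agent.L16.CohClosedPush

/-!
The divisor of a function is the difference of the fibres at `0` and `∞` of the closure of its graph.
-/

set_option autoImplicit false
set_option linter.style.haveILetI false
set_option linter.unusedSectionVars false
set_option maxSynthPendingDepth 3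
set_option backward.isDefEq.respectTransparency.types false
set_option backward.isDefEq.respectTransparency false

universe u

open CategoryTheory CategoryTheory.Limits AlgebraicGeometry TopologicalSpace Opposite IsLocalRing MvPolynomial
open Groth.L18.Frame (rs ro rs_rs rs_smul rs_self IsFrame pull)
open Groth.L16.ProjSpace

noncomputable section

namespace Groth.L22.P1Graph

variable (X : Scheme.{u})

/-- The coordinate projection. -/
abbrev q : CohB1.ProjSpaceOver 1 X ⟶ CohB1.ProjSpace 1 (ULift.{u} ℤ) :=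
  pullback.fst (CohB1.ProjSpace.toSpec 1 (ULift.{u} ℤ)) (specULiftZIsTerminal.from X)

/-- `O(1)`. -/
abbrev L₀ : (CohB1.ProjSpace 1 (ULift.{u} ℤ)).Modules :=
  Twist.twist (CohB1.polyGrading 1 (ULift.{u} ℤ)) ((1 : ℕ) : ℤ)

/-- `O(1)` on the line over `X`. -/
abbrev L : (CohB1.ProjSpaceOver 1 X).Modules := (Scheme.Modules.pullback (q X)).obj L₀

/-- The coordinates. -/
def coord (k : Fin (1 + 1)) : (L X).presheaf.obj (Opposite.op ⊤) := pull (q X) L₀ ⊤ (xsec 1 (ULift.{u} ℤ) k)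

theorem isInvertible_L : PicF.IsInvertible (L X) :=
  Groth.L18.Ample.isInvertible_pullback (q X)
    (Groth.L16.ProjTwist.isInvertible_twistProjSpace 1 (ULift.{u} ℤ) ((1 : ℕ) : ℤ))

theorem sect_spec (i : Fin (1 + 1)) :
    IsClosedImmersion (P1.sect X i) ∧ Cyc.IsZeroSchemeOf (P1.sect X i) (L X) (coord X (1 - i)) := by
  haveI := Groth.L22.P1Zero.isClosedImmersion_point.{u} i
  have hj : (1 - i : Fin (1 + 1)) ≠ i := by fin_cases i <;> simp
  have hsq : IsPullback (specULiftZIsTerminal.from X) (P1.sect X i) (P1.point.{u} i) (q X) := by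
    refine IsPullback.of_bot ?_ ?_ (IsPullback.of_hasPullback (CohB1.ProjSpace.toSpec 1 (ULift.{u} ℤ))
      (specULiftZIsTerminal.from X))
    · rw [Groth.L22.P1Zero.point_toSpec]
      erw [Groth.L07.BlowLib.sect_toBase]
      exact IsPullback.of_vert_isIso ⟨by simp⟩
    · exact (pullback.lift_fst _ _ _).symm
  refine ⟨MorphismProperty.of_isPullback hsq inferInstance,
    Groth.L22.P1Zero.isZeroSchemeOf_iso _ _ hsq.flip.isoPullback.hom hsq.flip.isoPullback_hom_fst
    (Groth.L22.C1.isZeroScheme_base (q X) (P1.point.{u} i)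
      (Groth.L16.ProjTwist.isInvertible_twistProjSpace 1 (ULift.{u} ℤ) ((1 : ℕ) : ℤ)) _
      (Groth.L22.P1Zero.isZeroScheme_point i _ hj))⟩

/-- The chart. -/
abbrev chartOpen (k : Fin (1 + 1)) : (CohB1.ProjSpaceOver 1 X).Opens := q X ⁻¹ᵁ dOpen 1 (ULift.{u} ℤ) k

theorem isFrame_coord (k : Fin (1 + 1)) : IsFrame (L X) (chartOpen X k) (rs (L X) le_top (coord X k)) := by
  have h := (isFrame_xsec 1 (ULift.{u} ℤ) k).pullback (q X)
  rwa [← Groth.L18.Frame.pull_rs (q X) L₀ (le_top : dOpen 1 (ULift.{u} ℤ) k ≤ ⊤)] at h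

theorem germ_coord (k : Fin (1 + 1)) {y : ↥(CohB1.ProjSpaceOver 1 X)} (hy : y ∈ chartOpen X k) :
    (L X).presheaf.germ ⊤ y trivial (coord X k) =
      (L X).presheaf.germ (chartOpen X k) y hy (rs (L X) le_top (coord X k)) :=
  (TopCat.Presheaf.germ_res_apply (L X).presheaf (homOfLE le_top) y hy _).symm

theorem notMem_range_sect (i k : Fin (1 + 1)) (hk : k = 1 - i) {y : ↥(CohB1.ProjSpaceOver 1 X)}
    (hy : y ∈ chartOpen X k) : y ∉ Set.range (P1.sect X i) := fun h => by
  subst hk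
  have h0 := (sect_spec X i).2.1.le h
  rw [Set.mem_setOf_eq, germ_coord X _ hy] at h0
  exact Groth.L22.C1.mk_gen_ne_zero (isInvertible_L X)
    (Groth.L22.C1.isGen_germ (isFrame_coord X _) hy) h0

theorem sect_zero_ne_sect_one (x : X) : P1.sect X 0 x ≠ P1.sect X 1 x := fun h => by
  obtain ⟨k, hk⟩ := exists_mem_basicOpen_X 1 (ULift.{u} ℤ) (q X (P1.sect X 0 x))
  obtain rfl | rfl : k = 0 ∨ k = 1 := by fin_cases k <;> simp
  · exact notMem_range_sect X 1 0 rfl hk ⟨x, h.symm⟩
  · exact notMem_range_sect X 0 1 rfl hk ⟨x, rfl⟩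

/-- The affine coordinate on the chart `T₀ ≠ 0`. -/
def tcoord : Γ(CohB1.ProjSpaceOver 1 X, chartOpen X 0) :=
  (q X).app (dOpen 1 (ULift.{u} ℤ) 0)
    (Groth.L16.ProjTwist.ratio (CohB1.polyGrading 1 (ULift.{u} ℤ)) (Xd 1 (ULift.{u} ℤ) 1) (Xd 1 (ULift.{u} ℤ) 0))

theorem coord_one_eq : rs (L X) (le_top : chartOpen X 0 ≤ ⊤) (coord X 1) =
    tcoord X • rs (L X) (le_top : chartOpen X 0 ≤ ⊤) (coord X 0) := by
  have h := congrArg (pull (q X) L₀ (dOpen 1 (ULift.{u} ℤ) 0)) (rs_xsec_eq 1 (ULift.{u} ℤ) 0 1)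
  rwa [Groth.L18.Frame.pull_smul (q X) L₀, ← Groth.L18.Frame.pull_rs (q X) L₀ (le_top : dOpen 1 (ULift.{u} ℤ) 0 ≤ ⊤),
    ← Groth.L18.Frame.pull_rs (q X) L₀ (le_top : dOpen 1 (ULift.{u} ℤ) 0 ≤ ⊤)] at h

theorem germ_coord_one {y : ↥(CohB1.ProjSpaceOver 1 X)} (hy : y ∈ chartOpen X 0) :
    (L X).presheaf.germ ⊤ y trivial (coord X 1) =
      (CohB1.ProjSpaceOver 1 X).presheaf.germ (chartOpen X 0) y hy (tcoord X) •
        (L X).presheaf.germ ⊤ y trivial (coord X 0) := by
  rw [germ_coord X 0 hy, ← Groth.L20.ModStalk.germ_smul, ← coord_one_eq]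
  exact (TopCat.Presheaf.germ_res_apply (L X).presheaf (homOfLE le_top) y hy _).symm

variable {X}

theorem germ_app_congr {A B : Scheme.{u}} {h h' : A ⟶ B} (e : h = h') {W : B.Opens} (b : Γ(B, W)) (x : A)
    (hx : h x ∈ W) (hx' : h' x ∈ W) :
    A.presheaf.germ (h ⁻¹ᵁ W) x hx (h.app W b) = A.presheaf.germ (h' ⁻¹ᵁ W) x hx' (h'.app W b) := by
  subst e; rfl

theorem chartMap_ratio (B : Type u) [CommRing B] (b : B) :
    P1.chartMap 0 B b (ratio 1 (ULift.{u} ℤ) 0 1) = b := by
  have h := congrArg (IsLocalization.Away.lift (S := Localization.Away (P1.T.{u} 0)) (P1.T.{u} 0)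
    (g := MvPolynomial.eval₂Hom ((Int.castRingHom B).comp ULift.ringEquiv.toRingHom)
      (Function.update (fun _ => b) 0 1)) (by simp)) (val_ratio_mul 1 (ULift.{u} ℤ) 0 1)
  rw [map_mul, IsLocalization.Away.lift_eq, IsLocalization.Away.lift_eq] at h
  simp at h
  exact h

variable (U : X.Opens) (f : Γ(X, U))

/-- The coordinate map of the graph. -/
abbrev kmap : (↑U : Scheme.{u}) ⟶ CohB1.ProjSpace 1 (ULift.{u} ℤ) :=
  (U.toSpecΓ ≫ Spec.map (CommRingCat.ofHom ((P1.chartMap 0 Γ(X, U) f).comp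
    (awayEquiv 1 (ULift.{u} ℤ) 0).toRingHom))) ≫ chart 1 (ULift.{u} ℤ) 0

theorem graph_q : P1.graph X U f ≫ q X = kmap U f := by
  refine (pullback.lift_fst _ _ _).trans ?_
  rw [kmap, chart, Category.assoc]
  refine congrArg (U.toSpecΓ ≫ ·) ?_
  refine Eq.trans ?_ (Category.assoc _ _ _)
  rw [← Spec.map_comp]
  refine congrArg (· ≫ _) ?_
  refine congrArg Spec.map (CommRingCat.hom_ext (RingHom.ext fun x => ?_))
  show P1.chartMap 0 Γ(X, U) f x = P1.chartMap 0 Γ(X, U) f (awayEquiv 1 (ULift.{u} ℤ) 0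
    ((awayEquiv 1 (ULift.{u} ℤ) 0).symm x))
  rw [RingEquiv.apply_symm_apply]

theorem graph_toBase : P1.graph X U f ≫ CohB1.ProjSpaceOver.toBase 1 X = U.ι := pullback.lift_snd _ _ _

theorem graph_mem_chart (u : U) : P1.graph X U f u ∈ chartOpen X 0 := by
  show q X (P1.graph X U f u) ∈ dOpen 1 (ULift.{u} ℤ) 0
  rw [← Scheme.Hom.comp_apply, graph_q, Scheme.Hom.comp_apply]
  exact (opensRange_chart 1 (ULift.{u} ℤ) 0).le ⟨_, rfl⟩

theorem graph_tcoord (u : U) :
    (P1.graph X U f).stalkMap u ((CohB1.ProjSpaceOver 1 X).presheaf.germ (chartOpen X 0) _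
        (graph_mem_chart U f u) (tcoord X)) =
      U.ι.stalkMap u (X.presheaf.germ U _ u.2 f) := by
  rw [Scheme.Hom.germ_stalkMap_apply]
  refine Eq.trans ?_ (Scheme.Hom.germ_stalkMap_apply U.ι U u u.2 f).symm
  have hk : kmap U f u ∈ dOpen 1 (ULift.{u} ℤ) 0 := by
    rw [← graph_q, Scheme.Hom.comp_apply]; exact graph_mem_chart U f u
  let a := Groth.L16.ProjTwist.ratio (CohB1.polyGrading 1 (ULift.{u} ℤ)) (Xd 1 (ULift.{u} ℤ) 1) (Xd 1 (ULift.{u} ℤ) 0)
  have h1 : (↑U : Scheme.{u}).presheaf.germ (P1.graph X U f ⁻¹ᵁ chartOpen X 0) u (graph_mem_chart U f u)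
      ((P1.graph X U f).app (chartOpen X 0) (tcoord X)) =
      (↑U : Scheme.{u}).presheaf.germ (kmap U f ⁻¹ᵁ dOpen 1 (ULift.{u} ℤ) 0) u hk ((kmap U f).app _ a) :=
    (germ_app_congr (graph_q U f).symm a u hk (by rw [graph_q]; exact hk)).symm
  refine h1.trans ?_
  let φ := CommRingCat.ofHom ((P1.chartMap 0 Γ(X, U) f).comp (awayEquiv 1 (ULift.{u} ℤ) 0).toRingHom)
  let χ := chart 1 (ULift.{u} ℤ) 0
  have hχ : (⊤ : Opens _) ≤ χ ⁻¹ᵁ dOpen 1 (ULift.{u} ℤ) 0 := fun z _ =>
    (opensRange_chart 1 (ULift.{u} ℤ) 0).le ⟨z, rfl⟩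
  have hle : (⊤ : (↑U : Scheme.{u}).Opens) ≤ kmap U f ⁻¹ᵁ dOpen 1 (ULift.{u} ℤ) 0 := fun z _ => hχ trivial
  have h2 : (kmap U f).appLE (dOpen 1 (ULift.{u} ℤ) 0) ⊤ hle a = U.topIso.inv f := by
    rw [show (kmap U f).appLE (dOpen 1 (ULift.{u} ℤ) 0) ⊤ hle = χ.appLE (dOpen 1 (ULift.{u} ℤ) 0) ⊤ hχ ≫
      (U.toSpecΓ ≫ Spec.map φ).appLE ⊤ ⊤ le_top from
      (Scheme.Hom.appLE_comp_appLE (U.toSpecΓ ≫ Spec.map φ) χ _ ⊤ ⊤ hχ le_top).symm, CommRingCat.comp_apply,
      chart_appLE_ratio 1 (ULift.{u} ℤ) 0 1 hχ,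
      show (U.toSpecΓ ≫ Spec.map φ).appLE ⊤ ⊤ le_top = (U.toSpecΓ ≫ Spec.map φ).appTop from
        (Scheme.Hom.app_eq_appLE _).symm, Scheme.Hom.comp_appTop, CommRingCat.comp_apply,
      ← CommRingCat.comp_apply (Scheme.ΓSpecIso _).inv, ← Scheme.ΓSpecIso_inv_naturality φ, CommRingCat.comp_apply,
      Scheme.Opens.toSpecΓ_appTop, CommRingCat.comp_apply]
    refine congrArg U.topIso.inv ((Iso.inv_hom_id_apply (Scheme.ΓSpecIso (CommRingCat.of Γ(X, U))) _).trans ?_)
    show P1.chartMap 0 Γ(X, U) f (awayEquiv 1 (ULift.{u} ℤ) 0 (cratio 1 (ULift.{u} ℤ) 0 1)) = f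
    rw [cratio, dif_neg (by decide)]
    show P1.chartMap 0 Γ(X, U) f (toAway 1 (ULift.{u} ℤ) 0 (MvPolynomial.X _)) = f
    rw [toAway_X, chartMap_ratio]
  rw [← TopCat.Presheaf.germ_res_apply (↑U : Scheme.{u}).presheaf (homOfLE hle) u (trivial : u ∈ (⊤ : (↑U : Scheme.{u}).Opens))]
  refine Eq.trans (congrArg _ h2) ?_
  have h3 : U.ι.appLE U ⊤ (fun z _ => z.2) f = U.topIso.inv f := by
    rw [Scheme.Opens.ι_appLE]; rfl
  rw [← h3, Scheme.Hom.appLE, CommRingCat.comp_apply]
  exact TopCat.Presheaf.germ_res_apply _ _ _ _ _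

theorem graph_residueFieldMap (u : U) :
    (P1.graph X U f).residueFieldMap u ((CohB1.ProjSpaceOver 1 X).residue (P1.graph X U f u)
        ((CohB1.ProjSpaceOver 1 X).presheaf.germ (chartOpen X 0) _ (graph_mem_chart U f u) (tcoord X))) =
      (P1.graph X U f).residueFieldMap u ((CohB1.ProjSpaceOver.toBase 1 X).residueFieldMap (P1.graph X U f u)
        (X.evaluation U (CohB1.ProjSpaceOver.toBase 1 X (P1.graph X U f u))
          (by rw [← Scheme.Hom.comp_apply, graph_toBase]; exact u.2) f)) := by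
  let p := CohB1.ProjSpaceOver.toBase 1 X
  let γ := P1.graph X U f
  have hpu : p (γ u) ∈ U := by rw [← Scheme.Hom.comp_apply, graph_toBase]; exact u.2
  have l1 : γ.residueFieldMap u ((CohB1.ProjSpaceOver 1 X).residue (γ u)
      ((CohB1.ProjSpaceOver 1 X).presheaf.germ (chartOpen X 0) _ (graph_mem_chart U f u) (tcoord X))) =
      (↑U : Scheme.{u}).residue u (γ.stalkMap u
        ((CohB1.ProjSpaceOver 1 X).presheaf.germ (chartOpen X 0) _ (graph_mem_chart U f u) (tcoord X))) :=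
    congr($(Scheme.residue_residueFieldMap γ u) _)
  have l2 : γ.residueFieldMap u (p.residueFieldMap (γ u) (X.evaluation U (p (γ u)) hpu f)) =
      (↑U : Scheme.{u}).residue u (γ.stalkMap u (p.stalkMap (γ u) (X.presheaf.germ U _ hpu f))) := by
    show γ.residueFieldMap u (p.residueFieldMap (γ u) (X.residue (p (γ u)) (X.presheaf.germ U _ hpu f))) = _
    exact (congrArg (γ.residueFieldMap u) (congr($(Scheme.residue_residueFieldMap p (γ u)) _))).trans
      (congr($(Scheme.residue_residueFieldMap γ u) _))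
  rw [l1, l2]
  refine congrArg ((↑U : Scheme.{u}).residue u) ?_
  rw [graph_tcoord]
  have h1 := Scheme.Hom.germ_stalkMap_apply (γ ≫ p) U u hpu f
  rw [Scheme.Hom.stalkMap_comp, CommRingCat.comp_apply] at h1
  refine Eq.trans ?_ h1.symm
  refine (Scheme.Hom.germ_stalkMap_apply U.ι U u u.2 f).trans ?_
  exact germ_app_congr (graph_toBase U f).symm f u u.2 hpu

theorem evaluation_congr {η η' : X} (e : η' = η) {δ : X → ℤ} (hη : η ∈ U) (hη' : η' ∈ U) :
    Cyc.divFun δ η' (X.evaluation U η' hη' f) = Cyc.divFun δ η (X.evaluation U η hη f) := by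
  subst e; rfl

theorem normGen_residueFieldMap {A B : Scheme.{u}} (h : A ⟶ B) (x : A) (hx : h.residueDegree x = 1)
    (c : B.residueField (h x)) : Cyc.normGen h x (h.residueFieldMap x c) = c := by
  letI := (h.residueFieldMap x).hom.toAlgebra
  show Algebra.norm (B.residueField (h x)) (algebraMap (B.residueField (h x)) (A.residueField x) c) = c
  rw [Algebra.norm_algebraMap, show Module.finrank (B.residueField (h x)) (A.residueField x) = 1 from hx, pow_one]

set_option maxHeartbeats 1000000 in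
theorem divFun_eq [IsIntegral X] (δ : X → ℤ) (hX : Cyc.IsSetup X δ) (n : ℤ) (hn : δ (genericPoint X) = n)
    (hη : genericPoint X ∈ U) (hf : IsUnit f) (x : X) :
    Cyc.divFun δ (genericPoint X) (X.evaluation U (genericPoint X) hη f) x =
      Cyc.subschemeFun δ (n - 1) (pullback.snd (P1.graphClosureι X U f) (P1.sect X 0)) x -
        Cyc.subschemeFun δ (n - 1) (pullback.snd (P1.graphClosureι X U f) (P1.sect X 1)) x := by
  classical
  haveI := hX.1
  set P := CohB1.ProjSpaceOver 1 X with hP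
  let p := CohB1.ProjSpaceOver.toBase 1 X
  haveI : IsProper p := Groth.L16.ProjSpace.isProper_toBase 1 X
  haveI : IsLocallyNoetherian P := LocallyOfFiniteType.isLocallyNoetherian p
  obtain ⟨δP, hsP, hδP⟩ := Groth.L22.Cyc.exists_setup p hX
  have hdP := hsP.2.2
  let γ := P1.graph X U f
  haveI : Nonempty U := ⟨⟨_, hη⟩⟩
  haveI : IsIntegral (↑U : Scheme.{u}) := isIntegral_of_isOpenImmersion U.ι
  haveI : IsImmersion γ := by
    haveI : IsImmersion (γ ≫ p) := by rw [graph_toBase]; infer_instance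
    exact IsImmersion.of_comp γ p
  haveI : QuasiCompact γ := by
    haveI : QuasiCompact (γ ≫ p) := by rw [graph_toBase]; infer_instance
    exact QuasiCompact.of_comp γ p
  let u₀ : U := ⟨genericPoint X, hη⟩
  let ξ : P := γ u₀
  have hu₀ : ∀ v : U, u₀ ⤳ v := fun v =>
    U.ι.isOpenEmbedding.isInducing.specializes_iff.1 (genericPoint_specializes _)
  have hpξ : p ξ = genericPoint X := by
    show p (γ u₀) = _
    rw [← Scheme.Hom.comp_apply, graph_toBase]
    rfl
  -- the closure of the graph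
  let ι := γ.imageι
  let ξ₀ : γ.image := γ.toImage u₀
  have hιξ : ι ξ₀ = ξ := by
    show γ.imageι (γ.toImage u₀) = _
    rw [← Scheme.Hom.comp_apply, Scheme.Hom.toImage_imageι]
  have hspec : ∀ z : γ.image, ξ ⤳ ι z := fun z => by
    refine specializes_iff_mem_closure.2 (closure_minimal ?_ isClosed_closure
      ((show Set.range ι = closure (Set.range γ) from by
        rw [Scheme.IdealSheafData.range_subschemeι, Scheme.Hom.support_ker]).le ⟨z, rfl⟩))
    rintro _ ⟨v, rfl⟩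
    exact specializes_iff_mem_closure.1 ((hu₀ v).map γ.continuous)
  have hgen : IsGenericPoint ξ₀ Set.univ := Set.eq_univ_of_forall fun z =>
    specializes_iff_mem_closure.1 (ι.isClosedEmbedding.isInducing.specializes_iff.1 (hιξ ▸ hspec z))
  haveI : IrreducibleSpace ↥γ.image :=
    { isPreirreducible_univ := (hgen ▸ isIrreducible_singleton.closure :
        IsIrreducible (Set.univ : Set ↥γ.image)).2
      toNonempty := ⟨ξ₀⟩ }
  haveI : IsReduced γ.image := Groth.L20.Chevalley.isReduced_image γ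
  haveI : IsIntegral γ.image := isIntegral_of_irreducibleSpace_of_isReduced _
  haveI : IsLocallyNoetherian γ.image := LocallyOfFiniteType.isLocallyNoetherian ι
  -- the degree
  have hdeg : p.residueDegree ξ = 1 ∧ δP ξ = n := by
    have h1 := Groth.L22.Cyc.residueDegree_congr _ (graph_toBase U f) u₀
    rw [Groth.L22.Cyc.residueDegree_comp,
      Groth.L22.Cyc.residueDegree_eq_one U.ι _ (Groth.L22.FibreDim.residueFieldMap_bijective U.ι u₀),
      Groth.L22.Cyc.residueDegree_eq_one γ _ (Groth.L22.FibreDim.residueFieldMap_bijective γ u₀)] at h1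
    refine ⟨by simpa using h1, ?_⟩
    obtain ⟨m, hm, hd⟩ := hδP ξ
    have h2 := Groth.L22.Cyc.rtrdeg_congr _ (graph_toBase U f) u₀
    rw [Groth.L22.Cyc.rtrdeg_comp, Groth.L22.Bundle.rtrdeg_eq_zero U.ι, Groth.L22.Bundle.rtrdeg_eq_zero γ,
      add_zero] at h2
    have : m = 0 := Nat.cast_injective (R := Cardinal.{u}) (hm.symm.trans (h2.trans Nat.cast_zero.symm))
    rw [hd, hpξ, hn, this]
    simp
  -- the coordinate at the generic point
  let c := X.evaluation U (p ξ) (by rw [hpξ]; exact hη) f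
  have hc : c ≠ 0 := (hf.map _).ne_zero
  let t := P.presheaf.germ (chartOpen X 0) ξ (graph_mem_chart U f u₀) (tcoord X)
  have hres : P.residue ξ t = p.residueFieldMap ξ c :=
    (γ.residueFieldMap u₀).hom.injective (graph_residueFieldMap U f u₀)
  have hg : p.residueFieldMap ξ c ≠ 0 := (map_ne_zero _).2 hc
  have hd := Groth.L22.Cyc.map_divFun p hdP hX.2.2 hδP ξ _ hg x
  rw [if_pos (by rw [hpξ, hn, hdeg.2]), normGen_residueFieldMap p ξ hdeg.1] at hd
  rw [evaluation_congr U f hpξ hη _] at hd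
  rw [← hd]
  -- the sections of O(1)
  have hL := isInvertible_L X
  choose w hw using fun ζ => Groth.L22.C1.exists_isGen hL ζ
  let W : (ζ : P) → Cyc.secFibre (L X) ζ := fun ζ => Groth.L22.C1.mk (L X) (w ζ)
  let s0 := coord X 0
  let s1 := coord X 1
  have hD0 : Cyc.IsZeroSchemeOf (P1.sect X 0) (L X) s1 := (sect_spec X 0).2
  have hD1 : Cyc.IsZeroSchemeOf (P1.sect X 1) (L X) s0 := (sect_spec X 1).2
  haveI := (sect_spec X 0).1
  haveI := (sect_spec X 1).1
  have hne0 : Groth.L22.C1.mk (L X) ((L X).presheaf.germ ⊤ ξ trivial s0) ≠ 0 := by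
    rw [show s0 = coord X 0 from rfl, germ_coord X 0 (graph_mem_chart U f u₀)]
    exact Groth.L22.C1.mk_gen_ne_zero hL (Groth.L22.C1.isGen_germ (isFrame_coord X 0) _)
  have hmk1 : Groth.L22.C1.mk (L X) ((L X).presheaf.germ ⊤ ξ trivial s1) =
      t • Groth.L22.C1.mk (L X) ((L X).presheaf.germ ⊤ ξ trivial s0) := by
    rw [show s1 = coord X 1 from rfl, germ_coord_one X (graph_mem_chart U f u₀)]
    exact Submodule.Quotient.mk_smul _ _ _
  have hne1 : Groth.L22.C1.mk (L X) ((L X).presheaf.germ ⊤ ξ trivial s1) ≠ 0 := by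
    rw [show s1 = coord X 1 from rfl, germ_coord_one X (graph_mem_chart U f u₀),
      germ_coord X 0 (graph_mem_chart U f u₀)]
    intro h0
    rw [Groth.L22.C1.mk_smul_eq_zero_iff hL (Groth.L22.C1.isGen_germ (isFrame_coord X 0) _)] at h0
    exact hg (hres.symm.trans h0)
  let A : P → ℤ := fun y => Cyc.secDivFun δP (L X) ξ (Cyc.gysinChoice (L X) s1 W ξ) y
  let B : P → ℤ := fun y => Cyc.secDivFun δP (L X) ξ (Cyc.gysinChoice (L X) s0 W ξ) y
  have hAB : ∀ y, Cyc.divFun δP ξ (p.residueFieldMap ξ c) y = A y - B y := fun y => by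
    show _ = Cyc.secDivFun δP (L X) ξ (Cyc.gysinChoice (L X) s1 W ξ) y -
      Cyc.secDivFun δP (L X) ξ (Cyc.gysinChoice (L X) s0 W ξ) y
    rw [show Cyc.gysinChoice (L X) s1 W ξ = _ from if_pos hne1, show Cyc.gysinChoice (L X) s0 W ξ = _ from if_pos hne0,
      ← hres]
    rw [show (Submodule.Quotient.mk ((L X).presheaf.germ ⊤ ξ trivial s1) : Cyc.secFibre (L X) ξ) = _ from hmk1]
    rw [Groth.L22.C1.secDivFun_smul hdP hL ξ _ hne0 t (by rw [hres]; exact hg) y]
    ring
  have hA0 : ∀ y, y ∉ Set.range (P1.sect X 0) → A y = 0 := fun y hy =>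
    Groth.L22.C1.secDivFun_gysin_eq_zero _ _ hdP hL hD0 W ξ hy
  have hB0 : ∀ y, y ∉ Set.range (P1.sect X 1) → B y = 0 := fun y hy =>
    Groth.L22.C1.secDivFun_gysin_eq_zero _ _ hdP hL hD1 W ξ hy
  -- the fibres
  have hfib : ∀ (i : Fin (1 + 1)) (σ : (L X).presheaf.obj (Opposite.op ⊤)) [IsClosedImmersion (P1.sect X i)],
      Cyc.IsZeroSchemeOf (P1.sect X i) (L X) σ → Groth.L22.C1.mk (L X) ((L X).presheaf.germ ⊤ ξ trivial σ) ≠ 0 →
      Cyc.subschemeFun δ (n - 1) (pullback.snd ι (P1.sect X i)) x =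
        Cyc.secDivFun δP (L X) ξ (Cyc.gysinChoice (L X) σ W ξ) (P1.sect X i x) := by
    intro i σ _ hD hne
    let F := (Coh.push ι).obj (Coh.structureModule γ.image)
    have hF : Coh.IsCoh F := Groth.L16.CohClosedPush.isCoh_push ι Groth.L16.CohClosedPush.isCoh_structure
    have hsup : ∀ y, Nontrivial (F.presheaf.stalk y) → ξ ⤳ y := fun y hy => by
      obtain ⟨z, rfl⟩ := Groth.L22.P1Sub.mem_range_of_nontrivial_push ι hy
      exact hspec z
    have hdim : ∀ y, Nontrivial (F.presheaf.stalk y) → δP y ≤ n - 1 + 1 := fun y hy => by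
      by_cases e : ξ = y
      · subst e; rw [hdeg.2]; omega
      · have := (hdP ξ y (hsup y hy) e).1
        rw [hdeg.2] at this
        omega
    have htop : ∀ y, δP y = n - 1 + 1 → Nontrivial (F.presheaf.stalk y) → y = ξ := fun y h1 h2 => by
      by_contra e
      have := (hdP ξ y (hsup y h2) (Ne.symm e)).1
      rw [hdeg.2] at this
      omega
    have hout : ∀ y, δP y = n - 1 + 1 → Nontrivial (F.presheaf.stalk y) → y ∉ Set.range (P1.sect X i) :=
      fun y h1 h2 hy => by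
      rw [htop y h1 h2] at hy
      exact hne (hD.1.le hy)
    have hds := Groth.L22.P1Rat.delta_sect X hδP i
    have hg' := Groth.L22.C1.gysin_sheafFun' (P1.sect X i) hdP hL σ hD (n - 1) F hF hdim hout
      (fun d hd' => Groth.L22.P1Rat.injective_of_not_associated (P1.sect X i) hdP hF (n - 1) hdim hL hD hout d hd'
        fun hass => ?_) W x
    · rw [Groth.L22.P1Sub.subschemeFun_snd ι (P1.sect X i) hL hD, ← show (fun d => δP (P1.sect X i d)) = δ from funext hds,
        ← hg', Cyc.c1CapFun, finsum_eq_single _ ξ fun y hy => ?_]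
      · rw [Cyc.sheafFun, if_pos (by rw [hdeg.2]; ring), ← hιξ, Groth.L22.Sp.length_push]
        haveI : IsSimpleModule (γ.image.presheaf.stalk ξ₀) (γ.image.presheaf.stalk ξ₀) := by
          rw [show ξ₀ = genericPoint ↥γ.image from ((genericPoint_spec _).eq hgen).symm]
          exact inferInstanceAs (IsSimpleModule γ.image.functionField γ.image.functionField)
        rw [Module.length_eq_one]
        simp
      · by_contra h
        obtain ⟨h1, h2⟩ := Groth.L22.IntMult.sheafFun_ne_zero (left_ne_zero_of_mul h)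
        exact hy (htop y h1 h2)
    · have hnt : Nontrivial (F.presheaf.stalk (P1.sect X i d)) :=
        not_subsingleton_iff_nontrivial.1 fun h => not_isAssociatedPrime_of_subsingleton hass
      obtain ⟨z, hz⟩ := Groth.L22.P1Sub.mem_range_of_nontrivial_push ι hnt
      have hzass := Groth.L22.P1Sub.isAssociatedPrime_of_push ι z hz hass
      obtain ⟨-, v, hv⟩ := isAssociatedPrime_iff.1 hzass
      have hv0 : v ≠ 0 := fun e => (IsLocalRing.maximalIdeal.isMaximal _).ne_top (eq_top_iff.2 fun r _ => by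
        rw [hv, e, Submodule.mem_colon_singleton, smul_zero]; exact Submodule.zero_mem _)
      have hbot : IsLocalRing.maximalIdeal (γ.image.presheaf.stalk z) = ⊥ := eq_bot_iff.2 fun r hr => by
        rw [hv, Submodule.mem_colon_singleton, Submodule.mem_bot, smul_eq_mul] at hr
        exact (mul_eq_zero.1 hr).resolve_right hv0
      have hfld := IsLocalRing.isField_iff_maximalIdeal_eq.2 hbot
      have hzgen : z = ξ₀ := by
        by_contra hne'
        obtain ⟨r, hr⟩ : ξ₀ ∈ Set.range (γ.image.fromSpecStalk z) := by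
          rw [Scheme.range_fromSpecStalk]
          exact specializes_iff_mem_closure.2 ((hgen ▸ Set.mem_univ z : z ∈ closure {ξ₀}))
        have : r = IsLocalRing.closedPoint _ := PrimeSpectrum.ext (((@Ideal.eq_bot_or_top _ hfld.toField.toDivisionRing.toDivisionSemiring r.asIdeal).resolve_right
          r.2.ne_top).trans hbot.symm)
        rw [this, Scheme.fromSpecStalk_closedPoint] at hr
        exact hne' hr
      subst hzgen
      exact hne (hD.1.le ⟨d, (hz.symm.trans hιξ).symm.symm⟩)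
  show (∑ᶠ y ∈ p ⁻¹' {x}, Cyc.divFun δP ξ (p.residueFieldMap ξ c) y *
      ((AlgebraicCycle.mapCoeff p δP δ y : ℕ) : ℤ)) =
    Cyc.subschemeFun δ (n - 1) (pullback.snd ι (P1.sect X 0)) x -
      Cyc.subschemeFun δ (n - 1) (pullback.snd ι (P1.sect X 1)) x
  rw [hfib 0 s1 hD0 hne1, hfib 1 s0 hD1 hne0]
  have hcoef : ∀ i : Fin (1 + 1), ∀ [IsClosedImmersion (P1.sect X i)],
      AlgebraicCycle.mapCoeff p δP δ (P1.sect X i x) = 1 := fun i _ => by
    refine (if_pos ?_).trans (Groth.L22.P1Rat.residueDegree_sect X i x)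
    show δP (P1.sect X i x) = δ (p (P1.sect X i x))
    rw [Groth.L22.P1Rat.toBase_sect, Groth.L22.P1Rat.delta_sect X hδP]
  rw [finsum_mem_eq_sum_of_inter_support_eq _ (t := {P1.sect X 0 x, P1.sect X 1 x}),
    Finset.sum_pair (sect_zero_ne_sect_one X x), hAB, hAB, hcoef 0, hcoef 1]
  · show (A _ - B _) * _ + (A _ - B _) * _ = A _ - B _
    have hB1 : B (P1.sect X 0 x) = 0 := hB0 _ fun ⟨z, hz⟩ => by
      have hzx : z = x := ((Groth.L22.P1Rat.toBase_sect X 1 z).symm.trans
        (congrArg (fun y => CohB1.ProjSpaceOver.toBase 1 X y) hz)).trans (Groth.L22.P1Rat.toBase_sect X 0 x)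
      subst hzx
      exact sect_zero_ne_sect_one X _ hz.symm
    have hA1 : A (P1.sect X 1 x) = 0 := hA0 _ fun ⟨z, hz⟩ => by
      have hzx : z = x := ((Groth.L22.P1Rat.toBase_sect X 0 z).symm.trans
        (congrArg (fun y => CohB1.ProjSpaceOver.toBase 1 X y) hz)).trans (Groth.L22.P1Rat.toBase_sect X 1 x)
      subst hzx
      exact sect_zero_ne_sect_one X _ hz
    rw [hB1, hA1]
    push_cast
    show _ = A (P1.sect X 0 x) - B (P1.sect X 1 x)
    ring
  · ext y
    simp only [Set.mem_inter_iff, Function.mem_support, Finset.coe_insert, Finset.coe_singleton,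
      Set.mem_insert_iff, Set.mem_singleton_iff, Set.mem_preimage]
    refine ⟨fun ⟨hy, hne'⟩ => ⟨?_, hne'⟩, fun ⟨hy, hne'⟩ => ⟨?_, hne'⟩⟩
    · have h0 := left_ne_zero_of_mul hne'
      rw [hAB] at h0
      by_cases h : y ∈ Set.range (P1.sect X 0)
      · obtain ⟨z, rfl⟩ := h
        rw [Groth.L22.P1Rat.toBase_sect] at hy
        exact Or.inl (by rw [hy])
      · rw [hA0 y h, zero_sub, neg_ne_zero] at h0
        obtain ⟨z, rfl⟩ : y ∈ Set.range (P1.sect X 1) := by_contra fun h' => h0 (hB0 y h')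
        rw [Groth.L22.P1Rat.toBase_sect] at hy
        exact Or.inr (by rw [hy])
    · rcases hy with rfl | rfl <;> exact Groth.L22.P1Rat.toBase_sect X _ x

end Groth.L22.P1Graph
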