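import Groth.Agent.L22.Cyc.P1Rat
import Groth.Agent.L17.ClosedPush
import Groth.Agent.L22.WeakAssPoints
import Groth.Agent.L16.CohClosedPush

/-!
The fibres at `0` and `∞` of a closed subscheme of the projective line over `X` are rationally equivalent.
-/

set_option autoImplicit false
set_option linter.style.haveILetI false
set_option maxSynthPendingDepth 3
set_option backward.isDefEq.respectTransparency.types false
set_option backward.isDefEq.respectTransparency false

universe u

open CategoryTheory CategoryTheory.Limits AlgebraicGeometry TopologicalSpace IsLocalRing TensorProduct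

noncomputable section

namespace Groth.L22.P1Sub

open Groth.L22.C1 (IsGen)

variable {P Z : Scheme.{u}} (ι : Z ⟶ P) [IsClosedImmersion ι]

local notation "O_Z" => Coh.structureModule Z

/-- The stalk of the push forward of the structure sheaf, through the stalk map. -/
theorem exists_stalk_equiv {y : P} (z : Z) (hz : ι z = y) :
    ∃ (φ : P.presheaf.stalk y →+* Z.presheaf.stalk z)
      (e : ((Coh.push ι).obj O_Z).presheaf.stalk y ≃+ Z.presheaf.stalk z),
      Function.Surjective φ ∧ (∀ r v, e (r • v) = φ r * e v) ∧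
        φ = (ι.stalkMap z).hom.comp (P.presheaf.stalkSpecializes (specializes_of_eq hz)).hom := by
  subst hz
  let u := LinearEquiv.ofBijective
    (LinearMap.toSpanSingleton (Z.presheaf.stalk z) ((Coh.structureModule Z).presheaf.stalk z)
      (Groth.L22.oneGerm z))
    ⟨(injective_iff_map_eq_zero _).2 fun a ha => Groth.L22.eq_zero_of_smul_oneGerm ha,
      Groth.L22.stalk_smul_oneGerm_surjective z⟩
  have hs : P.presheaf.stalkSpecializes (specializes_of_eq (rfl : ι z = ι z)) = 𝟙 _ :=
    TopCat.Presheaf.stalkSpecializes_refl _ _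
  refine ⟨(ι.stalkMap z).hom, (AddEquiv.ofBijective (Groth.L17.ClosedPush.c₀ ι O_Z z)
    (Groth.L17.ClosedPush.c₀_bijective ι O_Z z)).trans u.symm.toAddEquiv, ι.stalkMap_surjective z,
    fun r v => ?_, by rw [hs]; rfl⟩
  show u.symm (Groth.L17.ClosedPush.c₀ ι O_Z z (r • v)) =
    ι.stalkMap z r * u.symm (Groth.L17.ClosedPush.c₀ ι O_Z z v)
  rw [Groth.L17.ClosedPush.c₀_smul]
  exact (map_smul u.symm _ _).trans (smul_eq_mul _ _)

/-- An associated maximal ideal of the pushed structure sheaf comes from the source. -/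
theorem isAssociatedPrime_of_push [IsLocallyNoetherian P] [IsLocallyNoetherian Z] {y : P} (z : Z) (hz : ι z = y)
    (h : IsAssociatedPrime (maximalIdeal (P.presheaf.stalk y)) (((Coh.push ι).obj O_Z).presheaf.stalk y)) :
    IsAssociatedPrime (maximalIdeal (Z.presheaf.stalk z)) (Z.presheaf.stalk z) := by
  obtain ⟨φ, e, hφ, he, -⟩ := exists_stalk_equiv ι z hz
  obtain ⟨-, v, hv⟩ := isAssociatedPrime_iff.1 h
  refine isAssociatedPrime_iff.2 ⟨inferInstance, e v, ?_⟩
  ext b
  obtain ⟨a, rfl⟩ := hφ b
  rw [Submodule.mem_colon_singleton, Submodule.mem_bot, smul_eq_mul, ← he, e.map_eq_zero_iff]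
  have h1 : a ∈ maximalIdeal (P.presheaf.stalk y) ↔ a • v = 0 := by
    rw [hv, Submodule.mem_colon_singleton, Submodule.mem_bot]
  rw [← h1]
  haveI : IsLocalHom φ := hφ.isLocalHom
  simp only [mem_maximalIdeal, mem_nonunits_iff, isUnit_map_iff]

/-- The stalk length of the restriction of the pushed structure sheaf to a hypersurface. -/
theorem length_quot_push {y : P} (z : Z) (hz : ι z = y) (g : P.presheaf.stalk y) :
    Module.length (P.presheaf.stalk y) (↥(((Coh.push ι).obj O_Z).presheaf.stalk y) ⧸
        LinearMap.range (LinearMap.lsmul (P.presheaf.stalk y) (((Coh.push ι).obj O_Z).presheaf.stalk y) g)) =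
      Module.length (Z.presheaf.stalk z) (↥(Z.presheaf.stalk z) ⧸
        Ideal.span {((ι.stalkMap z).hom.comp (P.presheaf.stalkSpecializes (specializes_of_eq hz)).hom) g}) := by
  obtain ⟨φ, e, hφ, he, hφd⟩ := exists_stalk_equiv ι z hz
  rw [← hφd]
  letI := φ.toAlgebra
  let el : ((Coh.push ι).obj O_Z).presheaf.stalk y ≃ₗ[P.presheaf.stalk y] Z.presheaf.stalk z :=
    { e with map_smul' := fun r v => he r v }
  have hmap : (LinearMap.range (LinearMap.lsmul (P.presheaf.stalk y) (((Coh.push ι).obj O_Z).presheaf.stalk y) g)).map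
      (el : ((Coh.push ι).obj O_Z).presheaf.stalk y →ₗ[P.presheaf.stalk y] Z.presheaf.stalk z) =
      (Ideal.span {φ g}).restrictScalars (P.presheaf.stalk y) := by
    ext b
    simp only [Submodule.mem_map, LinearMap.mem_range, Submodule.restrictScalars_mem, Ideal.mem_span_singleton]
    refine ⟨?_, fun ⟨c, hc⟩ => ⟨g • el.symm c, ⟨el.symm c, rfl⟩, ?_⟩⟩
    · rintro ⟨v, ⟨w, rfl⟩, rfl⟩
      exact ⟨e w, he g w⟩
    · exact (el.map_smul g _).trans ((congrArg (g • ·) (el.apply_symm_apply c)).trans hc.symm)
  rw [((Submodule.Quotient.equiv _ _ el hmap).trans (Submodule.Quotient.restrictScalarsEquiv _ _)).length_eq,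
    Module.length_eq_of_surjective (R := Z.presheaf.stalk z) (S := P.presheaf.stalk y) hφ]

variable {X : Scheme.{u}} (s : X ⟶ P) [IsClosedImmersion s] {L : P.Modules} (hL : PicF.IsInvertible L)
  {σ : L.presheaf.obj (Opposite.op ⊤)} (hD : Cyc.IsZeroSchemeOf s L σ)

include hL hD in
/-- The local length of the section of a closed subscheme over a Cartier divisor. -/
theorem length_section (w : ↥(pullback ι s)) :
    Module.length ((pullback ι s).presheaf.stalk w) ((pullback ι s).presheaf.stalk w) =
      Module.length (X.presheaf.stalk (pullback.snd ι s w))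
        (((Scheme.Modules.pullback s).obj ((Coh.push ι).obj O_Z)).presheaf.stalk (pullback.snd ι s w)) := by
  obtain ⟨t, g, ht, hg, hker⟩ := hD.2 (pullback.snd ι s w)
  have e : ι (pullback.fst ι s w) = s (pullback.snd ι s w) :=
    congrArg (fun φ : pullback ι s ⟶ P => φ w) pullback.condition
  rw [Groth.L22.C1.length_stalk_pullback_hyper s _ _ g hker, length_quot_push ι (pullback.fst ι s w) e g]
  set θ := ((pullback.fst ι s).stalkMap w).hom
  have hθ : Function.Surjective θ := (pullback.fst ι s).stalkMap_surjective w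
  have hk : RingHom.ker θ = Ideal.span
      {((ι.stalkMap (pullback.fst ι s w)).hom.comp (P.presheaf.stalkSpecializes (specializes_of_eq e)).hom) g} := by
    have key : ∀ {y : P} (h : ι (pullback.fst ι s w) = y) (d : X) (hd : s d = y) (t : L.presheaf.stalk y)
        (g : P.presheaf.stalk y), IsGen L t → L.presheaf.germ ⊤ y trivial σ = g • t →
        RingHom.ker θ = Ideal.span
          {((ι.stalkMap (pullback.fst ι s w)).hom.comp (P.presheaf.stalkSpecializes (specializes_of_eq h)).hom) g} := by
      rintro y rfl d hd t g ht hg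
      rw [Groth.L22.C1.ker_stalkMap_fst, ← Groth.L22.IntMult.stalkIdeal_eq,
        Groth.L22.C1.stalkIdeal_eq_span s hL σ hD d hd ht hg, Ideal.map_span, Set.image_singleton]
      congr 2
      show (ι.stalkMap _).hom g = (ι.stalkMap _).hom (P.presheaf.stalkSpecializes _ g)
      rw [TopCat.Presheaf.stalkSpecializes_refl]
      rfl
    exact key e _ rfl t g ht hg
  rw [← hk]
  letI := θ.toAlgebra
  exact (Module.length_eq_of_surjective (R := (pullback ι s).presheaf.stalk w)
    (S := Z.presheaf.stalk (pullback.fst ι s w)) hθ).symm.trans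
    ((Algebra.linearMap (Z.presheaf.stalk (pullback.fst ι s w))
      ((pullback ι s).presheaf.stalk w)).quotKerEquivOfSurjective hθ).length_eq.symm

omit [IsClosedImmersion ι] in
theorem nontrivial_of_pullback {F : P.Modules} {x : X}
    (h : Nontrivial (((Scheme.Modules.pullback s).obj F).presheaf.stalk x)) :
    Nontrivial (F.presheaf.stalk (s x)) := by
  refine not_subsingleton_iff_nontrivial.1 fun hs => not_subsingleton_iff_nontrivial.2 h ?_
  letI := (s.stalkMap x).hom.toAlgebra
  let el : ((Scheme.Modules.pullback s).obj F).presheaf.stalk x ≃ₗ[X.presheaf.stalk x]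
      X.presheaf.stalk x ⊗[P.presheaf.stalk (s x)] F.presheaf.stalk (s x) :=
    ((Groth.L00.PullStalk.stalkIso s x).app F).toLinearEquiv
  exact el.toEquiv.subsingleton

omit [IsClosedImmersion s] in
theorem mem_range_of_nontrivial_push {p : P} (h : Nontrivial (((Coh.push ι).obj O_Z).presheaf.stalk p)) :
    p ∈ Set.range ι :=
  by_contra fun hp => not_subsingleton_iff_nontrivial.2 h (Groth.L17.ClosedPush.subsingleton_stalk_push ι O_Z hp)

include hL hD in
theorem subschemeFun_snd (δ : X → ℤ) (k : ℤ) :
    Cyc.subschemeFun δ k (pullback.snd ι s) =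
      Cyc.sheafFun δ k ((Scheme.Modules.pullback s).obj ((Coh.push ι).obj O_Z)) := by
  funext x
  unfold Cyc.subschemeFun Cyc.sheafFun
  split_ifs with hk
  swap
  · rfl
  by_cases hx : x ∈ Set.range (pullback.snd ι s)
  · obtain ⟨w, rfl⟩ := hx
    have hs : {w' : ↥(pullback ι s) | pullback.snd ι s w' = pullback.snd ι s w} = {w} := by
      ext w'
      exact ⟨fun h => (pullback.snd ι s).isClosedEmbedding.injective h,
        fun h => by rw [Set.mem_singleton_iff] at h; exact congrArg _ h⟩
    rw [hs, finsum_mem_singleton, length_section ι s hL hD w]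
  · have hs : {w' : ↥(pullback ι s) | pullback.snd ι s w' = x} = ∅ :=
      Set.eq_empty_of_forall_notMem fun w' h => hx ⟨w', h⟩
    haveI : Subsingleton (((Scheme.Modules.pullback s).obj ((Coh.push ι).obj O_Z)).presheaf.stalk x) :=
      not_nontrivial_iff_subsingleton.1 fun h => hx (by
        rw [Scheme.Pullback.range_snd]
        exact mem_range_of_nontrivial_push ι (nontrivial_of_pullback s h))
    rw [hs, Module.length_eq_zero]
    simp

end Groth.L22.P1Sub
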